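import Mathlib

set_option autoImplicit false

namespace Cfsg.Agent.Helper96

open Matrix

section PSLTwoElt

variable {n : Type} [Fintype n] [DecidableEq n]

/-- a ring isomorphism induces an isomorphism of special linear groups -/
noncomputable def slMapEquiv {R S : Type*} [CommRing R] [CommRing S] (e : R ≃+* S) :
    Matrix.SpecialLinearGroup n R ≃* Matrix.SpecialLinearGroup n S where
  toFun := Matrix.SpecialLinearGroup.map (e : R →+* S)
  invFun := Matrix.SpecialLinearGroup.map (e.symm : S →+* R)
  left_inv g := by
    apply Subtype.ext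
    ext i j
    simp
  right_inv g := by
    apply Subtype.ext
    ext i j
    simp
  map_mul' := map_mul _

/-- over a field with two elements, the centre of `SL` is trivial -/
theorem sl_center_eq_bot {F : Type*} [Field F] [Fintype F] (hF : Fintype.card F = 2) :
    Subgroup.center (Matrix.SpecialLinearGroup n F) = ⊥ := by
  rw [eq_bot_iff]
  intro A hA
  rw [Subgroup.mem_bot]
  rcases isEmpty_or_nonempty n with hn | hn
  · exact Subsingleton.elim A 1
  rw [Matrix.SpecialLinearGroup.mem_center_iff] at hA
  obtain ⟨r, hr, hA⟩ := hA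
  have hr0 : r ≠ 0 := by
    rintro rfl
    rw [zero_pow (Fintype.card_ne_zero)] at hr
    exact zero_ne_one hr
  have hr1 : r = 1 := by
    have e := ZMod.ringEquivOfPrime F Nat.prime_two hF
    have hcases : ∀ a : ZMod 2, a = 0 ∨ a = 1 := by decide
    have hre : r = e (e.symm r) := (e.apply_symm_apply r).symm
    rcases hcases (e.symm r) with h | h
    · rw [h, map_zero] at hre
      exact absurd hre hr0
    · rw [h, map_one] at hre
      exact hre
  apply Subtype.ext
  rw [← hA, hr1]
  simp

/-- over a field with two elements, `PSL ≅ SL` -/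
noncomputable def pslEquivSL {F : Type*} [Field F] [Fintype F] (hF : Fintype.card F = 2) :
    Matrix.ProjectiveSpecialLinearGroup n F ≃* Matrix.SpecialLinearGroup n F :=
  (QuotientGroup.quotientMulEquivOfEq (sl_center_eq_bot hF)).trans QuotientGroup.quotientBot

theorem toGL_surjective_zmod_two :
    Function.Surjective (Matrix.SpecialLinearGroup.toGL :
      Matrix.SpecialLinearGroup n (ZMod 2) → GL n (ZMod 2)) := by
  intro g
  have hdet : (g : Matrix n n (ZMod 2)).det = 1 := by
    have h1 : IsUnit (g : Matrix n n (ZMod 2)).det := by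
      rw [← Matrix.isUnit_iff_isUnit_det]
      exact g.isUnit
    have hcases : ∀ a : ZMod 2, IsUnit a → a = 1 := by decide
    exact hcases _ h1
  exact ⟨⟨g, hdet⟩, Units.ext rfl⟩

/-- over `ZMod 2`, `SL ≅ GL` -/
noncomputable def slEquivGL : Matrix.SpecialLinearGroup n (ZMod 2) ≃* GL n (ZMod 2) :=
  MulEquiv.ofBijective Matrix.SpecialLinearGroup.toGL
    ⟨Matrix.SpecialLinearGroup.toGL_injective, toGL_surjective_zmod_two⟩

/-- over a field with two elements, `PSL_n(F) ≅ GL_n(ZMod 2)` -/
noncomputable def pslEquivGLZModTwo {F : Type*} [Field F] [Fintype F] (hF : Fintype.card F = 2) :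
    Matrix.ProjectiveSpecialLinearGroup n F ≃* GL n (ZMod 2) :=
  ((pslEquivSL hF).trans
    (slMapEquiv (ZMod.ringEquivOfPrime F Nat.prime_two hF).symm)).trans slEquivGL

end PSLTwoElt

end Cfsg.Agent.Helper96
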