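import Mathlib

/-!
# Short presentations of `SL₂(q)`: the basic words

For elements `h, u` of a group, `uz h u i = h^i u h^{-i}` and, for a polynomial `f` over `ZMod p`,
`PW p h u f = ∏_{i ≤ deg f} (uz h u i)^{f_i}`.
-/

set_option autoImplicit false

namespace Cfsg.Agent.Helper96.SLPres

open Polynomial

variable {D : Type*} [Group D] {E : Type*} [Group E]

/-- `u_i = h^i u h^{-i}` -/
def uz (h u : D) (i : ℤ) : D := h ^ i * u * (h ^ i)⁻¹

/-- the product `∏_{i ≤ deg f} u_i^{f_i}` -/
noncomputable def PW (p : ℕ) (h u : D) (f : (ZMod p)[X]) : D :=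
  ((List.range (f.natDegree + 1)).map fun i : ℕ => uz h u (i : ℤ) ^ (f.coeff i).val).prod

theorem uz_zero (h u : D) : uz h u 0 = u := by simp [uz]

theorem uz_one (h u : D) : uz h u 1 = h * u * h⁻¹ := by simp [uz]

theorem uz_conj (h u : D) (i j : ℤ) : h ^ j * uz h u i * (h ^ j)⁻¹ = uz h u (j + i) := by
  unfold uz
  rw [zpow_add, _root_.mul_inv_rev]
  group

theorem uz_succ (h u : D) (i : ℤ) : h * uz h u i * h⁻¹ = uz h u (i + 1) := by
  have := uz_conj h u i 1
  rw [zpow_one] at this
  rw [this, add_comm]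

theorem uz_pow (h u : D) (i : ℤ) (n : ℕ) : uz h u i ^ n = h ^ i * u ^ n * (h ^ i)⁻¹ := by
  unfold uz
  rw [conj_pow]

theorem map_uz (φ : D →* E) (h u : D) (i : ℤ) : φ (uz h u i) = uz (φ h) (φ u) i := by
  unfold uz
  rw [map_mul, map_mul, map_inv, map_zpow]

theorem map_PW (φ : D →* E) (p : ℕ) (h u : D) (f : (ZMod p)[X]) :
    φ (PW p h u f) = PW p (φ h) (φ u) f := by
  unfold PW
  rw [map_list_prod, List.map_map]
  congr 1
  apply List.map_congr_left
  intro i _
  simp only [Function.comp, map_pow, map_uz]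

/-- an element commuting with `h` and `u` commutes with all `u_i` -/
theorem commute_uz {z h u : D} (hh : Commute z h) (hu : Commute z u) (i : ℤ) :
    Commute z (uz h u i) := by
  unfold uz
  exact ((hh.zpow_right i).mul_right hu).mul_right (hh.zpow_right i).inv_right

theorem commute_PW {z h u : D} (hh : Commute z h) (hu : Commute z u) (p : ℕ) (f : (ZMod p)[X]) :
    Commute z (PW p h u f) := by
  unfold PW
  apply Commute.list_prod_right
  intro w hw
  rw [List.mem_map] at hw
  obtain ⟨i, _, rfl⟩ := hw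
  exact (commute_uz hh hu i).pow_right _

end Cfsg.Agent.Helper96.SLPres
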