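import Mathlib

/-!
# Rank-one Steinberg relations: formal consequences

`X : Bool → K → D` with additivity (A) and the conjugation relations (B') of the rank-one
Steinberg presentation. We derive the action of `w = w(1)` and `h(t) = w(t) w(1)⁻¹` on the root
elements and the identities needed for the Bruhat normal form.
-/

set_option autoImplicit false

namespace Cfsg.Agent.Helper96.StPres

variable {K : Type*} [Field K] {D : Type*} [Group D]

/-- `w_b(t) = x_b(t) x_{-b}(-t⁻¹) x_b(t)` -/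
def Wd (X : Bool → K → D) (b : Bool) (t : K) : D := X b t * X (!b) (-t⁻¹) * X b t

/-- the relations (A) and (B') -/
structure Rel (X : Bool → K → D) : Prop where
  add : ∀ b t u, X b (t + u) = X b t * X b u
  conj : ∀ b t u, t ≠ 0 → Wd X b t * X b u * (Wd X b t)⁻¹ = X (!b) (-(t⁻¹ ^ 2 * u))

variable {X : Bool → K → D} (hX : Rel X)

include hX

theorem X_zero (b : Bool) : X b 0 = 1 := by
  have h := hX.add b 0 0
  rw [add_zero] at h
  exact mul_eq_left.mp h.symm

theorem X_neg (b : Bool) (t : K) : (X b t)⁻¹ = X b (-t) := by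
  apply inv_eq_of_mul_eq_one_right
  rw [← hX.add, add_neg_cancel, X_zero hX]

theorem X_comm (b : Bool) (t u : K) : X b t * X b u = X b u * X b t := by
  rw [← hX.add, ← hX.add, add_comm]

theorem W_inv (b : Bool) (t : K) : (Wd X b t)⁻¹ = Wd X b (-t) := by
  unfold Wd
  rw [mul_inv_rev, mul_inv_rev, X_neg hX, X_neg hX, inv_neg, neg_neg, mul_assoc]

theorem W_swap (b : Bool) (t : K) (ht : t ≠ 0) : Wd X b t = Wd X (!b) (-t⁻¹) := by
  have hc := hX.conj b t t ht
  have e1 : -(t⁻¹ ^ 2 * t) = -t⁻¹ := by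
    field_simp
  rw [e1] at hc
  set a := X b t with ha
  set c := X (!b) (-t⁻¹) with hc'
  have hW : Wd X b t = a * c * a := rfl
  rw [hW] at hc
  have h2 : a * c * a * a = c * (a * c * a) := mul_inv_eq_iff_eq_mul.mp hc
  have h3 : a * c * a = c * a * c := by
    have := congrArg (· * a⁻¹) h2
    simpa [mul_assoc] using this
  rw [hW, h3]
  unfold Wd
  rw [Bool.not_not, inv_neg, inv_inv, neg_neg]

theorem conj' (b : Bool) (t u : K) (ht : t ≠ 0) :
    Wd X b t * X (!b) u * (Wd X b t)⁻¹ = X b (-(t ^ 2 * u)) := by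
  rw [W_swap hX b t ht]
  have h := hX.conj (!b) (-t⁻¹) u (neg_ne_zero.mpr (inv_ne_zero ht))
  rw [Bool.not_not] at h
  rw [h]
  congr 2
  rw [inv_neg, inv_inv, neg_sq]

/-! ### the elements `w`, `h(t)` -/

theorem w_x (u : K) : Wd X true 1 * X true u * (Wd X true 1)⁻¹ = X false (-u) := by
  have h := hX.conj true 1 u one_ne_zero
  rw [h]
  simp

theorem w_y (u : K) : Wd X true 1 * X false u * (Wd X true 1)⁻¹ = X true (-u) := by
  have h := conj' hX true 1 u one_ne_zero
  rw [Bool.not_true] at h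
  rw [h]
  simp

theorem winv_x (u : K) : (Wd X true 1)⁻¹ * X true u * Wd X true 1 = X false (-u) := by
  have h := w_y hX (-u)
  rw [neg_neg] at h
  rw [← h]; group

theorem winv_y (u : K) : (Wd X true 1)⁻¹ * X false u * Wd X true 1 = X true (-u) := by
  have h := w_x hX (-u)
  rw [neg_neg] at h
  rw [← h]; group

/-- `h(t) = w(t) w(1)⁻¹` -/
def hd (X : Bool → K → D) (t : K) : D := Wd X true t * (Wd X true 1)⁻¹

theorem h_x (t u : K) (ht : t ≠ 0) : hd X t * X true u * (hd X t)⁻¹ = X true (t ^ 2 * u) := by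
  unfold hd
  have e : Wd X true t * (Wd X true 1)⁻¹ * X true u * (Wd X true t * (Wd X true 1)⁻¹)⁻¹ =
      Wd X true t * ((Wd X true 1)⁻¹ * X true u * Wd X true 1) * (Wd X true t)⁻¹ := by group
  rw [e, winv_x hX]
  have h := conj' hX true t (-u) ht
  rw [Bool.not_true] at h
  rw [h]
  congr 1
  ring

theorem h_y (t u : K) (ht : t ≠ 0) :
    hd X t * X false u * (hd X t)⁻¹ = X false (t⁻¹ ^ 2 * u) := by
  unfold hd
  have e : Wd X true t * (Wd X true 1)⁻¹ * X false u * (Wd X true t * (Wd X true 1)⁻¹)⁻¹ =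
      Wd X true t * ((Wd X true 1)⁻¹ * X false u * Wd X true 1) * (Wd X true t)⁻¹ := by group
  rw [e, winv_y hX]
  have h := hX.conj true t (-u) ht
  rw [Bool.not_true] at h
  rw [h]
  congr 1
  ring

theorem w_W (t : K) (ht : t ≠ 0) :
    Wd X true 1 * Wd X true t * (Wd X true 1)⁻¹ = Wd X true t⁻¹ := by
  have e : Wd X true 1 * Wd X true t * (Wd X true 1)⁻¹ =
      (Wd X true 1 * X true t * (Wd X true 1)⁻¹) *
        (Wd X true 1 * X false (-t⁻¹) * (Wd X true 1)⁻¹) *
        (Wd X true 1 * X true t * (Wd X true 1)⁻¹) := by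
    conv_lhs => rw [show Wd X true t = X true t * X false (-t⁻¹) * X true t from rfl]
    group
  rw [e, w_x hX, w_y hX, neg_neg]
  rw [W_swap hX true t⁻¹ (inv_ne_zero ht), Bool.not_true, inv_inv]
  unfold Wd
  rw [Bool.not_false, inv_neg, neg_neg]

theorem w_h (t : K) (ht : t ≠ 0) :
    Wd X true 1 * hd X t * (Wd X true 1)⁻¹ = hd X t⁻¹ := by
  unfold hd
  rw [← w_W hX t ht]
  group

theorem h_neg_one : hd X (-1) = (Wd X true 1)⁻¹ * (Wd X true 1)⁻¹ := by
  unfold hd
  rw [← W_inv hX]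

theorem w_mul_W (u : K) : Wd X true 1 * Wd X true u = (hd X (-u))⁻¹ := by
  unfold hd
  rw [← W_inv hX]
  group

theorem x_eq (u : K) : X true u = Wd X true u * X true (-u) * X false u⁻¹ := by
  unfold Wd
  rw [Bool.not_true, ← X_neg hX true u, ← X_neg hX false u⁻¹]
  group

theorem w_x_w (u : K) :
    Wd X true 1 * X true u * Wd X true 1 =
      (hd X (-u))⁻¹ * X true (-u) * Wd X true 1 * X true (-u⁻¹) := by
  have h1 := winv_y hX (u⁻¹)
  have h2 : X false u⁻¹ * Wd X true 1 = Wd X true 1 * X true (-u⁻¹) := by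
    rw [← h1]; group
  conv_lhs => rw [x_eq hX u]
  calc Wd X true 1 * (Wd X true u * X true (-u) * X false u⁻¹) * Wd X true 1
      = (Wd X true 1 * Wd X true u) * X true (-u) * (X false u⁻¹ * Wd X true 1) := by group
    _ = (hd X (-u))⁻¹ * X true (-u) * (Wd X true 1 * X true (-u⁻¹)) := by
        rw [w_mul_W hX, h2]
    _ = _ := by group

end Cfsg.Agent.Helper96.StPres
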