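import Mathlib
import Cfsg.Prelude.Def_KGroupFacts

/-!
# Bounding the kernel of a stem extension by transfer into preimages of small subgroups

Generic tools: for a finite stem extension `σ : Γ →* G` and a subgroup `P ≤ G`, every `z ∈ ker σ`
satisfies `z ^ [G : P] ∈ ⁅σ⁻¹ P, σ⁻¹ P⁆` (transfer). The derived subgroup of `σ⁻¹ P` is computed when
`P` is cyclic (trivial) and when `P` has a cyclic subgroup of index two (cyclic, generated by one
commutator of lifts).
-/

set_option autoImplicit false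

namespace Cfsg.Agent.Helper96.StemBound

open Subgroup
open scoped commutatorElement

universe u v

/-- Transfer: the `index`-th power of a central element of the derived subgroup lies in the
derived subgroup of any subgroup of finite index containing it. -/
theorem pow_index_mem_commutator {Γ : Type*} [Group Γ] (H : Subgroup Γ) [H.FiniteIndex]
    (z : Γ) (hzc : z ∈ Subgroup.center Γ) (hz : z ∈ commutator Γ) :
    z ^ H.index ∈ ⁅H, H⁆ := by
  have hcomm : ∀ g : Γ, g * z = z * g := fun g => (Subgroup.mem_center_iff.mp hzc g)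
  have hpow : ∀ k : ℕ, ∀ g : Γ, g * z ^ k = z ^ k * g := by
    intro k g
    induction k with
    | zero => simp
    | succ k ih => rw [pow_succ, ← mul_assoc, ih, mul_assoc, hcomm, mul_assoc]
  have key : ∀ (k : ℕ) (g₀ : Γ), g₀⁻¹ * z ^ k * g₀ ∈ H → g₀⁻¹ * z ^ k * g₀ = z ^ k := by
    intro k g₀ _
    rw [hpow k g₀⁻¹, mul_assoc, inv_mul_cancel, mul_one]
  have h1 := MonoidHom.transfer_eq_pow (Abelianization.of : H →* Abelianization H) z key
  have h2 : MonoidHom.transfer (Abelianization.of : H →* Abelianization H) z = 1 :=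
    Abelianization.commutator_subset_ker _ hz
  rw [h2] at h1
  have h3 : (⟨z ^ H.index, MonoidHom.transfer_eq_pow_aux z key⟩ : H) ∈ commutator H := by
    rw [← Abelianization.ker_of, MonoidHom.mem_ker]
    exact h1.symm
  have h4 : ((⟨z ^ H.index, MonoidHom.transfer_eq_pow_aux z key⟩ : H) : Γ) ∈
      (commutator H).map H.subtype := ⟨_, h3, rfl⟩
  rw [Subgroup.map_subtype_commutator] at h4
  exact h4

variable {Γ : Type u} {G : Type v} [Group Γ] [Group G]

theorem ker_comm (σ : Γ →* G) (hσ : Cfsg.IsStemExtension σ) {z : Γ} (hz : z ∈ σ.ker) (g : Γ) :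
    g * z = z * g :=
  Subgroup.mem_center_iff.mp (hσ.2.1 hz) g

/-- Transfer for a stem extension: `z ^ [G : P]` lies in the derived subgroup of the preimage
of `P`. -/
theorem ker_pow_index_mem [Finite Γ] (σ : Γ →* G) (hσ : Cfsg.IsStemExtension σ) (P : Subgroup G)
    {z : Γ} (hz : z ∈ σ.ker) : z ^ P.index ∈ ⁅P.comap σ, P.comap σ⁆ := by
  have hidx : (P.comap σ).index = P.index := Subgroup.index_comap_of_surjective P hσ.1
  rw [← hidx]
  exact pow_index_mem_commutator (P.comap σ) z (hσ.2.1 hz) (hσ.2.2 hz)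

/-- Every element of the preimage of `zpowers (σ r)` is a power of `r` times a kernel element. -/
theorem exists_of_mem_comap_zpowers (σ : Γ →* G) (r : Γ) {h : Γ}
    (hh : h ∈ (zpowers (σ r)).comap σ) : ∃ k : ℤ, ∃ z ∈ σ.ker, h = r ^ k * z := by
  rw [Subgroup.mem_comap, Subgroup.mem_zpowers_iff] at hh
  obtain ⟨k, hk⟩ := hh
  refine ⟨k, (r ^ k)⁻¹ * h, ?_, by group⟩
  rw [MonoidHom.mem_ker, map_mul, map_inv, map_zpow, hk, inv_mul_cancel]

/-- The preimage of a cyclic subgroup under a central extension is abelian. -/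
theorem comm_of_mem_comap_zpowers (σ : Γ →* G) (hσ : Cfsg.IsStemExtension σ) (r : Γ) {a b : Γ}
    (ha : a ∈ (zpowers (σ r)).comap σ) (hb : b ∈ (zpowers (σ r)).comap σ) : a * b = b * a := by
  obtain ⟨k, z, hz, rfl⟩ := exists_of_mem_comap_zpowers σ r ha
  obtain ⟨l, w, hw, rfl⟩ := exists_of_mem_comap_zpowers σ r hb
  have hzc := ker_comm σ hσ hz
  have hwc := ker_comm σ hσ hw
  calc r ^ k * z * (r ^ l * w) = r ^ k * (z * r ^ l) * w := by group
    _ = r ^ k * (r ^ l * z) * w := by rw [hzc]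
    _ = (r ^ k * r ^ l) * (z * w) := by group
    _ = (r ^ l * r ^ k) * (w * z) := by rw [(Commute.zpow_zpow_self r k l).eq, ← hwc z]
    _ = r ^ l * (r ^ k * w) * z := by group
    _ = r ^ l * (w * r ^ k) * z := by rw [hwc]
    _ = r ^ l * w * (r ^ k * z) := by group

/-- The derived subgroup of the preimage of a cyclic subgroup is trivial. -/
theorem commutator_comap_zpowers (σ : Γ →* G) (hσ : Cfsg.IsStemExtension σ) (g : G) :
    ⁅(zpowers g).comap σ, (zpowers g).comap σ⁆ = ⊥ := by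
  obtain ⟨r, rfl⟩ := hσ.1 g
  rw [Subgroup.commutator_eq_bot_iff_le_centralizer]
  intro a ha
  rw [Subgroup.mem_centralizer_iff]
  intro b hb
  exact comm_of_mem_comap_zpowers σ hσ r hb ha

/-- Kernel elements are killed by the index of every cyclic subgroup. -/
theorem ker_pow_index_zpowers [Finite Γ] (σ : Γ →* G) (hσ : Cfsg.IsStemExtension σ) (g : G)
    {z : Γ} (hz : z ∈ σ.ker) : z ^ (zpowers g).index = 1 := by
  have h := ker_pow_index_mem σ hσ (zpowers g) hz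
  rw [commutator_comap_zpowers σ hσ g, Subgroup.mem_bot] at h
  exact h


section IndexTwo

variable (σ : Γ →* G) (hσ : Cfsg.IsStemExtension σ) (r s : Γ)

theorem conj_mem_comap (hnorm : σ s * σ r * (σ s)⁻¹ ∈ zpowers (σ r)) {a : Γ}
    (ha : a ∈ (zpowers (σ r)).comap σ) : s * a * s⁻¹ ∈ (zpowers (σ r)).comap σ := by
  rw [Subgroup.mem_comap, Subgroup.mem_zpowers_iff] at ha
  obtain ⟨k, hk⟩ := ha
  rw [Subgroup.mem_comap, map_mul, map_mul, map_inv, ← hk, ← conj_zpow]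
  exact Subgroup.zpow_mem _ hnorm k

include hσ in
theorem commElt_mul (hnorm : σ s * σ r * (σ s)⁻¹ ∈ zpowers (σ r)) {a b : Γ}
    (ha : a ∈ (zpowers (σ r)).comap σ) (hb : b ∈ (zpowers (σ r)).comap σ) :
    ⁅a * b, s⁆ = ⁅a, s⁆ * ⁅b, s⁆ := by
  have ha' : s * a⁻¹ * s⁻¹ ∈ (zpowers (σ r)).comap σ := conj_mem_comap σ r s hnorm (inv_mem ha)
  have hb' : s * b⁻¹ * s⁻¹ ∈ (zpowers (σ r)).comap σ := conj_mem_comap σ r s hnorm (inv_mem hb)
  have hc := comm_of_mem_comap_zpowers σ hσ r (mul_mem hb hb') ha'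
  have e1 : ⁅a * b, s⁆ = a * ((b * (s * b⁻¹ * s⁻¹)) * (s * a⁻¹ * s⁻¹)) := by
    rw [commutatorElement_def]; group
  have e2 : ⁅a, s⁆ * ⁅b, s⁆ = a * ((s * a⁻¹ * s⁻¹) * (b * (s * b⁻¹ * s⁻¹))) := by
    rw [commutatorElement_def, commutatorElement_def]; group
  rw [e1, e2, hc]

/-- `n ↦ ⁅n, s⁆` as a homomorphism on the preimage of `⟨σ r⟩`. -/
noncomputable def commHom (hnorm : σ s * σ r * (σ s)⁻¹ ∈ zpowers (σ r)) :
    ↥((zpowers (σ r)).comap σ) →* Γ :=
  MonoidHom.mk' (fun n => ⁅(n : Γ), s⁆) (fun a b => commElt_mul σ hσ r s hnorm a.2 b.2)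

theorem mem_comap_self : r ∈ (zpowers (σ r)).comap σ := by
  rw [Subgroup.mem_comap]; exact Subgroup.mem_zpowers _

theorem ker_le_comap (P : Subgroup G) : σ.ker ≤ P.comap σ := by
  intro z hz
  rw [Subgroup.mem_comap, MonoidHom.mem_ker.mp hz]
  exact one_mem _

include hσ in
theorem commElt_ker {z : Γ} (hz : z ∈ σ.ker) (g : Γ) : ⁅z, g⁆ = 1 := by
  rw [commutatorElement_eq_one_iff_mul_comm]
  exact (ker_comm σ hσ hz g).symm

include hσ in
/-- `⁅r ^ k * z, s⁆ = ⁅r, s⁆ ^ k` for `z` in the kernel. -/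
theorem commElt_zpow_mul (hnorm : σ s * σ r * (σ s)⁻¹ ∈ zpowers (σ r)) (k : ℤ) {z : Γ}
    (hz : z ∈ σ.ker) : ⁅r ^ k * z, s⁆ = ⁅r, s⁆ ^ k := by
  have hr := mem_comap_self σ r
  have hzN := ker_le_comap σ (zpowers (σ r)) hz
  have h1 := map_mul (commHom σ hσ r s hnorm) (⟨r, hr⟩ ^ k) ⟨z, hzN⟩
  have h2 := map_zpow (commHom σ hσ r s hnorm) ⟨r, hr⟩ k
  have h3 : (commHom σ hσ r s hnorm) ⟨z, hzN⟩ = 1 := commElt_ker σ hσ hz s
  rw [h2, h3, mul_one] at h1
  exact h1

include hσ in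
theorem commElt_mem_zpowers (hnorm : σ s * σ r * (σ s)⁻¹ ∈ zpowers (σ r)) {a : Γ}
    (ha : a ∈ (zpowers (σ r)).comap σ) : ⁅a, s⁆ ∈ zpowers ⁅r, s⁆ := by
  obtain ⟨k, z, hz, rfl⟩ := exists_of_mem_comap_zpowers σ r ha
  rw [commElt_zpow_mul σ hσ r s hnorm k hz]
  exact Subgroup.zpow_mem_zpowers _ k

include hσ in
/-- `⁅a, s * b⁆ = ⁅a, s⁆` for `a`, `b` in the preimage of `⟨σ r⟩`. -/
theorem commElt_mul_right {a b : Γ} (ha : a ∈ (zpowers (σ r)).comap σ)
    (hb : b ∈ (zpowers (σ r)).comap σ) : ⁅a, s * b⁆ = ⁅a, s⁆ := by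
  have hc := comm_of_mem_comap_zpowers σ hσ r hb (inv_mem ha)
  have e1 : ⁅a, s * b⁆ = a * s * (b * a⁻¹ * b⁻¹) * s⁻¹ := by
    rw [commutatorElement_def]; group
  rw [e1, hc, mul_inv_cancel_right, commutatorElement_def]

include hσ in
/-- The derived subgroup of the preimage of a subgroup with a cyclic subgroup `⟨σ r⟩` of index
at most two (normalised by `σ s`, the other coset being `σ s ⟨σ r⟩`) is inside `⟨⁅r, s⁆⟩`. -/
theorem commutator_comap_le_zpowers (P : Subgroup G)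
    (hP : ∀ g ∈ P, g ∈ zpowers (σ r) ∨ (σ s)⁻¹ * g ∈ zpowers (σ r))
    (hnorm : σ s * σ r * (σ s)⁻¹ ∈ zpowers (σ r)) :
    ⁅P.comap σ, P.comap σ⁆ ≤ zpowers ⁅r, s⁆ := by
  rw [Subgroup.commutator_le]
  have hform : ∀ h ∈ P.comap σ, h ∈ (zpowers (σ r)).comap σ ∨
      ∃ a ∈ (zpowers (σ r)).comap σ, h = s * a := by
    intro h hh
    rcases hP (σ h) hh with h1 | h1
    · exact Or.inl h1
    · refine Or.inr ⟨s⁻¹ * h, ?_, by group⟩
      rw [Subgroup.mem_comap, map_mul, map_inv]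
      exact h1
  intro h₁ hh₁ h₂ hh₂
  rcases hform h₁ hh₁ with ha | ⟨a, ha, rfl⟩ <;> rcases hform h₂ hh₂ with hb | ⟨b, hb, rfl⟩
  · rw [commutatorElement_eq_one_iff_mul_comm.mpr (comm_of_mem_comap_zpowers σ hσ r ha hb)]
    exact one_mem _
  · rw [commElt_mul_right σ hσ r s ha hb]
    exact commElt_mem_zpowers σ hσ r s hnorm ha
  · have e : ⁅s * a, h₂⁆ = (⁅h₂, s * a⁆)⁻¹ := (commutatorElement_inv _ _).symm
    rw [e, commElt_mul_right σ hσ r s hb ha]
    exact inv_mem (commElt_mem_zpowers σ hσ r s hnorm hb)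
  · -- both outside
    have hm : b * a⁻¹ ∈ (zpowers (σ r)).comap σ := mul_mem hb (inv_mem ha)
    have hm' : s * (b * a⁻¹) * s⁻¹ ∈ (zpowers (σ r)).comap σ := conj_mem_comap σ r s hnorm hm
    have hc := comm_of_mem_comap_zpowers σ hσ r ha hm'
    have e1 : ⁅s * a, s * b⁆ = s * ((a * (s * (b * a⁻¹) * s⁻¹)) * b⁻¹) * s⁻¹ := by
      rw [commutatorElement_def]; group
    have e2 : s * (((s * (b * a⁻¹) * s⁻¹) * a) * b⁻¹) * s⁻¹ = (⁅s * (b * a⁻¹) * s⁻¹, s⁆)⁻¹ := by
      rw [commutatorElement_def]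
      simp only [mul_inv_rev, inv_inv, mul_assoc, inv_mul_cancel_left]
    rw [e1, hc, e2]
    exact inv_mem (commElt_mem_zpowers σ hσ r s hnorm hm')

include hσ in
/-- Relation of the first kind: `σ r ^ f = 1` forces `⁅r, s⁆ ^ f = 1`. -/
theorem commElt_pow_eq_one_of_pow (hnorm : σ s * σ r * (σ s)⁻¹ ∈ zpowers (σ r)) (f : ℕ)
    (hf : σ r ^ f = 1) : ⁅r, s⁆ ^ f = 1 := by
  have hz : r ^ f ∈ σ.ker := by rw [MonoidHom.mem_ker, map_pow, hf]
  have h := commElt_zpow_mul σ hσ r s hnorm (f : ℤ) (one_mem σ.ker)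
  rw [mul_one, zpow_natCast, zpow_natCast, commElt_ker σ hσ hz s] at h
  exact h.symm

include hσ in
/-- Relation of the second kind: `(σ s * σ r ^ j) ^ 2 = σ r ^ f` forces `⁅r, s⁆ ^ f = 1`. -/
theorem commElt_pow_eq_one_of_sq (hnorm : σ s * σ r * (σ s)⁻¹ ∈ zpowers (σ r)) (j f : ℕ)
    (hf : (σ s * σ r ^ j) ^ 2 = σ r ^ f) : ⁅r, s⁆ ^ f = 1 := by
  have hrj : r ^ j ∈ (zpowers (σ r)).comap σ := pow_mem (mem_comap_self σ r) j
  have hu : (s * r ^ j) ^ 2 ∈ (zpowers (σ r)).comap σ := by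
    rw [Subgroup.mem_comap, map_pow, map_mul, map_pow, hf]
    exact Subgroup.npow_mem_zpowers _ f
  have hz : (r ^ f)⁻¹ * (s * r ^ j) ^ 2 ∈ σ.ker := by
    rw [MonoidHom.mem_ker, map_mul, map_inv, map_pow, map_pow, map_mul, map_pow, hf,
      inv_mul_cancel]
  have h0 : ∀ u : Γ, ⁅u ^ 2, u⁆ = 1 := by
    intro u; rw [commutatorElement_def]; group
  have h1 := h0 (s * r ^ j)
  rw [commElt_mul_right σ hσ r s hu hrj] at h1
  have h2 : (s * r ^ j) ^ 2 = r ^ (f : ℤ) * ((r ^ f)⁻¹ * (s * r ^ j) ^ 2) := by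
    rw [zpow_natCast]; group
  rw [h2, commElt_zpow_mul σ hσ r s hnorm (f : ℤ) hz, zpow_natCast] at h1
  exact h1

/-- A kernel element which is a power of `c` is a power of `c ^ orderOf (σ c)`. -/
theorem mem_zpowers_pow_of_mem_ker (c : Γ) {z : Γ} (hz : z ∈ σ.ker) (hzc : z ∈ zpowers c) :
    z ∈ zpowers (c ^ orderOf (σ c)) := by
  rw [Subgroup.mem_zpowers_iff] at hzc
  obtain ⟨k, rfl⟩ := hzc
  rw [MonoidHom.mem_ker, map_zpow] at hz
  obtain ⟨l, rfl⟩ := (orderOf_dvd_iff_zpow_eq_one).mpr hz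
  rw [zpow_mul, zpow_natCast]
  exact Subgroup.zpow_mem_zpowers _ l

end IndexTwo


section Transport

variable {G' : Type*} [Group G'] {Γ' : Type*} [Group Γ']

theorem ker_equiv_comp (σ : Γ →* G) (e : G ≃* G') : (e.toMonoidHom.comp σ).ker = σ.ker := by
  ext x
  rw [MonoidHom.mem_ker, MonoidHom.mem_ker, MonoidHom.comp_apply]
  exact e.map_eq_one_iff

theorem isStemExtension_equiv_comp (σ : Γ →* G) (hσ : Cfsg.IsStemExtension σ) (e : G ≃* G') :
    Cfsg.IsStemExtension (e.toMonoidHom.comp σ) := by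
  refine ⟨e.surjective.comp hσ.1, ?_, ?_⟩
  · rw [ker_equiv_comp]; exact hσ.2.1
  · rw [ker_equiv_comp]; exact hσ.2.2

theorem isStemExtension_comp_equiv (σ : Γ →* G) (hσ : Cfsg.IsStemExtension σ) (f : Γ' ≃* Γ) :
    Cfsg.IsStemExtension (σ.comp f.toMonoidHom) := by
  refine ⟨hσ.1.comp f.surjective, ?_, ?_⟩
  · intro x hx
    have hx' : f x ∈ σ.ker := hx
    rw [Subgroup.mem_center_iff]
    intro g
    apply f.injective
    rw [map_mul, map_mul]
    exact Subgroup.mem_center_iff.mp (hσ.2.1 hx') (f g)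
  · intro x hx
    have hx' : f x ∈ σ.ker := hx
    have h1 : f x ∈ commutator Γ := hσ.2.2 hx'
    have h2 : (commutator Γ).map f.symm.toMonoidHom ≤ commutator Γ' := by
      rw [commutator_def, Subgroup.map_commutator, commutator_def]
      exact Subgroup.commutator_mono le_top le_top
    have h3 := h2 ⟨f x, h1, rfl⟩
    simpa using h3

theorem isStemExtension_mk'_center (h : commutator Γ = ⊤) :
    Cfsg.IsStemExtension (QuotientGroup.mk' (Subgroup.center Γ)) := by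
  refine ⟨QuotientGroup.mk'_surjective _, ?_, ?_⟩
  · rw [QuotientGroup.ker_mk']
  · rw [h]; exact le_top

theorem card_eq_card_mul_card_ker (σ : Γ →* G) (hs : Function.Surjective σ) :
    Nat.card Γ = Nat.card G * Nat.card σ.ker := by
  rw [Subgroup.card_eq_card_quotient_mul_card_subgroup σ.ker,
    Nat.card_congr (QuotientGroup.quotientKerEquivOfSurjective σ hs).toEquiv]

/-- a homomorphism from `Multiplicative (ZMod 2)` onto a subgroup with at most two elements -/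
theorem exists_surjective_of_two (K : Subgroup Γ) (z₀ : Γ) (hz₀ : z₀ ∈ K) (h2 : z₀ ^ 2 = 1)
    (hK : ∀ z ∈ K, z = 1 ∨ z = z₀) :
    ∃ π : Multiplicative (ZMod 2) →* K, Function.Surjective π := by
  have hmul : ∀ a b : ZMod 2, z₀ ^ (a + b).val = z₀ ^ a.val * z₀ ^ b.val := by
    intro a b
    have hval : ∀ a b : ZMod 2, (a + b).val = a.val + b.val ∨ (a + b).val + 2 = a.val + b.val := by
      decide
    rcases hval a b with h | h
    · rw [h, pow_add]
    · rw [← pow_add, ← h, pow_add, h2, mul_one]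
  refine ⟨MonoidHom.mk' (fun a => ⟨z₀ ^ (Multiplicative.toAdd a).val, pow_mem hz₀ _⟩) ?_, ?_⟩
  · intro a b
    apply Subtype.ext
    exact hmul (Multiplicative.toAdd a) (Multiplicative.toAdd b)
  · rintro ⟨z, hz⟩
    rcases hK z hz with rfl | rfl
    · exact ⟨Multiplicative.ofAdd 0, by apply Subtype.ext; simp⟩
    · refine ⟨Multiplicative.ofAdd 1, ?_⟩
      apply Subtype.ext
      have h1 : (1 : ZMod 2).val = 1 := by decide
      show z ^ (1 : ZMod 2).val = z
      rw [h1, pow_one]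

end Transport

end Cfsg.Agent.Helper96.StemBound
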