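import Mathlib
import Cfsg.Agent.Helper96.StemBound
import Cfsg.Agent.Helper72.StemE8

/-!
# Stem extensions of `SL₂(q)`: generic ingredients

* `ker_eq_bot_of_forall_prime`: a kernel killed, for every prime `r`, by some exponent prime to `r`
  is trivial.
* `ker_pow_index_of_quaternion`: kernel elements of a stem extension are killed by the index of any
  generalised quaternion subgroup.
* `pairing_trivial`: a biadditive pairing on a field, invariant under simultaneous multiplication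
  by nonzero squares, is trivial as soon as the field has `s, t ≠ 0` with `s² + t² = 1`,
  `s² t² ≠ 1`.
* `exists_sq_pair_two`, `exists_sq_pair_odd`: such `s, t` exist in finite fields of
  characteristic two with more than `4` elements and of odd characteristic with more than `13`
  elements.
-/

set_option autoImplicit false

namespace Cfsg.Agent.Helper96.StemSLTwo

open Subgroup Cfsg.Agent.Helper96.StemBound Cfsg.Agent.Helper72.StemE8
open scoped commutatorElement

universe u v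

section Generic

variable {Γ : Type u} {G : Type v} [Group Γ] [Group G]

/-- A kernel which, for every prime `r`, is killed by an exponent prime to `r`, is trivial. -/
theorem ker_eq_bot_of_forall_prime (σ : Γ →* G)
    (h : ∀ r : ℕ, r.Prime → ∃ m : ℕ, ¬ r ∣ m ∧ ∀ z ∈ σ.ker, z ^ m = 1) : σ.ker = ⊥ := by
  rw [eq_bot_iff]
  intro z hz
  rw [Subgroup.mem_bot]
  by_contra hne
  have h1 : orderOf z ≠ 1 := fun h1 => hne (orderOf_eq_one_iff.mp h1)
  obtain ⟨r, hr, hdvd⟩ := Nat.exists_prime_and_dvd h1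
  obtain ⟨m, hm, hpow⟩ := h r hr
  exact hm (hdvd.trans (orderOf_dvd_of_pow_eq_one (hpow z hz)))

/-- Kernel elements of a stem extension are killed by the index of a subgroup whose preimage is
abelian. -/
theorem ker_pow_index_of_commutator_eq_bot [Finite Γ] (σ : Γ →* G)
    (hσ : Cfsg.IsStemExtension σ) (P : Subgroup G) (hP : ⁅P.comap σ, P.comap σ⁆ = ⊥)
    {z : Γ} (hz : z ∈ σ.ker) : z ^ P.index = 1 := by
  have h := ker_pow_index_mem σ hσ P hz
  rw [hP, Subgroup.mem_bot] at h
  exact h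

/-- Kernel elements of a stem extension are killed by the index of a cyclic subgroup. -/
theorem ker_pow_index_of_isCyclic [Finite Γ] (σ : Γ →* G)
    (hσ : Cfsg.IsStemExtension σ) (P : Subgroup G) [hc : IsCyclic P]
    {z : Γ} (hz : z ∈ σ.ker) : z ^ P.index = 1 := by
  obtain ⟨g, hg⟩ := hc.exists_generator
  have hP : P = zpowers (g : G) := by
    ext x
    constructor
    · intro hx
      have := hg ⟨x, hx⟩
      rw [Subgroup.mem_zpowers_iff] at this ⊢
      obtain ⟨k, hk⟩ := this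
      exact ⟨k, by have := congrArg Subtype.val hk; simpa using this⟩
    · intro hx
      rw [Subgroup.mem_zpowers_iff] at hx
      obtain ⟨k, rfl⟩ := hx
      exact zpow_mem g.2 k
  rw [hP]
  exact ker_pow_index_zpowers σ hσ _ hz

end Generic

section Quaternion

variable {Γ : Type u} {G : Type v} [Group Γ] [Group G]

open QuaternionGroup in
theorem quat_conj (n : ℕ) :
    (xa 0 : QuaternionGroup n) * a 1 * (xa 0)⁻¹ = (a 1)⁻¹ := by
  have h1 : (xa 0 : QuaternionGroup n) * a 1 = (a 1)⁻¹ * xa 0 := by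
    have hinv : ((a 1 : QuaternionGroup n))⁻¹ = a (-1) := rfl
    rw [hinv, xa_mul_a, a_mul_xa]
    congr 1
    ring
  rw [h1, mul_inv_cancel_right]

open QuaternionGroup in
theorem quat_comm (n : ℕ) :
    ⁅(a 1 : QuaternionGroup n), (xa 0 : QuaternionGroup n)⁆ = a 1 ^ 2 := by
  have h := quat_conj n
  have h2 : (xa 0 : QuaternionGroup n) * (a 1)⁻¹ * (xa 0)⁻¹ = a 1 := by
    have := congrArg (fun w => w⁻¹) h
    simp only [mul_inv_rev, inv_inv] at this
    rw [mul_assoc]; exact this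
  rw [commutatorElement_def, sq]
  calc (a 1 : QuaternionGroup n) * xa 0 * (a 1)⁻¹ * (xa 0)⁻¹
      = a 1 * (xa 0 * (a 1)⁻¹ * (xa 0)⁻¹) := by group
    _ = a 1 * a 1 := by rw [h2]

open QuaternionGroup in
theorem quat_orderOf_comm (n : ℕ) [NeZero n] :
    orderOf ⁅(a 1 : QuaternionGroup n), (xa 0 : QuaternionGroup n)⁆ = n := by
  rw [quat_comm, orderOf_pow' _ (by norm_num), orderOf_a_one]
  have hn : 0 < n := NeZero.pos n
  have : Nat.gcd (2 * n) 2 = 2 := by
    rw [Nat.gcd_comm]; exact Nat.gcd_eq_left (dvd_mul_right 2 n)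
  rw [this]; omega

open QuaternionGroup in
theorem quat_forms (n : ℕ) [NeZero n] (w : QuaternionGroup n) :
    (∃ i : ℕ, w = a 1 ^ i) ∨ ∃ i : ℕ, w = xa 0 * a 1 ^ i := by
  rcases w with i | i
  · left
    refine ⟨i.val, ?_⟩
    rw [a_one_pow, ZMod.natCast_zmod_val]
  · right
    refine ⟨i.val, ?_⟩
    rw [a_one_pow, ZMod.natCast_zmod_val, xa_mul_a, zero_add]

/-- Kernel elements of a stem extension are killed by the index of any generalised quaternion
subgroup. -/
theorem ker_pow_index_of_quaternion [Finite Γ] (σ : Γ →* G) (hσ : Cfsg.IsStemExtension σ)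
    (P : Subgroup G) (n : ℕ) [NeZero n] (φ : P ≃* QuaternionGroup n) {z : Γ} (hz : z ∈ σ.ker) :
    z ^ P.index = 1 := by
  set ψ : QuaternionGroup n →* G := P.subtype.comp φ.symm.toMonoidHom with hψ
  have hψinj : Function.Injective ψ := by
    rw [hψ]
    exact (Subgroup.subtype_injective P).comp φ.symm.injective
  have hψP : ∀ g ∈ P, ∃ w, g = ψ w := by
    intro g hg
    refine ⟨φ ⟨g, hg⟩, ?_⟩
    simp [hψ]
  obtain ⟨r, hr⟩ := hσ.1 (ψ (QuaternionGroup.a 1))
  obtain ⟨s, hs⟩ := hσ.1 (ψ (QuaternionGroup.xa 0))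
  have hnorm : σ s * σ r * (σ s)⁻¹ ∈ zpowers (σ r) := by
    rw [hr, hs, ← map_inv, ← map_mul, ← map_mul, quat_conj, map_inv]
    exact inv_mem (Subgroup.mem_zpowers _)
  have hPf : ∀ g ∈ P, g ∈ zpowers (σ r) ∨ (σ s)⁻¹ * g ∈ zpowers (σ r) := by
    intro g hg
    obtain ⟨w, rfl⟩ := hψP g hg
    rw [hr, hs]
    rcases quat_forms n w with ⟨i, rfl⟩ | ⟨i, rfl⟩
    · left
      rw [map_pow]; exact Subgroup.npow_mem_zpowers _ _
    · right
      rw [map_mul, map_pow, inv_mul_cancel_left]; exact Subgroup.npow_mem_zpowers _ _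
  have hle := commutator_comap_le_zpowers σ hσ r s P hPf hnorm
  have hcn : ⁅r, s⁆ ^ n = 1 := by
    apply commElt_pow_eq_one_of_sq σ hσ r s hnorm 0 n
    rw [hr, hs, pow_zero, mul_one, ← map_pow, ← map_pow, QuaternionGroup.xa_sq,
      QuaternionGroup.a_one_pow]
  have hord : orderOf (σ ⁅r, s⁆) = n := by
    rw [map_commutatorElement, hr, hs, ← map_commutatorElement, orderOf_injective ψ hψinj,
      quat_orderOf_comm]
  have h1 := hle (ker_pow_index_mem σ hσ P hz)
  have h2 := mem_zpowers_pow_of_mem_ker σ ⁅r, s⁆ (pow_mem hz _) h1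
  rw [hord, hcn, Subgroup.zpowers_one_eq_bot, Subgroup.mem_bot] at h2
  exact h2

end Quaternion

section Pairing

/-- A biadditive pairing on a field with values in a group, invariant under simultaneous
multiplication by nonzero squares, is trivial if there are `s, t ≠ 0` with `s² + t² = 1` and
`s² t² ≠ 1`. -/
theorem pairing_trivial {F : Type*} [Field F] {Γ : Type*} [Group Γ] (β : F → F → Γ)
    (hl : ∀ a a' b, β (a + a') b = β a b * β a' b)
    (hr : ∀ a b b', β a (b + b') = β a b * β a b')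
    (hinv : ∀ t a b, t ≠ 0 → β (t ^ 2 * a) (t ^ 2 * b) = β a b)
    (s t : F) (hs : s ≠ 0) (ht : t ≠ 0) (hst : s ^ 2 + t ^ 2 = 1) (hμ : s ^ 2 * t ^ 2 ≠ 1) :
    ∀ a b, β a b = 1 := by
  have hs2 : s ^ 2 ≠ 0 := pow_ne_zero 2 hs
  have ht2 : t ^ 2 ≠ 0 := pow_ne_zero 2 ht
  have hst0 : s * t ≠ 0 := mul_ne_zero hs ht
  -- β (μ a) b = β a b for μ = s² t²
  have key : ∀ a b, β a b = β ((s * t) ^ 2 * a) b := by
    intro a b
    have e1 : a = s ^ 2 * a + t ^ 2 * a := by rw [← add_mul, hst, one_mul]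
    have e2 : β (s ^ 2 * a) b = β a ((s ^ 2)⁻¹ * b) := by
      have := hinv s a ((s ^ 2)⁻¹ * b) hs
      rw [← mul_assoc, mul_inv_cancel₀ hs2, one_mul] at this
      exact this
    have e3 : β (t ^ 2 * a) b = β a ((t ^ 2)⁻¹ * b) := by
      have := hinv t a ((t ^ 2)⁻¹ * b) ht
      rw [← mul_assoc, mul_inv_cancel₀ ht2, one_mul] at this
      exact this
    have e4 : (s ^ 2)⁻¹ * b + (t ^ 2)⁻¹ * b = ((s * t) ^ 2)⁻¹ * b := by
      have : (s ^ 2)⁻¹ + (t ^ 2)⁻¹ = ((s * t) ^ 2)⁻¹ := by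
        field_simp
        linear_combination hst
      rw [← add_mul, this]
    have e5 : β ((s * t) ^ 2 * a) b = β a (((s * t) ^ 2)⁻¹ * b) := by
      have := hinv (s * t) a (((s * t) ^ 2)⁻¹ * b) hst0
      rw [← mul_assoc, mul_inv_cancel₀ (pow_ne_zero 2 hst0), one_mul] at this
      exact this
    calc β a b = β (s ^ 2 * a + t ^ 2 * a) b := by rw [← e1]
      _ = β (s ^ 2 * a) b * β (t ^ 2 * a) b := hl _ _ _
      _ = β a ((s ^ 2)⁻¹ * b) * β a ((t ^ 2)⁻¹ * b) := by rw [e2, e3]
      _ = β a ((s ^ 2)⁻¹ * b + (t ^ 2)⁻¹ * b) := (hr _ _ _).symm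
      _ = β a (((s * t) ^ 2)⁻¹ * b) := by rw [e4]
      _ = β ((s * t) ^ 2 * a) b := e5.symm
  have hμ' : 1 - (s * t) ^ 2 ≠ 0 := by
    rw [mul_pow]
    intro h
    exact hμ (sub_eq_zero.mp h).symm
  have key2 : ∀ a b, β ((1 - (s * t) ^ 2) * a) b = 1 := by
    intro a b
    have e1 : a = (s * t) ^ 2 * a + (1 - (s * t) ^ 2) * a := by ring
    have h1 : β a b = β ((s * t) ^ 2 * a) b * β ((1 - (s * t) ^ 2) * a) b := by
      conv_lhs => rw [e1]
      exact hl _ _ _
    rw [← key a b] at h1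
    exact (mul_eq_left.mp h1.symm)
  intro a b
  have := key2 ((1 - (s * t) ^ 2)⁻¹ * a) b
  rw [← mul_assoc, mul_inv_cancel₀ hμ', one_mul] at this
  exact this

end Pairing

section Fields

open Polynomial

/-- In a finite field of characteristic two with more than four elements there are `s, t ≠ 0`
with `s² + t² = 1` and `s² t² ≠ 1`. -/
theorem exists_sq_pair_two (F : Type*) [Field F] [Fintype F] [CharP F 2]
    (hq : 4 < Fintype.card F) :
    ∃ s t : F, s ≠ 0 ∧ t ≠ 0 ∧ s ^ 2 + t ^ 2 = 1 ∧ s ^ 2 * t ^ 2 ≠ 1 := by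
  have h2 : (2 : F) = 0 := CharTwo.two_eq_zero
  set P : F[X] := X * (X + 1) * (X ^ 2 + X + 1) with hP
  have hdeg : P.natDegree ≤ 4 := by
    rw [hP]; compute_degree
  have hP0 : P ≠ 0 := by
    rw [hP]
    refine mul_ne_zero (mul_ne_zero X_ne_zero ?_) ?_
    · intro h
      have := congrArg (Polynomial.eval 0) h
      simp at this
    · intro h
      have := congrArg (Polynomial.eval 0) h
      simp at this
  have hcard : (P.natDegree : Cardinal) < Cardinal.mk F := by
    rw [Cardinal.mk_fintype]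
    exact_mod_cast lt_of_le_of_lt hdeg hq
  obtain ⟨s, hs⟩ := Polynomial.exists_eval_ne_zero_of_natDegree_lt_card P hP0 hcard
  rw [hP] at hs
  simp only [eval_mul, eval_add, eval_X, eval_one, eval_pow] at hs
  have hs0 : s ≠ 0 := by
    rintro rfl; simp at hs
  have hs1 : s + 1 ≠ 0 := by
    intro h; rw [h] at hs; simp at hs
  have hs3 : s ^ 2 + s + 1 ≠ 0 := by
    intro h; rw [h] at hs; simp at hs
  refine ⟨s, s + 1, hs0, hs1, ?_, ?_⟩
  · linear_combination (s ^ 2 + s) * h2
  · intro h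
    apply hs3
    have : (s ^ 2 + s + 1) ^ 2 = 0 := by
      linear_combination h + (s ^ 2 + s + 1) * h2
    exact pow_eq_zero_iff (two_ne_zero) |>.mp this

/-- In a finite field of odd characteristic with more than `13` elements there are `s, t ≠ 0`
with `s² + t² = 1` and `s² t² ≠ 1`. -/
theorem exists_sq_pair_odd (F : Type*) [Field F] [Fintype F] (h2 : (2 : F) ≠ 0)
    (hq : 13 < Fintype.card F) :
    ∃ s t : F, s ≠ 0 ∧ t ≠ 0 ∧ s ^ 2 + t ^ 2 = 1 ∧ s ^ 2 * t ^ 2 ≠ 1 := by
  set P : F[X] := X * (1 - X ^ 2) * (1 + X ^ 2) *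
    ((1 + X ^ 2) ^ 4 - 4 * X ^ 2 * (1 - X ^ 2) ^ 2) with hP
  have hdeg : P.natDegree ≤ 13 := by
    rw [hP]; compute_degree
  have hP0 : P ≠ 0 := by
    rw [hP]
    refine mul_ne_zero (mul_ne_zero (mul_ne_zero X_ne_zero ?_) ?_) ?_
    · intro h
      have := congrArg (Polynomial.eval 0) h
      simp at this
    · intro h
      have := congrArg (Polynomial.eval 0) h
      simp at this
    · intro h
      have := congrArg (Polynomial.eval 0) h
      simp at this
  have hcard : (P.natDegree : Cardinal) < Cardinal.mk F := by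
    rw [Cardinal.mk_fintype]
    exact_mod_cast lt_of_le_of_lt hdeg hq
  obtain ⟨x, hx⟩ := Polynomial.exists_eval_ne_zero_of_natDegree_lt_card P hP0 hcard
  rw [hP] at hx
  simp only [eval_mul, eval_add, eval_sub, eval_X, eval_one, eval_pow, eval_ofNat] at hx
  have hx0 : x ≠ 0 := by
    rintro rfl; simp at hx
  have hx1 : 1 - x ^ 2 ≠ 0 := by
    intro h; rw [h] at hx; simp at hx
  have hx2 : 1 + x ^ 2 ≠ 0 := by
    intro h; rw [h] at hx; simp at hx
  have hx3 : (1 + x ^ 2) ^ 4 - 4 * x ^ 2 * (1 - x ^ 2) ^ 2 ≠ 0 := by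
    intro h; rw [h] at hx; simp at hx
  refine ⟨(1 - x ^ 2) / (1 + x ^ 2), 2 * x / (1 + x ^ 2), div_ne_zero hx1 hx2,
    div_ne_zero (mul_ne_zero h2 hx0) hx2, ?_, ?_⟩
  · field_simp
    ring
  · intro h
    apply hx3
    field_simp at h
    linear_combination -h

end Fields

end Cfsg.Agent.Helper96.StemSLTwo
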