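import Mathlib
import Cfsg.Agent.Helper96.StemSLTwoA
import Cfsg.Agent.Helper5.ProjLine
import Cfsg.Agent.S0261
import Cfsg.Agent.S0262

/-!
# Stem extensions of `SL₂(q)`, `q ≠ 4, 9`, are trivial

Transfer, Sylow by Sylow: odd `r ≠ p` cyclic Sylow subgroups (S0262), `r = 2 ≠ p` generalised
quaternion Sylow subgroups (S0261), `r = p` the unitriangular group, whose preimage is abelian
since the commutator pairing is biadditive and invariant under the torus.
-/

set_option autoImplicit false

namespace Cfsg.Agent.Helper96.StemSLTwo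

open Subgroup Matrix Cfsg.Agent.Helper96.StemBound Cfsg.Agent.Helper72.StemE8
open scoped commutatorElement

universe u v

section Generic

variable {Γ : Type u} {G : Type v} [Group Γ] [Group G]

/-- The preimage of a subgroup parametrised additively by a field, on which a torus acts through
multiplication by squares, is abelian. -/
theorem commutator_comap_eq_bot_of_pairing {F : Type*} [Field F] (σ : Γ →* G)
    (hσ : Cfsg.IsStemExtension σ)
    (um : F → G) (hu : ∀ a b, um (a + b) = um a * um b)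
    (hd : ∀ t : F, t ≠ 0 → ∃ d : G, ∀ a, d * um a * d⁻¹ = um (t ^ 2 * a))
    (s t : F) (hs : s ≠ 0) (ht : t ≠ 0) (hst : s ^ 2 + t ^ 2 = 1) (hμ : s ^ 2 * t ^ 2 ≠ 1)
    (U : Subgroup G) (hU : ∀ g ∈ U, ∃ a, g = um a) :
    ⁅U.comap σ, U.comap σ⁆ = ⊥ := by
  classical
  let lift : F → Γ := fun a => Function.surjInv hσ.1 (um a)
  have hlift : ∀ a, σ (lift a) = um a := fun a => Function.surjInv_eq hσ.1 (um a)
  have hcomm : ∀ a b, um a * um b = um b * um a := by
    intro a b; rw [← hu, ← hu, add_comm]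
  let β : F → F → Γ := fun a b => ⁅lift a, lift b⁆
  have hβ : ∀ a b (x y : Γ), σ x = um a → σ y = um b → ⁅x, y⁆ = β a b :=
    fun a b x y hx hy => commElt_congr σ hσ (hx.trans (hlift a).symm) (hy.trans (hlift b).symm)
  have hl : ∀ a a' b, β (a + a') b = β a b * β a' b := by
    intro a a' b
    have h1 : ⁅lift a' * lift a, lift b⁆ = β (a + a') b :=
      hβ _ _ _ _ (by rw [map_mul, hlift, hlift, ← hu, add_comm]) (hlift b)
    rw [← h1]
    exact commElt_mul_left σ hσ (lift a') (lift a) (lift b) (by rw [hlift, hlift]; exact hcomm a b)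
  have hanti : ∀ a b, β a b = (β b a)⁻¹ :=
    fun a b => (commutatorElement_inv (lift b) (lift a)).symm
  have hr : ∀ a b b', β a (b + b') = β a b * β a b' := by
    intro a b b'
    rw [hanti a (b + b'), add_comm b b', hl b' b a, _root_.mul_inv_rev, ← hanti, ← hanti]
  have hinv : ∀ t a b, t ≠ 0 → β (t ^ 2 * a) (t ^ 2 * b) = β a b := by
    intro t a b ht
    obtain ⟨d, hd⟩ := hd t ht
    obtain ⟨d', rfl⟩ := hσ.1 d
    have h1 : ⁅d' * lift a * d'⁻¹, d' * lift b * d'⁻¹⁆ = β (t ^ 2 * a) (t ^ 2 * b) :=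
      hβ _ _ _ _ (by rw [map_mul, map_mul, map_inv, hlift, hd])
        (by rw [map_mul, map_mul, map_inv, hlift, hd])
    rw [← h1]
    exact commElt_conj σ hσ d' (lift a) (lift b) (by rw [hlift, hlift]; exact hcomm a b)
  have htriv := pairing_trivial β hl hr hinv s t hs ht hst hμ
  rw [eq_bot_iff, Subgroup.commutator_le]
  intro h₁ hh₁ h₂ hh₂
  rw [Subgroup.mem_bot]
  obtain ⟨a, ha⟩ := hU _ hh₁
  obtain ⟨b, hb⟩ := hU _ hh₂
  rw [hβ a b h₁ h₂ ha hb]
  exact htriv a b

end Generic

section SLTwo

variable (F : Type u) [Field F]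

/-- the unitriangular matrix with entry `a` -/
def uMat (a : F) : SpecialLinearGroup (Fin 2) F :=
  ⟨!![1, a; 0, 1], by simp [Matrix.det_fin_two]⟩

variable {F}

theorem uMat_coe (a : F) : (uMat F a : Matrix (Fin 2) (Fin 2) F) = !![1, a; 0, 1] := rfl

theorem uMat_add (a b : F) : uMat F (a + b) = uMat F a * uMat F b := by
  have h : (uMat F (a + b) : Matrix (Fin 2) (Fin 2) F) =
      ((uMat F a * uMat F b : SpecialLinearGroup (Fin 2) F) : Matrix (Fin 2) (Fin 2) F) := by
    rw [Matrix.SpecialLinearGroup.coe_mul, uMat_coe, uMat_coe, uMat_coe]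
    ext i j
    fin_cases i <;> fin_cases j <;>
      simp [Matrix.mul_apply, Fin.sum_univ_two, add_comm]
  exact Subtype.ext h

theorem uMat_zero : uMat F 0 = 1 := by
  have h : (uMat F 0 : Matrix (Fin 2) (Fin 2) F) =
      ((1 : SpecialLinearGroup (Fin 2) F) : Matrix (Fin 2) (Fin 2) F) := by
    rw [Matrix.SpecialLinearGroup.coe_one, uMat_coe]
    ext i j
    fin_cases i <;> fin_cases j <;> simp
  exact Subtype.ext h

variable (F)

/-- `a ↦ [[1, a], [0, 1]]` as a homomorphism from the additive group of the field. -/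
def uHom : Multiplicative F →* SpecialLinearGroup (Fin 2) F where
  toFun a := uMat F (Multiplicative.toAdd a)
  map_one' := uMat_zero
  map_mul' a b := uMat_add _ _

variable {F}

theorem uMat_injective : Function.Injective (uMat F) := by
  intro a b h
  have h2 : (uMat F a : Matrix (Fin 2) (Fin 2) F) 0 1 = (uMat F b : Matrix (Fin 2) (Fin 2) F) 0 1 := by
    rw [h]
  simpa [uMat_coe] using h2

theorem uHom_injective : Function.Injective (uHom F) := by
  intro a b h
  have : uMat F (Multiplicative.toAdd a) = uMat F (Multiplicative.toAdd b) := h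
  exact Multiplicative.toAdd.injective (uMat_injective this)

/-- the diagonal matrix `diag(t, t⁻¹)` -/
def dMat (t : F) (ht : t ≠ 0) : SpecialLinearGroup (Fin 2) F :=
  ⟨!![t, 0; 0, t⁻¹], by simp [Matrix.det_fin_two, ht]⟩

theorem dMat_coe (t : F) (ht : t ≠ 0) :
    (dMat t ht : Matrix (Fin 2) (Fin 2) F) = !![t, 0; 0, t⁻¹] := rfl

theorem dMat_conj (t : F) (ht : t ≠ 0) (a : F) :
    dMat t ht * uMat F a * (dMat t ht)⁻¹ = uMat F (t ^ 2 * a) := by
  rw [mul_inv_eq_iff_eq_mul]
  have h : ((dMat t ht * uMat F a : SpecialLinearGroup (Fin 2) F) : Matrix (Fin 2) (Fin 2) F) =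
      ((uMat F (t ^ 2 * a) * dMat t ht : SpecialLinearGroup (Fin 2) F) :
        Matrix (Fin 2) (Fin 2) F) := by
    rw [Matrix.SpecialLinearGroup.coe_mul, Matrix.SpecialLinearGroup.coe_mul, uMat_coe, uMat_coe,
      dMat_coe]
    ext i j
    fin_cases i <;> fin_cases j <;>
      simp [Matrix.mul_apply, Fin.sum_univ_two, sq, ht, mul_assoc] <;> field_simp
  exact Subtype.ext h

variable (F)

/-- the group of upper unitriangular matrices -/
def unip : Subgroup (SpecialLinearGroup (Fin 2) F) := (uHom F).range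

variable {F}

theorem mem_unip {g : SpecialLinearGroup (Fin 2) F} (hg : g ∈ unip F) : ∃ a, g = uMat F a := by
  obtain ⟨a, rfl⟩ := hg
  exact ⟨Multiplicative.toAdd a, rfl⟩

theorem card_unip [Fintype F] : Nat.card (unip F) = Fintype.card F := by
  unfold unip
  rw [← Nat.card_eq_fintype_card]
  have h := Nat.card_range_of_injective (uHom_injective (F := F))
  rw [show Nat.card (Multiplicative F) = Nat.card F from rfl] at h
  rw [← h]
  rfl

theorem index_unip [Fintype F] : (unip F).index = Fintype.card F ^ 2 - 1 := by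
  have h1 := Subgroup.card_mul_index (unip F)
  rw [card_unip, Cfsg.Agent.Helper5.card_SL2] at h1
  exact Nat.eq_of_mul_eq_mul_left Fintype.card_pos h1

end SLTwo

end Cfsg.Agent.Helper96.StemSLTwo
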