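import Mathlib
import Cfsg.Agent.Helper96.StemSLTwoB

/-!
# Stem extensions of `SL₂(q)`, `q ≠ 4, 9`, are trivial: assembly
-/

set_option autoImplicit false

namespace Cfsg.Agent.Helper96.StemSLTwo

open Subgroup Matrix Cfsg.Agent.Helper96.StemBound Cfsg.Agent.Helper72.StemE8
open scoped commutatorElement

universe u v

variable {F : Type u} [Field F] [Fintype F]

/-- In a field of prime cardinality every element is an integer multiple of one. -/
theorem exists_zsmul_one_of_prime_card (hq : (Fintype.card F).Prime) (a : F) :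
    ∃ k : ℤ, a = k • (1 : F) := by
  have h1 : (AddSubgroup.zmultiples (1 : F)) = ⊤ := by
    haveI : Fact (Nat.card F).Prime := ⟨by rw [Nat.card_eq_fintype_card]; exact hq⟩
    have hne : AddSubgroup.zmultiples (1 : F) ≠ ⊥ := by
      intro h
      have : (1 : F) ∈ (⊥ : AddSubgroup F) := h ▸ AddSubgroup.mem_zmultiples 1
      exact one_ne_zero (AddSubgroup.mem_bot.mp this)
    exact (AddSubgroup.eq_bot_or_eq_top_of_prime_card
      (AddSubgroup.zmultiples (1 : F))).resolve_left hne
  have h2 : a ∈ AddSubgroup.zmultiples (1 : F) := h1 ▸ AddSubgroup.mem_top a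
  obtain ⟨k, hk⟩ := AddSubgroup.mem_zmultiples_iff.mp h2
  exact ⟨k, hk.symm⟩

theorem uMat_zsmul (k : ℤ) (a : F) : uMat F (k • a) = uMat F a ^ k := by
  have h := map_zpow (uHom F) (Multiplicative.ofAdd a) k
  rw [← ofAdd_zsmul] at h
  exact h

/-- The preimage of the unitriangular group is abelian when `q` is prime. -/
theorem commutator_comap_unip_of_prime (hq : (Fintype.card F).Prime)
    {Γ : Type v} [Group Γ] (σ : Γ →* SpecialLinearGroup (Fin 2) F)
    (hσ : Cfsg.IsStemExtension σ) :
    ⁅(unip F).comap σ, (unip F).comap σ⁆ = ⊥ := by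
  have hle : unip F ≤ zpowers (uMat F 1) := by
    intro g hg
    obtain ⟨a, rfl⟩ := mem_unip hg
    obtain ⟨k, rfl⟩ := exists_zsmul_one_of_prime_card hq a
    rw [uMat_zsmul]
    exact Subgroup.zpow_mem_zpowers _ k
  rw [eq_bot_iff, ← commutator_comap_zpowers σ hσ (uMat F 1)]
  exact Subgroup.commutator_mono (Subgroup.comap_mono hle) (Subgroup.comap_mono hle)

/-- The preimage of the unitriangular group is abelian when `q ≠ 4, 9`. -/
theorem commutator_comap_unip (h4 : Fintype.card F ≠ 4) (h9 : Fintype.card F ≠ 9)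
    {Γ : Type v} [Group Γ] (σ : Γ →* SpecialLinearGroup (Fin 2) F)
    (hσ : Cfsg.IsStemExtension σ) :
    ⁅(unip F).comap σ, (unip F).comap σ⁆ = ⊥ := by
  obtain ⟨p, hchar⟩ := CharP.exists F
  haveI := hchar
  obtain ⟨⟨n, hn⟩, hp, hq⟩ := FiniteField.card F p
  simp only [PNat.mk_coe] at hq
  by_cases hn1 : n = 1
  · apply commutator_comap_unip_of_prime _ σ hσ
    rw [hq, hn1, pow_one]; exact hp
  have hn2 : 2 ≤ n := by omega
  have hex : ∃ s t : F, s ≠ 0 ∧ t ≠ 0 ∧ s ^ 2 + t ^ 2 = 1 ∧ s ^ 2 * t ^ 2 ≠ 1 := by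
    by_cases hp2 : p = 2
    · subst hp2
      apply exists_sq_pair_two
      have hn3 : 3 ≤ n := by
        rcases Nat.lt_or_ge n 3 with h | h
        · exfalso
          have : n = 2 := by omega
          rw [this] at hq
          exact h4 (by rw [hq]; norm_num)
        · exact h
      rw [hq]
      calc 4 < 2 ^ 3 := by norm_num
        _ ≤ 2 ^ n := Nat.pow_le_pow_right (by norm_num) hn3
    · have h2F : (2 : F) ≠ 0 := by
        intro h
        have h2' : ((2 : ℕ) : F) = 0 := by exact_mod_cast h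
        have hdvd := (CharP.cast_eq_zero_iff F p 2).mp h2'
        exact hp2 ((Nat.prime_dvd_prime_iff_eq hp Nat.prime_two).mp hdvd)
      apply exists_sq_pair_odd F h2F
      have hp3 : 3 ≤ p := by
        have := hp.two_le
        omega
      rw [hq]
      by_cases hp3' : p = 3
      · subst hp3'
        have hn3 : 3 ≤ n := by
          rcases Nat.lt_or_ge n 3 with h | h
          · exfalso
            have : n = 2 := by omega
            rw [this] at hq
            exact h9 (by rw [hq]; norm_num)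
          · exact h
        calc 13 < 3 ^ 3 := by norm_num
          _ ≤ 3 ^ n := Nat.pow_le_pow_right (by norm_num) hn3
      · have hp5 : 5 ≤ p := by
          have h4' : p ≠ 4 := by
            rintro rfl
            exact absurd hp (by decide)
          omega
        calc 13 < 5 ^ 2 := by norm_num
          _ ≤ p ^ 2 := Nat.pow_le_pow_left hp5 2
          _ ≤ p ^ n := Nat.pow_le_pow_right (by omega) hn2
  obtain ⟨s, t, hs, ht, hst, hμ⟩ := hex
  exact commutator_comap_eq_bot_of_pairing σ hσ (uMat F) uMat_add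
    (fun t ht => ⟨dMat t ht, fun a => dMat_conj t ht a⟩) s t hs ht hst hμ (unip F)
    (fun g hg => mem_unip hg)

/-- Every finite stem extension of `SL₂(q)`, `q ≠ 4, 9`, is an isomorphism. -/
theorem ker_eq_bot (h4 : Fintype.card F ≠ 4) (h9 : Fintype.card F ≠ 9)
    {Γ : Type v} [Group Γ] [Finite Γ] (σ : Γ →* SpecialLinearGroup (Fin 2) F)
    (hσ : Cfsg.IsStemExtension σ) : σ.ker = ⊥ := by
  classical
  obtain ⟨p, hchar⟩ := CharP.exists F
  haveI := hchar
  obtain ⟨⟨n, hn⟩, hp, hq⟩ := FiniteField.card F p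
  simp only [PNat.mk_coe] at hq
  haveI : Fact p.Prime := ⟨hp⟩
  apply ker_eq_bot_of_forall_prime
  intro r hr
  haveI : Fact r.Prime := ⟨hr⟩
  by_cases hrp : r = p
  · subst hrp
    refine ⟨(unip F).index, ?_, fun z hz =>
      ker_pow_index_of_commutator_eq_bot σ hσ (unip F) (commutator_comap_unip h4 h9 σ hσ) hz⟩
    rw [index_unip]
    intro hdvd
    have h1 : r ∣ Fintype.card F ^ 2 := by
      rw [hq, ← pow_mul]
      exact dvd_pow_self r (by positivity)
    have hpos : 1 ≤ Fintype.card F ^ 2 := Nat.one_le_pow _ _ Fintype.card_pos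
    have h2 : r ∣ 1 := by
      have := (Nat.dvd_sub h1 hdvd)
      rwa [Nat.sub_sub_self hpos] at this
    exact hr.one_lt.ne' (Nat.dvd_one.mp h2)
  · by_cases hr2 : r = 2
    · subst hr2
      have hodd : Odd (Fintype.card F) := by
        rw [hq]
        exact (hp.odd_of_ne_two (fun h => hrp h.symm)).pow
      obtain ⟨P⟩ : Nonempty (Sylow 2 (SpecialLinearGroup (Fin 2) F)) := inferInstance
      obtain ⟨k, -, ⟨φ⟩⟩ := Cfsg.Agent.S0261.result hodd P
      haveI : NeZero (2 ^ k) := ⟨pow_ne_zero k two_ne_zero⟩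
      have hnd : ¬ 2 ∣ (P : Subgroup (SpecialLinearGroup (Fin 2) F)).index := P.not_dvd_index
      exact ⟨(P : Subgroup (SpecialLinearGroup (Fin 2) F)).index, hnd,
        fun z hz => ker_pow_index_of_quaternion σ hσ
          (P : Subgroup (SpecialLinearGroup (Fin 2) F)) (2 ^ k) φ hz⟩
    · obtain ⟨P⟩ : Nonempty (Sylow r (SpecialLinearGroup (Fin 2) F)) := inferInstance
      haveI := Cfsg.Agent.S0262.result p r hr2 hrp P
      have hnd : ¬ r ∣ (P : Subgroup (SpecialLinearGroup (Fin 2) F)).index := P.not_dvd_index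
      exact ⟨(P : Subgroup (SpecialLinearGroup (Fin 2) F)).index, hnd,
        fun z hz => ker_pow_index_of_isCyclic σ hσ
          (P : Subgroup (SpecialLinearGroup (Fin 2) F)) hz⟩

end Cfsg.Agent.Helper96.StemSLTwo
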