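import Mathlib
import Cfsg.Agent.Helper96.StemSLTwoC

/-!
# Transfer bounds for stem extensions of finite groups by arbitrary (possibly infinite) groups

Versions of the lemmas of `StemBound`, `StemSLTwoA` for `σ : Γ →* G` with `G` finite but no
finiteness assumption on `Γ`; the preimage of a subgroup of `G` still has finite index.
Main application: a stem extension of `SL₂(q)` (any `q`) in which the preimage of the
unitriangular group is abelian is an isomorphism.
-/

set_option autoImplicit false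

namespace Cfsg.Agent.Helper96.StemInf

open Subgroup Matrix Cfsg.Agent.Helper96.StemBound Cfsg.Agent.Helper96.StemSLTwo
open scoped commutatorElement

universe u v

variable {Γ : Type u} {G : Type v} [Group Γ] [Group G]

/-- Transfer for a stem extension of a finite group: `z ^ [G : P]` lies in the derived subgroup
of the preimage of `P`. -/
theorem ker_pow_index_mem' [Finite G] (σ : Γ →* G) (hσ : Cfsg.IsStemExtension σ) (P : Subgroup G)
    {z : Γ} (hz : z ∈ σ.ker) : z ^ P.index ∈ ⁅P.comap σ, P.comap σ⁆ := by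
  have hidx : (P.comap σ).index = P.index := Subgroup.index_comap_of_surjective P hσ.1
  haveI : (P.comap σ).FiniteIndex := ⟨by rw [hidx]; exact Subgroup.index_ne_zero_of_finite⟩
  rw [← hidx]
  exact pow_index_mem_commutator (P.comap σ) z (hσ.2.1 hz) (hσ.2.2 hz)

theorem ker_pow_index_of_commutator_eq_bot' [Finite G] (σ : Γ →* G)
    (hσ : Cfsg.IsStemExtension σ) (P : Subgroup G) (hP : ⁅P.comap σ, P.comap σ⁆ = ⊥)
    {z : Γ} (hz : z ∈ σ.ker) : z ^ P.index = 1 := by
  have h := ker_pow_index_mem' σ hσ P hz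
  rw [hP, Subgroup.mem_bot] at h
  exact h

theorem ker_pow_index_of_isCyclic' [Finite G] (σ : Γ →* G)
    (hσ : Cfsg.IsStemExtension σ) (P : Subgroup G) [hc : IsCyclic P]
    {z : Γ} (hz : z ∈ σ.ker) : z ^ P.index = 1 := by
  obtain ⟨g, hg⟩ := hc.exists_generator
  have hP : P = zpowers (g : G) := by
    ext x
    constructor
    · intro hx
      have := hg ⟨x, hx⟩
      rw [Subgroup.mem_zpowers_iff] at this ⊢
      obtain ⟨k, hk⟩ := this
      exact ⟨k, by have := congrArg Subtype.val hk; simpa using this⟩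
    · intro hx
      rw [Subgroup.mem_zpowers_iff] at hx
      obtain ⟨k, rfl⟩ := hx
      exact zpow_mem g.2 k
  apply ker_pow_index_of_commutator_eq_bot' σ hσ P _ hz
  rw [hP]
  exact commutator_comap_zpowers σ hσ _

theorem ker_pow_index_of_quaternion' [Finite G] (σ : Γ →* G) (hσ : Cfsg.IsStemExtension σ)
    (P : Subgroup G) (n : ℕ) [NeZero n] (φ : P ≃* QuaternionGroup n) {z : Γ} (hz : z ∈ σ.ker) :
    z ^ P.index = 1 := by
  set ψ : QuaternionGroup n →* G := P.subtype.comp φ.symm.toMonoidHom with hψ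
  have hψinj : Function.Injective ψ := by
    rw [hψ]
    exact (Subgroup.subtype_injective P).comp φ.symm.injective
  have hψP : ∀ g ∈ P, ∃ w, g = ψ w := by
    intro g hg
    refine ⟨φ ⟨g, hg⟩, ?_⟩
    simp [hψ]
  obtain ⟨r, hr⟩ := hσ.1 (ψ (QuaternionGroup.a 1))
  obtain ⟨s, hs⟩ := hσ.1 (ψ (QuaternionGroup.xa 0))
  have hnorm : σ s * σ r * (σ s)⁻¹ ∈ zpowers (σ r) := by
    rw [hr, hs, ← map_inv, ← map_mul, ← map_mul, quat_conj, map_inv]
    exact inv_mem (Subgroup.mem_zpowers _)
  have hPf : ∀ g ∈ P, g ∈ zpowers (σ r) ∨ (σ s)⁻¹ * g ∈ zpowers (σ r) := by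
    intro g hg
    obtain ⟨w, rfl⟩ := hψP g hg
    rw [hr, hs]
    rcases quat_forms n w with ⟨i, rfl⟩ | ⟨i, rfl⟩
    · left
      rw [map_pow]; exact Subgroup.npow_mem_zpowers _ _
    · right
      rw [map_mul, map_pow, inv_mul_cancel_left]; exact Subgroup.npow_mem_zpowers _ _
  have hle := commutator_comap_le_zpowers σ hσ r s P hPf hnorm
  have hcn : ⁅r, s⁆ ^ n = 1 := by
    apply commElt_pow_eq_one_of_sq σ hσ r s hnorm 0 n
    rw [hr, hs, pow_zero, mul_one, ← map_pow, ← map_pow, QuaternionGroup.xa_sq,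
      QuaternionGroup.a_one_pow]
  have hord : orderOf (σ ⁅r, s⁆) = n := by
    rw [map_commutatorElement, hr, hs, ← map_commutatorElement, orderOf_injective ψ hψinj,
      quat_orderOf_comm]
  have h1 := hle (ker_pow_index_mem' σ hσ P hz)
  have h2 := mem_zpowers_pow_of_mem_ker σ ⁅r, s⁆ (pow_mem hz _) h1
  rw [hord, hcn, Subgroup.zpowers_one_eq_bot, Subgroup.mem_bot] at h2
  exact h2

/-- A stem extension of `SL₂(q)` (any `q`, by any group) in which the preimage of the
unitriangular group is abelian is an isomorphism. -/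
theorem ker_eq_bot_of_unip {F : Type u} [Field F] [Fintype F]
    (σ : Γ →* SpecialLinearGroup (Fin 2) F) (hσ : Cfsg.IsStemExtension σ)
    (hU : ⁅(unip F).comap σ, (unip F).comap σ⁆ = ⊥) : σ.ker = ⊥ := by
  classical
  obtain ⟨p, hchar⟩ := CharP.exists F
  haveI := hchar
  obtain ⟨⟨n, hn⟩, hp, hq⟩ := FiniteField.card F p
  simp only [PNat.mk_coe] at hq
  haveI : Fact p.Prime := ⟨hp⟩
  apply ker_eq_bot_of_forall_prime
  intro r hr
  haveI : Fact r.Prime := ⟨hr⟩
  by_cases hrp : r = p
  · subst hrp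
    refine ⟨(unip F).index, ?_, fun z hz =>
      ker_pow_index_of_commutator_eq_bot' σ hσ (unip F) hU hz⟩
    rw [index_unip]
    intro hdvd
    have h1 : r ∣ Fintype.card F ^ 2 := by
      rw [hq, ← pow_mul]
      exact dvd_pow_self r (by positivity)
    have hpos : 1 ≤ Fintype.card F ^ 2 := Nat.one_le_pow _ _ Fintype.card_pos
    have h2 : r ∣ 1 := by
      have := (Nat.dvd_sub h1 hdvd)
      rwa [Nat.sub_sub_self hpos] at this
    exact hr.one_lt.ne' (Nat.dvd_one.mp h2)
  · by_cases hr2 : r = 2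
    · subst hr2
      have hodd : Odd (Fintype.card F) := by
        rw [hq]
        exact (hp.odd_of_ne_two (fun h => hrp h.symm)).pow
      obtain ⟨P⟩ : Nonempty (Sylow 2 (SpecialLinearGroup (Fin 2) F)) := inferInstance
      obtain ⟨k, -, ⟨φ⟩⟩ := Cfsg.Agent.S0261.result hodd P
      haveI : NeZero (2 ^ k) := ⟨pow_ne_zero k two_ne_zero⟩
      have hnd : ¬ 2 ∣ (P : Subgroup (SpecialLinearGroup (Fin 2) F)).index := P.not_dvd_index
      exact ⟨(P : Subgroup (SpecialLinearGroup (Fin 2) F)).index, hnd,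
        fun z hz => ker_pow_index_of_quaternion' σ hσ
          (P : Subgroup (SpecialLinearGroup (Fin 2) F)) (2 ^ k) φ hz⟩
    · obtain ⟨P⟩ : Nonempty (Sylow r (SpecialLinearGroup (Fin 2) F)) := inferInstance
      haveI := Cfsg.Agent.S0262.result p r hr2 hrp P
      have hnd : ¬ r ∣ (P : Subgroup (SpecialLinearGroup (Fin 2) F)).index := P.not_dvd_index
      exact ⟨(P : Subgroup (SpecialLinearGroup (Fin 2) F)).index, hnd,
        fun z hz => ker_pow_index_of_isCyclic' σ hσ
          (P : Subgroup (SpecialLinearGroup (Fin 2) F)) hz⟩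

end Cfsg.Agent.Helper96.StemInf
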