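import Mathlib
import Cfsg.Agent.Helper96.StPresA
import Cfsg.Agent.Helper96.StemInf

/-!
# Rank-one Steinberg relations: Bruhat normal form and the kernel of the map to `SL₂`
-/

set_option autoImplicit false

namespace Cfsg.Agent.Helper96.StPres

open Matrix Subgroup Cfsg.Agent.Helper96.StemSLTwo

universe u v

variable {K : Type u} [Field K] {D : Type v} [Group D]

/-! ### matrices -/

/-- the lower unitriangular matrix with entry `a` -/
def lMat (K : Type u) [Field K] (a : K) : SpecialLinearGroup (Fin 2) K :=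
  ⟨!![1, 0; a, 1], by simp [Matrix.det_fin_two]⟩

theorem lMat_coe (a : K) : (lMat K a : Matrix (Fin 2) (Fin 2) K) = !![1, 0; a, 1] := rfl

theorem lMat_add (a b : K) : lMat K (a + b) = lMat K a * lMat K b := by
  have h : (lMat K (a + b) : Matrix (Fin 2) (Fin 2) K) =
      ((lMat K a * lMat K b : SpecialLinearGroup (Fin 2) K) : Matrix (Fin 2) (Fin 2) K) := by
    rw [Matrix.SpecialLinearGroup.coe_mul, lMat_coe, lMat_coe, lMat_coe]
    ext i j
    fin_cases i <;> fin_cases j <;>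
      simp [Matrix.mul_apply, Fin.sum_univ_two, add_comm]
  exact Subtype.ext h

/-- the image of `w_true(t)` -/
def WU (t : K) : SpecialLinearGroup (Fin 2) K := uMat K t * lMat K (-t⁻¹) * uMat K t

/-- the image of `w_false(t)` -/
def WL (t : K) : SpecialLinearGroup (Fin 2) K := lMat K t * uMat K (-t⁻¹) * lMat K t

theorem WU_coe (t : K) (ht : t ≠ 0) :
    (WU t : Matrix (Fin 2) (Fin 2) K) = !![0, t; -t⁻¹, 0] := by
  unfold WU
  rw [Matrix.SpecialLinearGroup.coe_mul, Matrix.SpecialLinearGroup.coe_mul, uMat_coe, lMat_coe]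
  ext i j
  fin_cases i <;> fin_cases j <;>
    simp [Matrix.mul_apply, Fin.sum_univ_two, ht] <;> field_simp <;> ring

theorem WL_coe (t : K) (ht : t ≠ 0) :
    (WL t : Matrix (Fin 2) (Fin 2) K) = !![0, -t⁻¹; t, 0] := by
  unfold WL
  rw [Matrix.SpecialLinearGroup.coe_mul, Matrix.SpecialLinearGroup.coe_mul, uMat_coe, lMat_coe]
  ext i j
  fin_cases i <;> fin_cases j <;>
    simp [Matrix.mul_apply, Fin.sum_univ_two, ht] <;> field_simp <;> ring

theorem WU_conj (t u : K) (ht : t ≠ 0) :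
    WU t * uMat K u * (WU t)⁻¹ = lMat K (-(t⁻¹ ^ 2 * u)) := by
  rw [mul_inv_eq_iff_eq_mul]
  have h : ((WU t * uMat K u : SpecialLinearGroup (Fin 2) K) : Matrix (Fin 2) (Fin 2) K) =
      ((lMat K (-(t⁻¹ ^ 2 * u)) * WU t : SpecialLinearGroup (Fin 2) K) :
        Matrix (Fin 2) (Fin 2) K) := by
    rw [Matrix.SpecialLinearGroup.coe_mul, Matrix.SpecialLinearGroup.coe_mul, WU_coe t ht,
      uMat_coe, lMat_coe]
    ext i j
    fin_cases i <;> fin_cases j <;>
      simp [Matrix.mul_apply, Fin.sum_univ_two] <;> field_simp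
  exact Subtype.ext h

theorem WL_conj (t u : K) (ht : t ≠ 0) :
    WL t * lMat K u * (WL t)⁻¹ = uMat K (-(t⁻¹ ^ 2 * u)) := by
  rw [mul_inv_eq_iff_eq_mul]
  have h : ((WL t * lMat K u : SpecialLinearGroup (Fin 2) K) : Matrix (Fin 2) (Fin 2) K) =
      ((uMat K (-(t⁻¹ ^ 2 * u)) * WL t : SpecialLinearGroup (Fin 2) K) :
        Matrix (Fin 2) (Fin 2) K) := by
    rw [Matrix.SpecialLinearGroup.coe_mul, Matrix.SpecialLinearGroup.coe_mul, WL_coe t ht,
      uMat_coe, lMat_coe]
    ext i j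
    fin_cases i <;> fin_cases j <;>
      simp [Matrix.mul_apply, Fin.sum_univ_two] <;> field_simp
  exact Subtype.ext h

theorem WU_eq (t : K) (ht : t ≠ 0) : WU t * (WU 1)⁻¹ = dMat t ht := by
  rw [mul_inv_eq_iff_eq_mul]
  have h : ((WU t : SpecialLinearGroup (Fin 2) K) : Matrix (Fin 2) (Fin 2) K) =
      ((dMat t ht * WU 1 : SpecialLinearGroup (Fin 2) K) : Matrix (Fin 2) (Fin 2) K) := by
    rw [Matrix.SpecialLinearGroup.coe_mul, WU_coe t ht, WU_coe 1 one_ne_zero, dMat_coe]
    ext i j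
    fin_cases i <;> fin_cases j <;>
      simp [Matrix.mul_apply, Fin.sum_univ_two]
  exact Subtype.ext h

end Cfsg.Agent.Helper96.StPres
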