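import Mathlib
import Cfsg.Agent.Helper96.StPresB

/-!
# Rank-one Steinberg relations: torus, Bruhat normal form, kernel
-/

set_option autoImplicit false

namespace Cfsg.Agent.Helper96.StPres

open Matrix Subgroup Cfsg.Agent.Helper96.StemSLTwo

universe u v

variable {K : Type u} [Field K] {D : Type v} [Group D]

/-- the torus: the subgroup generated by the `h(t)` -/
def Hs (X : Bool → K → D) : Subgroup D := closure {g | ∃ t : K, t ≠ 0 ∧ g = hd X t}

theorem hd_mem (X : Bool → K → D) (t : K) (ht : t ≠ 0) : hd X t ∈ Hs X :=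
  subset_closure ⟨t, ht, rfl⟩

variable {X : Bool → K → D} (hX : Rel X)

include hX

/-- the torus acts on the root groups through characters -/
theorem torus_act {g : D} (hg : g ∈ Hs X) :
    ∃ e : K, e ≠ 0 ∧ (∀ u, g * X true u * g⁻¹ = X true (e ^ 2 * u)) ∧
      (∀ u, g * X false u * g⁻¹ = X false (e⁻¹ ^ 2 * u)) := by
  unfold Hs at hg
  induction hg using Subgroup.closure_induction with
  | mem x hx =>
    obtain ⟨t, ht, rfl⟩ := hx
    exact ⟨t, ht, fun u => h_x hX t u ht, fun u => h_y hX t u ht⟩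
  | one => exact ⟨1, one_ne_zero, fun u => by simp, fun u => by simp⟩
  | mul x y _ _ hx hy =>
    obtain ⟨e₁, h1, hx1, hy1⟩ := hx
    obtain ⟨e₂, h2, hx2, hy2⟩ := hy
    refine ⟨e₁ * e₂, mul_ne_zero h1 h2, fun u => ?_, fun u => ?_⟩
    · have e : x * y * X true u * (x * y)⁻¹ = x * (y * X true u * y⁻¹) * x⁻¹ := by group
      rw [e, hx2, hx1]; congr 1; ring
    · have e : x * y * X false u * (x * y)⁻¹ = x * (y * X false u * y⁻¹) * x⁻¹ := by group
      rw [e, hy2, hy1]; congr 1; rw [mul_inv]; ring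
  | inv x _ hx =>
    obtain ⟨e, h0, hx1, hy1⟩ := hx
    refine ⟨e⁻¹, inv_ne_zero h0, fun u => ?_, fun u => ?_⟩
    · have h := hx1 (e⁻¹ ^ 2 * u)
      have e2 : e ^ 2 * (e⁻¹ ^ 2 * u) = u := by field_simp
      rw [e2] at h
      rw [← h]; group
    · have h := hy1 (e ^ 2 * u)
      have e2 : e⁻¹ ^ 2 * (e ^ 2 * u) = u := by field_simp
      rw [e2] at h
      rw [inv_inv, ← h]; group

/-- `w` normalises the torus -/
theorem w_conj_mem {g : D} (hg : g ∈ Hs X) : Wd X true 1 * g * (Wd X true 1)⁻¹ ∈ Hs X := by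
  unfold Hs at hg
  induction hg using Subgroup.closure_induction with
  | mem x hx =>
    obtain ⟨t, ht, rfl⟩ := hx
    rw [w_h hX t ht]
    exact hd_mem X t⁻¹ (inv_ne_zero ht)
  | one => simp [one_mem]
  | mul x y _ _ hx hy =>
    have e : Wd X true 1 * (x * y) * (Wd X true 1)⁻¹ =
        (Wd X true 1 * x * (Wd X true 1)⁻¹) * (Wd X true 1 * y * (Wd X true 1)⁻¹) := by group
    rw [e]; exact mul_mem hx hy
  | inv x _ hx =>
    have e : Wd X true 1 * x⁻¹ * (Wd X true 1)⁻¹ = (Wd X true 1 * x * (Wd X true 1)⁻¹)⁻¹ := by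
      group
    rw [e]; exact inv_mem hx

omit hX in
/-- the Bruhat normal forms -/
def InS (X : Bool → K → D) (g : D) : Prop :=
  (∃ a k, k ∈ Hs X ∧ g = X true a * k) ∨
    (∃ a c k, k ∈ Hs X ∧ g = X true a * k * Wd X true 1 * X true c)

theorem S_mul_x {g : D} (hg : InS X g) (t : K) : InS X (g * X true t) := by
  rcases hg with ⟨a, k, hk, rfl⟩ | ⟨a, c, k, hk, rfl⟩
  · left
    obtain ⟨e, -, hx, -⟩ := torus_act hX hk
    refine ⟨a + e ^ 2 * t, k, hk, ?_⟩
    rw [hX.add, ← hx t]; group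
  · right
    refine ⟨a, c + t, k, hk, ?_⟩
    rw [hX.add]; group

theorem S_mul_H {g : D} (hg : InS X g) {k' : D} (hk' : k' ∈ Hs X) : InS X (g * k') := by
  rcases hg with ⟨a, k, hk, rfl⟩ | ⟨a, c, k, hk, rfl⟩
  · left
    exact ⟨a, k * k', mul_mem hk hk', by group⟩
  · right
    obtain ⟨e, -, hx, -⟩ := torus_act hX (inv_mem hk')
    have hw := w_conj_mem hX hk'
    refine ⟨a, e ^ 2 * c, k * (Wd X true 1 * k' * (Wd X true 1)⁻¹), mul_mem hk hw, ?_⟩
    rw [← hx c]; group

theorem S_mul_w {g : D} (hg : InS X g) : InS X (g * Wd X true 1) := by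
  rcases hg with ⟨a, k, hk, rfl⟩ | ⟨a, c, k, hk, rfl⟩
  · right
    exact ⟨a, 0, k, hk, by rw [X_zero hX, mul_one]⟩
  · by_cases hc : c = 0
    · subst hc
      left
      refine ⟨a, k * (hd X (-1))⁻¹, mul_mem hk (inv_mem (hd_mem X (-1) (by simp))), ?_⟩
      rw [X_zero hX, h_neg_one hX]
      simp only [_root_.mul_inv_rev, inv_inv, mul_one, mul_assoc]
    · right
      have hk2 : k * (hd X (-c))⁻¹ ∈ Hs X :=
        mul_mem hk (inv_mem (hd_mem X (-c) (neg_ne_zero.mpr hc)))
      obtain ⟨e, -, hx, -⟩ := torus_act hX hk2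
      refine ⟨a + e ^ 2 * (-c), -c⁻¹, k * (hd X (-c))⁻¹, hk2, ?_⟩
      have h14 := w_x_w hX c
      rw [hX.add, ← hx (-c)]
      calc X true a * k * Wd X true 1 * X true c * Wd X true 1
          = X true a * k * (Wd X true 1 * X true c * Wd X true 1) := by group
        _ = X true a * k * ((hd X (-c))⁻¹ * X true (-c) * Wd X true 1 * X true (-c⁻¹)) := by
            rw [h14]
        _ = _ := by group

theorem S_mul_winv {g : D} (hg : InS X g) : InS X (g * (Wd X true 1)⁻¹) := by
  have e : g * (Wd X true 1)⁻¹ = g * Wd X true 1 * hd X (-1) := by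
    rw [h_neg_one hX]; group
  rw [e]
  exact S_mul_H hX (S_mul_w hX hg) (hd_mem X (-1) (by simp))

theorem S_mul_y {g : D} (hg : InS X g) (t : K) : InS X (g * X false t) := by
  have h := w_x hX (-t)
  rw [neg_neg] at h
  have e : g * X false t = g * Wd X true 1 * X true (-t) * (Wd X true 1)⁻¹ := by
    rw [← h]; group
  rw [e]
  exact S_mul_winv hX (S_mul_x hX (S_mul_w hX hg) (-t))

/-- Bruhat decomposition in a group generated by elements satisfying the rank-one Steinberg
relations. -/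
theorem S_all (hgen : closure (Set.range fun p : Bool × K => X p.1 p.2) = ⊤) (g : D) :
    InS X g := by
  have hg : g ∈ closure (Set.range fun p : Bool × K => X p.1 p.2) := by
    rw [hgen]; exact mem_top g
  induction hg using Subgroup.closure_induction_right with
  | one => exact Or.inl ⟨0, 1, one_mem _, by rw [X_zero hX, mul_one]⟩
  | mul_right x _ y hy ih =>
    obtain ⟨⟨b, t⟩, rfl⟩ := hy
    cases b
    · exact S_mul_y hX ih t
    · exact S_mul_x hX ih t
  | mul_inv_cancel x _ y hy ih =>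
    obtain ⟨⟨b, t⟩, rfl⟩ := hy
    show InS X (x * (X b t)⁻¹)
    rw [X_neg hX]
    cases b
    · exact S_mul_y hX ih (-t)
    · exact S_mul_x hX ih (-t)

end Cfsg.Agent.Helper96.StPres
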