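import Mathlib
import Cfsg.Agent.Helper96.StPresC
import Cfsg.Agent.Helper5.SLn

/-!
# Rank-one Steinberg relations: the kernel of the map to `SL₂` is trivial
-/

set_option autoImplicit false

namespace Cfsg.Agent.Helper96.StPres

open Matrix Subgroup Cfsg.Agent.Helper96.StemSLTwo
open scoped commutatorElement

universe u v

variable {K : Type u} [Field K] {D : Type v} [Group D]

/-! ### diagonal matrices -/

theorem dMat_mul (s t : K) (hs : s ≠ 0) (ht : t ≠ 0) :
    dMat s hs * dMat t ht = dMat (s * t) (mul_ne_zero hs ht) := by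
  have h : ((dMat s hs * dMat t ht : SpecialLinearGroup (Fin 2) K) : Matrix (Fin 2) (Fin 2) K) =
      (dMat (s * t) (mul_ne_zero hs ht) : Matrix (Fin 2) (Fin 2) K) := by
    rw [Matrix.SpecialLinearGroup.coe_mul, dMat_coe, dMat_coe, dMat_coe]
    ext i j
    fin_cases i <;> fin_cases j <;>
      simp [Matrix.mul_apply, Fin.sum_univ_two, mul_comm]
  exact Subtype.ext h

theorem dMat_one : dMat (1 : K) one_ne_zero = 1 := by
  have h : (dMat (1 : K) one_ne_zero : Matrix (Fin 2) (Fin 2) K) =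
      ((1 : SpecialLinearGroup (Fin 2) K) : Matrix (Fin 2) (Fin 2) K) := by
    rw [Matrix.SpecialLinearGroup.coe_one, dMat_coe]
    ext i j
    fin_cases i <;> fin_cases j <;> simp
  exact Subtype.ext h

theorem dMat_congr {s t : K} (h : s = t) (hs : s ≠ 0) (ht : t ≠ 0) : dMat s hs = dMat t ht := by
  subst h; rfl

theorem dMat_inv (t : K) (ht : t ≠ 0) : (dMat t ht)⁻¹ = dMat t⁻¹ (inv_ne_zero ht) := by
  apply inv_eq_of_mul_eq_one_right
  rw [dMat_mul, dMat_congr (mul_inv_cancel₀ ht) _ one_ne_zero, dMat_one]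

/-- entries of `u(a) d(e)` -/
theorem uMat_dMat_coe (a e : K) (he : e ≠ 0) :
    ((uMat K a * dMat e he : SpecialLinearGroup (Fin 2) K) : Matrix (Fin 2) (Fin 2) K) =
      !![e, a * e⁻¹; 0, e⁻¹] := by
  rw [Matrix.SpecialLinearGroup.coe_mul, uMat_coe, dMat_coe]
  ext i j
  fin_cases i <;> fin_cases j <;> simp [Matrix.mul_apply, Fin.sum_univ_two]

/-- entries of `u(a) d(e) w u(c)` -/
theorem big_cell_coe (a e c : K) (he : e ≠ 0) :
    ((uMat K a * dMat e he * WU 1 * uMat K c : SpecialLinearGroup (Fin 2) K) :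
      Matrix (Fin 2) (Fin 2) K) 1 0 = -e⁻¹ := by
  rw [Matrix.SpecialLinearGroup.coe_mul, Matrix.SpecialLinearGroup.coe_mul, uMat_dMat_coe,
    WU_coe 1 one_ne_zero, uMat_coe]
  simp [Matrix.mul_apply, Fin.sum_univ_two]

/-- `SL₂` is generated by the unitriangular matrices -/
theorem closure_uMat_lMat :
    closure (Set.range fun p : Bool × K => if p.1 then uMat K p.2 else lMat K p.2) = ⊤ := by
  rw [eq_top_iff]
  intro M _
  refine Cfsg.Agent.Helper5.transvection_induction
    (fun M => M ∈ closure (Set.range fun p : Bool × K =>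
      if p.1 then uMat K p.2 else lMat K p.2)) ?_ ?_ M
  · intro i j hij a
    apply Subgroup.subset_closure
    have h01 : ∀ i j : Fin 2, i ≠ j → (i = 0 ∧ j = 1) ∨ (i = 1 ∧ j = 0) := by decide
    rcases h01 i j hij with ⟨rfl, rfl⟩ | ⟨rfl, rfl⟩
    · refine ⟨(true, a), ?_⟩
      apply Subtype.ext
      show (uMat K a : Matrix (Fin 2) (Fin 2) K) = _
      rw [uMat_coe, Matrix.SpecialLinearGroup.transvection_coe]
      ext k l
      fin_cases k <;> fin_cases l <;> simp [Matrix.transvection, Matrix.single_apply]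
    · refine ⟨(false, a), ?_⟩
      apply Subtype.ext
      show (lMat K a : Matrix (Fin 2) (Fin 2) K) = _
      rw [lMat_coe, Matrix.SpecialLinearGroup.transvection_coe]
      ext k l
      fin_cases k <;> fin_cases l <;> simp [Matrix.transvection, Matrix.single_apply]
  · intro A B hA hB
    exact mul_mem hA hB

section Kernel

variable {X : Bool → K → D} (hX : Rel X) (π : D →* SpecialLinearGroup (Fin 2) K)
  (hπx : ∀ t, π (X true t) = uMat K t) (hπy : ∀ t, π (X false t) = lMat K t)

include hπx hπy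

theorem pi_X (b : Bool) (t : K) : π (X b t) = if b then uMat K t else lMat K t := by
  cases b
  · simp [hπy]
  · simp [hπx]

theorem pi_W (t : K) : π (Wd X true t) = WU t := by
  unfold Wd WU
  rw [map_mul, map_mul, hπx, Bool.not_true, hπy]

theorem pi_h (t : K) (ht : t ≠ 0) : π (hd X t) = dMat t ht := by
  unfold hd
  rw [map_mul, map_inv, pi_W π hπx hπy, pi_W π hπx hπy, WU_eq]

include hX

/-- torus elements map to diagonal matrices compatible with their action -/
theorem torus_pi {g : D} (hg : g ∈ Hs X) :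
    ∃ (e : K) (he : e ≠ 0), π g = dMat e he ∧
      (∀ u, g * X true u * g⁻¹ = X true (e ^ 2 * u)) ∧
      (∀ u, g * X false u * g⁻¹ = X false (e⁻¹ ^ 2 * u)) := by
  unfold Hs at hg
  induction hg using Subgroup.closure_induction with
  | mem x hx =>
    obtain ⟨t, ht, rfl⟩ := hx
    exact ⟨t, ht, pi_h π hπx hπy t ht, fun u => h_x hX t u ht, fun u => h_y hX t u ht⟩
  | one =>
    exact ⟨1, one_ne_zero, by rw [map_one, dMat_one], fun u => by simp, fun u => by simp⟩
  | mul x y _ _ hx hy =>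
    obtain ⟨e₁, h1, hp1, hx1, hy1⟩ := hx
    obtain ⟨e₂, h2, hp2, hx2, hy2⟩ := hy
    refine ⟨e₁ * e₂, mul_ne_zero h1 h2, by rw [map_mul, hp1, hp2, dMat_mul],
      fun u => ?_, fun u => ?_⟩
    · have e : x * y * X true u * (x * y)⁻¹ = x * (y * X true u * y⁻¹) * x⁻¹ := by group
      rw [e, hx2, hx1]; congr 1; ring
    · have e : x * y * X false u * (x * y)⁻¹ = x * (y * X false u * y⁻¹) * x⁻¹ := by group
      rw [e, hy2, hy1]; congr 1; rw [mul_inv]; ring
  | inv x _ hx =>
    obtain ⟨e, h0, hp, hx1, hy1⟩ := hx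
    refine ⟨e⁻¹, inv_ne_zero h0, by rw [map_inv, hp, dMat_inv], fun u => ?_, fun u => ?_⟩
    · have h := hx1 (e⁻¹ ^ 2 * u)
      have e2 : e ^ 2 * (e⁻¹ ^ 2 * u) = u := by field_simp
      rw [e2] at h
      rw [← h]; group
    · have h := hy1 (e ^ 2 * u)
      have e2 : e⁻¹ ^ 2 * (e ^ 2 * u) = u := by field_simp
      rw [e2] at h
      rw [inv_inv, ← h]; group

variable (hgen : closure (Set.range fun p : Bool × K => X p.1 p.2) = ⊤)

include hgen

/-- kernel elements lie in the torus and centralise the root elements -/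
theorem ker_props {g : D} (hg : g ∈ π.ker) :
    g ∈ Hs X ∧ ∀ b u, g * X b u * g⁻¹ = X b u := by
  rw [MonoidHom.mem_ker] at hg
  rcases S_all hX hgen g with ⟨a, k, hk, rfl⟩ | ⟨a, c, k, hk, rfl⟩
  · obtain ⟨e, he, hp, hx, hy⟩ := torus_pi hX π hπx hπy hk
    rw [map_mul, hπx, hp] at hg
    have hm := uMat_dMat_coe a e he
    rw [hg, Matrix.SpecialLinearGroup.coe_one] at hm
    have h00 : (1 : Matrix (Fin 2) (Fin 2) K) 0 0 = e := by rw [hm]; simp
    have h01 : (1 : Matrix (Fin 2) (Fin 2) K) 0 1 = a * e⁻¹ := by rw [hm]; simp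
    have he1 : e = 1 := by simpa using h00.symm
    have ha : a = 0 := by
      have : a * e⁻¹ = 0 := by simpa using h01.symm
      rcases mul_eq_zero.mp this with h | h
      · exact h
      · exact absurd h (inv_ne_zero he)
    subst he1 ha
    rw [X_zero hX, one_mul]
    refine ⟨hk, fun b u => ?_⟩
    cases b
    · have := hy u; simpa using this
    · have := hx u; simpa using this
  · exfalso
    obtain ⟨e, he, hp, -, -⟩ := torus_pi hX π hπx hπy hk
    rw [map_mul, map_mul, map_mul, hπx, hπx, hp, pi_W π hπx hπy] at hg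
    have hm := big_cell_coe a e c he
    rw [hg, Matrix.SpecialLinearGroup.coe_one] at hm
    have : (0 : K) = -e⁻¹ := by simpa using hm
    exact inv_ne_zero he (neg_eq_zero.mp this.symm)

theorem ker_le_center : π.ker ≤ center D := by
  intro g hg
  obtain ⟨-, hc⟩ := ker_props hX π hπx hπy hgen hg
  rw [Subgroup.mem_center_iff]
  intro h
  have hh : h ∈ closure (Set.range fun p : Bool × K => X p.1 p.2) := by
    rw [hgen]; exact mem_top h
  induction hh using Subgroup.closure_induction with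
  | mem x hx =>
    obtain ⟨⟨b, t⟩, rfl⟩ := hx
    have h2 := hc b t
    rw [mul_inv_eq_iff_eq_mul] at h2
    exact h2.symm
  | one => simp
  | mul x y _ _ hx hy => rw [mul_assoc, hy, ← mul_assoc, hx, mul_assoc]
  | inv x _ hx =>
    have : x⁻¹ * g = x⁻¹ * (g * x) * x⁻¹ := by group
    rw [this, ← hx]; group

/-- the preimage of the unitriangular group is abelian -/
theorem commutator_comap_unip :
    ⁅(unip K).comap π, (unip K).comap π⁆ = ⊥ := by
  have hform : ∀ g ∈ (unip K).comap π, ∃ a, ∃ z ∈ center D, g = z * X true a := by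
    intro g hg
    obtain ⟨a, ha⟩ := mem_unip hg
    refine ⟨a, g * (X true a)⁻¹, ?_, by group⟩
    apply ker_le_center hX π hπx hπy hgen
    rw [MonoidHom.mem_ker, map_mul, map_inv, hπx, ha, mul_inv_cancel]
  rw [eq_bot_iff, Subgroup.commutator_le]
  intro g₁ h₁ g₂ h₂
  rw [Subgroup.mem_bot, commutatorElement_eq_one_iff_mul_comm]
  obtain ⟨a₁, z₁, hz₁, rfl⟩ := hform g₁ h₁
  obtain ⟨a₂, z₂, hz₂, rfl⟩ := hform g₂ h₂
  have c1 := Subgroup.mem_center_iff.mp hz₁
  have c2 := Subgroup.mem_center_iff.mp hz₂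
  calc z₁ * X true a₁ * (z₂ * X true a₂) = z₁ * (X true a₁ * z₂) * X true a₂ := by group
    _ = z₁ * (z₂ * X true a₁) * X true a₂ := by rw [c2]
    _ = (z₁ * z₂) * (X true a₁ * X true a₂) := by group
    _ = (z₂ * z₁) * (X true a₂ * X true a₁) := by rw [c1 z₂, X_comm hX]
    _ = z₂ * (z₁ * X true a₂) * X true a₁ := by group
    _ = z₂ * (X true a₂ * z₁) * X true a₁ := by rw [c1]
    _ = _ := by group

end Kernel

end Cfsg.Agent.Helper96.StPres
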