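import Mathlib
import Cfsg.Agent.Helper96.StPresD

/-!
# Rank-one Steinberg relations present `SL₂` over a finite field

A group generated by elements `X b t` satisfying the relations (A), (B') and mapping to `SL₂(K)`
by `X true t ↦ u(t)`, `X false t ↦ l(t)` is mapped isomorphically. The kernel is central (Bruhat
normal form), lies in the derived group, and the preimage of the unitriangular group is abelian,
so the transfer argument for stem extensions of `SL₂(q)` applies.
-/

set_option autoImplicit false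

namespace Cfsg.Agent.Helper96.StPres

open Matrix Subgroup Cfsg.Agent.Helper96.StemSLTwo
open scoped commutatorElement

universe u

variable {K : Type u} [Field K] {D : Type u} [Group D]
variable {X : Bool → K → D} (hX : Rel X) (π : D →* SpecialLinearGroup (Fin 2) K)
  (hπx : ∀ t, π (X true t) = uMat K t) (hπy : ∀ t, π (X false t) = lMat K t)
  (hgen : closure (Set.range fun p : Bool × K => X p.1 p.2) = ⊤)

include hπx hπy in
theorem surjective_pi : Function.Surjective π := by
  rw [← MonoidHom.range_eq_top, eq_top_iff, ← closure_uMat_lMat, Subgroup.closure_le]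
  rintro _ ⟨⟨b, t⟩, rfl⟩
  exact ⟨X b t, pi_X π hπx hπy b t⟩

omit [Field K] in
theorem commElt_mem_commutator (a b : D) : ⁅a, b⁆ ∈ commutator D := by
  rw [commutator_def]
  exact Subgroup.commutator_mem_commutator (mem_top a) (mem_top b)

include hX in
/-- if some `t ≠ 0` has `t² ≠ 1`, the group is perfect -/
theorem commutator_eq_top (hgen : closure (Set.range fun p : Bool × K => X p.1 p.2) = ⊤)
    (t : K) (ht : t ≠ 0) (ht2 : t ^ 2 ≠ 1) : commutator D = ⊤ := by
  rw [eq_top_iff, ← hgen, Subgroup.closure_le]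
  rintro _ ⟨⟨b, v⟩, rfl⟩
  show X b v ∈ commutator D
  cases b
  · have hne : t⁻¹ ^ 2 - 1 ≠ 0 := by
      intro h
      apply ht2
      have h1 : t⁻¹ ^ 2 = 1 := sub_eq_zero.mp h
      have h2 : t ^ 2 * t⁻¹ ^ 2 = 1 := by field_simp
      rw [h1, mul_one] at h2
      exact h2
    have e : X false v = ⁅hd X t, X false ((t⁻¹ ^ 2 - 1)⁻¹ * v)⁆ := by
      rw [commutatorElement_def, h_y hX t _ ht, X_neg hX, ← hX.add]
      congr 1
      field_simp
      ring
    rw [e]
    exact commElt_mem_commutator _ _
  · have hne : t ^ 2 - 1 ≠ 0 := sub_ne_zero.mpr ht2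
    have e : X true v = ⁅hd X t, X true ((t ^ 2 - 1)⁻¹ * v)⁆ := by
      rw [commutatorElement_def, h_x hX t _ ht, X_neg hX, ← hX.add]
      congr 1
      field_simp
      ring
    rw [e]
    exact commElt_mem_commutator _ _

include hX in
/-- `w` is a commutator up to conjugation when `3 = 0` -/
theorem w_mem_commutator_of_three (h3 : (3 : K) = 0) : Wd X true 1 ∈ commutator D := by
  set x₁ := X true 1 with hx₁
  set w := Wd X true 1 with hw
  have hcube : x₁ * x₁ * x₁ = 1 := by
    rw [hx₁, ← hX.add, ← hX.add]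
    have : (1 : K) + 1 + 1 = 0 := by rw [← h3]; norm_num
    rw [this, X_zero hX]
  have hwx : X false (-(1 : K)⁻¹) = w * x₁ * w⁻¹ := by
    rw [inv_one, hw, hx₁, w_x hX 1]
  have e : w = x₁ * ⁅w, x₁⁆ * x₁⁻¹ := by
    have hw2 : w = x₁ * X false (-(1 : K)⁻¹) * x₁ := rfl
    have hinv : x₁⁻¹ * x₁⁻¹ = x₁ := by
      have : x₁ * (x₁ * x₁) = 1 := by rw [← mul_assoc]; exact hcube
      calc x₁⁻¹ * x₁⁻¹ = x₁⁻¹ * x₁⁻¹ * (x₁ * (x₁ * x₁)) := by rw [this, mul_one]
        _ = x₁ := by group
    rw [commutatorElement_def]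
    calc w = x₁ * (w * x₁ * w⁻¹) * x₁ := by rw [← hwx]; exact hw2
      _ = x₁ * (w * x₁ * w⁻¹) * (x₁⁻¹ * x₁⁻¹) := by rw [hinv]
      _ = x₁ * (w * x₁ * w⁻¹ * x₁⁻¹) * x₁⁻¹ := by group
  rw [e]
  exact (inferInstance : (commutator D).Normal).conj_mem _ (commElt_mem_commutator _ _) _

include hX hgen in
theorem Hs_le_commutator : Hs X ≤ commutator D := by
  by_cases hex : ∃ t : K, t ≠ 0 ∧ t ^ 2 ≠ 1
  · obtain ⟨t, ht, ht2⟩ := hex
    rw [commutator_eq_top hX hgen t ht ht2]
    exact le_top
  · push_neg at hex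
    unfold Hs
    rw [Subgroup.closure_le]
    rintro _ ⟨t, ht, rfl⟩
    have h1 : hd X (1 : K) = 1 := by
      unfold hd; rw [mul_inv_cancel]
    have hfac : (t - 1) * (t + 1) = 0 := by linear_combination (hex t ht)
    rcases mul_eq_zero.mp hfac with h | h
    · rw [sub_eq_zero.mp h, h1]; exact one_mem _
    · rw [eq_neg_of_add_eq_zero_left h]
      by_cases h2 : (2 : K) = 0
      · have : (-1 : K) = 1 := by linear_combination -h2
        rw [this, h1]; exact one_mem _
      · have h3 : (3 : K) = 0 := by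
          have := hex 2 h2
          linear_combination this
        rw [h_neg_one hX]
        have hw := w_mem_commutator_of_three hX h3
        exact mul_mem (inv_mem hw) (inv_mem hw)

include hX hπx hπy hgen in
theorem isStemExtension_pi : Cfsg.IsStemExtension π :=
  ⟨surjective_pi π hπx hπy, ker_le_center hX π hπx hπy hgen,
    fun _ hg => Hs_le_commutator hX hgen (ker_props hX π hπx hπy hgen hg).1⟩

include hX hπx hπy hgen in
/-- the map to `SL₂` is injective -/
theorem injective_pi [Fintype K] : Function.Injective π := by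
  rw [← MonoidHom.ker_eq_bot_iff]
  exact Cfsg.Agent.Helper96.StemInf.ker_eq_bot_of_unip π
    (isStemExtension_pi hX π hπx hπy hgen) (commutator_comap_unip hX π hπx hπy hgen)

end Cfsg.Agent.Helper96.StPres
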