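import Mathlib
import Cfsg.Agent.Helper96.StPresE

/-!
# The rank-one Steinberg presentation of `SL₂` over a finite field
-/

set_option autoImplicit false

namespace Cfsg.Agent.Helper96.StPres

open Matrix Subgroup Cfsg.Agent.Helper96.StemSLTwo

universe u

variable (K : Type u) [Field K]

/-- the relators (A) and (B') -/
def stRels : Set (FreeGroup (Bool × K)) :=
  {g : FreeGroup (Bool × K) | ∃ (b : Bool) (t u : K),
      g = FreeGroup.of (b, t) * FreeGroup.of (b, u) * (FreeGroup.of (b, t + u))⁻¹} ∪
    {g | ∃ (b : Bool) (t u : K), t ≠ 0 ∧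
      g = (FreeGroup.of (b, t) * FreeGroup.of (!b, -t⁻¹) * FreeGroup.of (b, t)) *
            FreeGroup.of (b, u) *
          (FreeGroup.of (b, t) * FreeGroup.of (!b, -t⁻¹) * FreeGroup.of (b, t))⁻¹ *
          (FreeGroup.of (!b, -(t⁻¹ ^ 2 * u)))⁻¹}

/-- the generators of the presented group -/
def stX (b : Bool) (t : K) : PresentedGroup (stRels K) := PresentedGroup.of (b, t)

theorem stX_rel : Rel (stX K) := by
  constructor
  · intro b t u
    have hmem : FreeGroup.of (b, t) * FreeGroup.of (b, u) * (FreeGroup.of (b, t + u))⁻¹ ∈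
        stRels K := Or.inl ⟨b, t, u, rfl⟩
    have h := PresentedGroup.one_of_mem hmem
    rw [map_mul, map_mul, map_inv] at h
    exact (mul_inv_eq_one.mp h).symm
  · intro b t u ht
    have hmem : (FreeGroup.of (b, t) * FreeGroup.of (!b, -t⁻¹) * FreeGroup.of (b, t)) *
            FreeGroup.of (b, u) *
          (FreeGroup.of (b, t) * FreeGroup.of (!b, -t⁻¹) * FreeGroup.of (b, t))⁻¹ *
          (FreeGroup.of (!b, -(t⁻¹ ^ 2 * u)))⁻¹ ∈ stRels K := Or.inr ⟨b, t, u, ht, rfl⟩
    have h := PresentedGroup.one_of_mem hmem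
    rw [map_mul, map_inv] at h
    have h2 := mul_inv_eq_one.mp h
    simp only [map_mul, map_inv] at h2
    exact h2

theorem stX_gen : closure (Set.range fun p : Bool × K => stX K p.1 p.2) = ⊤ :=
  PresentedGroup.closure_range_of (stRels K)

/-- the images of the generators in `SL₂` -/
def stF (p : Bool × K) : SpecialLinearGroup (Fin 2) K :=
  if p.1 then uMat K p.2 else lMat K p.2

theorem stF_rels : ∀ r ∈ stRels K, FreeGroup.lift (stF K) r = 1 := by
  rintro r (⟨b, t, u, rfl⟩ | ⟨b, t, u, ht, rfl⟩)
  · simp only [map_mul, map_inv, FreeGroup.lift_apply_of]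
    rw [mul_inv_eq_one]
    cases b
    · exact (lMat_add t u).symm
    · exact (uMat_add t u).symm
  · simp only [map_mul, map_inv, FreeGroup.lift_apply_of]
    rw [mul_inv_eq_one]
    cases b
    · exact WL_conj t u ht
    · exact WU_conj t u ht

/-- the canonical homomorphism onto `SL₂` -/
def stPi : PresentedGroup (stRels K) →* SpecialLinearGroup (Fin 2) K :=
  PresentedGroup.toGroup (stF_rels K)

theorem stPi_x (t : K) : stPi K (stX K true t) = uMat K t :=
  PresentedGroup.toGroup.of (stF_rels K)

theorem stPi_y (t : K) : stPi K (stX K false t) = lMat K t :=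
  PresentedGroup.toGroup.of (stF_rels K)

/-- the Steinberg presentation of `SL₂` over a finite field -/
noncomputable def stEquiv [Fintype K] :
    PresentedGroup (stRels K) ≃* SpecialLinearGroup (Fin 2) K :=
  MulEquiv.ofBijective (stPi K)
    ⟨injective_pi (stX_rel K) (stPi K) (stPi_x K) (stPi_y K) (stX_gen K),
      surjective_pi (stPi K) (stPi_x K) (stPi_y K)⟩

theorem stEquiv_x [Fintype K] (t : K) :
    stEquiv K (PresentedGroup.of (true, t)) = uMat K t := stPi_x K t

theorem stEquiv_y [Fintype K] (t : K) :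
    stEquiv K (PresentedGroup.of (false, t)) = lMat K t := stPi_y K t

end Cfsg.Agent.Helper96.StPres
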