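import Mathlib
import Cfsg.Agent.Helper96.StPresF

/-!
# Short presentations of `SL₂(q)`: the Weyl-group part

Given an additive family `x : F → D` of root elements, a torus element `h` acting by `ζ²`, and an
element `t` with `t h t⁻¹ = h⁻¹`, `w(1) = t`, `w(ζ) = h t` where `ζ` generates `Fˣ`, the elements
`x(a)` and `t x(-a) t⁻¹` satisfy the rank-one Steinberg relations; hence a compatible
homomorphism onto `SL₂(F)` is an isomorphism.
-/

set_option autoImplicit false

namespace Cfsg.Agent.Helper96.SLPres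

open Matrix Subgroup Cfsg.Agent.Helper96.StemSLTwo Cfsg.Agent.Helper96.StPres

universe u v w

section map

variable {K : Type u} [Field K] {D : Type v} [Group D] {E : Type w} [Group E]

theorem Wd_map (f : D →* E) (X : Bool → K → D) (b : Bool) (s : K) :
    Wd (fun b a => f (X b a)) b s = f (Wd X b s) := by
  unfold Wd
  rw [map_mul, map_mul]

theorem rel_map (f : D →* E) {X : Bool → K → D} (hX : Rel X) : Rel (fun b a => f (X b a)) := by
  constructor
  · intro b s a
    simp only [hX.add, map_mul]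
  · intro b s a hs
    rw [Wd_map]
    simp only [← hX.conj b s a hs, map_mul, map_inv]

end map

/-- bijectivity of a compatible map to `SL₂`, for groups in `Type` -/
theorem bijective_of_rel {K : Type u} [Field K] [Fintype K] {D : Type} [Group D]
    {X : Bool → K → D} (hX : Rel X) (π : D →* SpecialLinearGroup (Fin 2) K)
    (hπx : ∀ t, π (X true t) = uMat K t) (hπy : ∀ t, π (X false t) = lMat K t)
    (hgen : closure (Set.range fun p : Bool × K => X p.1 p.2) = ⊤) :
    Function.Bijective π := by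
  let e : ULift.{u} D ≃* D := MulEquiv.ulift
  let X' : Bool → K → ULift.{u} D := fun b a => e.symm.toMonoidHom (X b a)
  have hX' : Rel X' := rel_map e.symm.toMonoidHom hX
  let π' : ULift.{u} D →* SpecialLinearGroup (Fin 2) K := π.comp e.toMonoidHom
  have h1 : ∀ t, π' (X' true t) = uMat K t := by
    intro t
    change π (e (e.symm (X true t))) = _
    rw [MulEquiv.apply_symm_apply, hπx]
  have h2 : ∀ t, π' (X' false t) = lMat K t := by
    intro t
    change π (e (e.symm (X false t))) = _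
    rw [MulEquiv.apply_symm_apply, hπy]
  have hgen' : closure (Set.range fun p : Bool × K => X' p.1 p.2) = ⊤ := by
    have : (Set.range fun p : Bool × K => X' p.1 p.2) =
        e.symm.toMonoidHom '' (Set.range fun p : Bool × K => X p.1 p.2) := by
      ext g
      constructor
      · rintro ⟨p, rfl⟩
        exact ⟨X p.1 p.2, ⟨p, rfl⟩, rfl⟩
      · rintro ⟨_, ⟨p, rfl⟩, rfl⟩
        exact ⟨p, rfl⟩
    rw [this, ← MonoidHom.map_closure, hgen, ← MonoidHom.range_eq_map, MonoidHom.range_eq_top]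
    exact e.symm.surjective
  have hinj : Function.Injective π' := injective_pi hX' π' h1 h2 hgen'
  have hsurj : Function.Surjective π' := surjective_pi π' h1 h2
  constructor
  · intro a b hab
    have : π' (e.symm a) = π' (e.symm b) := by
      change π (e (e.symm a)) = π (e (e.symm b))
      rw [MulEquiv.apply_symm_apply, MulEquiv.apply_symm_apply, hab]
    exact e.symm.injective (hinj this)
  · intro g
    obtain ⟨a, ha⟩ := hsurj g
    exact ⟨e a, ha⟩

section weyl

variable {F : Type u} [Field F] {D : Type v} [Group D]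

/-- the root elements: `x(a)` and `t x(-a) t⁻¹` -/
def XW (x : F → D) (t : D) (b : Bool) (a : F) : D := if b then x a else t * x (-a) * t⁻¹

/-- `w(s) = x(s) · t x(s⁻¹) t⁻¹ · x(s)` -/
def Ww (x : F → D) (t : D) (s : F) : D := x s * (t * x s⁻¹ * t⁻¹) * x s

variable {x : F → D} {h t : D} {z : F}
variable (hadd : ∀ a b, x (a + b) = x a * x b)
  (hh : ∀ a, h * x a * h⁻¹ = x (z ^ 2 * a))
  (hth : t * h * t⁻¹ = h⁻¹)
  (ht2 : ∀ a, Commute (t ^ 2) (x a))
  (hW1 : x 1 * (t * x 1 * t⁻¹) * x 1 = t)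
  (hWz : x z * (t * x z⁻¹ * t⁻¹) * x z = h * t)

include hadd in
theorem x_zero : x 0 = 1 := by
  have := hadd 0 0
  rw [add_zero] at this
  exact mul_eq_left.mp this.symm

include hadd in
theorem x_neg (a : F) : x (-a) = (x a)⁻¹ := by
  apply eq_inv_of_mul_eq_one_left
  rw [← hadd, neg_add_cancel, x_zero hadd]

include hh in
theorem h_inv_x (hz0 : z ≠ 0) (a : F) : h⁻¹ * x a * h = x ((z ^ 2)⁻¹ * a) := by
  have h1 := hh ((z ^ 2)⁻¹ * a)
  rw [← mul_assoc, mul_inv_cancel₀ (pow_ne_zero 2 hz0), one_mul] at h1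
  rw [← h1]
  group

include hth in
theorem h_t : h * t = t * h⁻¹ := by
  have h1 : t * h⁻¹ * t⁻¹ = h := by
    have := congrArg (·⁻¹) hth
    simp only [_root_.mul_inv_rev, inv_inv] at this
    rw [← mul_assoc] at this
    exact this
  calc h * t = (t * h⁻¹ * t⁻¹) * t := by rw [h1]
    _ = t * h⁻¹ := by group

include hh hth in
theorem h_y (hz0 : z ≠ 0) (a : F) :
    h * (t * x a * t⁻¹) * h⁻¹ = t * x ((z ^ 2)⁻¹ * a) * t⁻¹ := by
  rw [← h_inv_x hh hz0]
  have e1 : h * (t * x a * t⁻¹) * h⁻¹ = (h * t) * x a * (h * t)⁻¹ := by group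
  rw [e1, h_t hth]
  group

include hh hth in
theorem h_W (hz0 : z ≠ 0) (s : F) : h * Ww x t s * h⁻¹ = Ww x t (z ^ 2 * s) := by
  unfold Ww
  have e1 : h * (x s * (t * x s⁻¹ * t⁻¹) * x s) * h⁻¹ =
      (h * x s * h⁻¹) * (h * (t * x s⁻¹ * t⁻¹) * h⁻¹) * (h * x s * h⁻¹) := by group
  rw [e1, hh, h_y hh hth hz0, _root_.mul_inv]

include hh hth hW1 hWz in
theorem W_pow (hz0 : z ≠ 0) (n : ℕ) : Ww x t (z ^ n) = h ^ n * t := by
  induction n using Nat.strong_induction_on with
  | _ n ih =>
    rcases n with _ | _ | n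
    · rw [pow_zero, pow_zero, one_mul]
      unfold Ww
      rw [inv_one]
      exact hW1
    · rw [zero_add, pow_one, pow_one]
      exact hWz
    · have e1 : z ^ (n + 1 + 1) = z ^ 2 * z ^ n := by ring
      rw [e1, ← h_W hh hth hz0, ih n (by omega)]
      have e2 : h * (h ^ n * t) * h⁻¹ = h ^ (n + 1) * (t * h⁻¹) := by
        rw [pow_succ']
        group
      rw [e2, ← h_t hth, pow_succ (n := n + 1)]
      group

include hh hth in
theorem hpow_y (hz0 : z ≠ 0) (n : ℕ) (a : F) :
    h ^ n * (t * x a * t⁻¹) * (h ^ n)⁻¹ = t * x (((z ^ n) ^ 2)⁻¹ * a) * t⁻¹ := by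
  induction n generalizing a with
  | zero => simp
  | succ n ih =>
    have e1 : h ^ (n + 1) * (t * x a * t⁻¹) * (h ^ (n + 1))⁻¹ =
        h * (h ^ n * (t * x a * t⁻¹) * (h ^ n)⁻¹) * h⁻¹ := by
      rw [pow_succ']
      group
    rw [e1, ih, h_y hh hth hz0]
    congr 2
    rw [← mul_assoc, ← _root_.mul_inv]
    congr 2
    ring

include hh in
theorem hpow_inv_x (hz0 : z ≠ 0) (n : ℕ) (a : F) :
    (h ^ n)⁻¹ * x a * h ^ n = x (((z ^ n) ^ 2)⁻¹ * a) := by
  induction n generalizing a with
  | zero => simp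
  | succ n ih =>
    have e1 : (h ^ (n + 1))⁻¹ * x a * h ^ (n + 1) =
        h⁻¹ * ((h ^ n)⁻¹ * x a * h ^ n) * h := by
      rw [pow_succ]
      group
    rw [e1, ih, h_inv_x hh hz0]
    congr 1
    rw [← mul_assoc, ← _root_.mul_inv]
    congr 2
    ring

omit [Field F] in
include ht2 in
theorem t_inv_x (a : F) : t⁻¹ * x a * t = t * x a * t⁻¹ := by
  have h1 : t ^ 2 * x a = x a * t ^ 2 := (ht2 a).eq
  have e1 : t * x a * t⁻¹ = t⁻¹ * (t ^ 2 * x a) * t⁻¹ := by
    rw [pow_two]
    group
  rw [e1, h1, pow_two]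
  group

include hadd in
theorem W_neg (s : F) : Ww x t (-s) = (Ww x t s)⁻¹ := by
  unfold Ww
  rw [inv_neg, x_neg hadd, x_neg hadd]
  group

include hadd ht2 in
theorem Wd_false (s : F) : Wd (XW x t) false s = t * (Ww x t s)⁻¹ * t⁻¹ := by
  rw [← W_neg hadd]
  unfold Wd XW Ww
  simp only [Bool.not_false, if_true, Bool.false_eq_true, if_false]
  rw [inv_neg]
  have e1 : t * x (-s) * t⁻¹ * x (-s⁻¹) * (t * x (-s) * t⁻¹) =
      t * (x (-s) * (t⁻¹ * x (-s⁻¹) * t) * x (-s)) * t⁻¹ := by group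
  rw [e1, t_inv_x ht2]

include hadd hh hth ht2 hW1 hWz in
theorem rel_XW (hz0 : z ≠ 0) (hz : ∀ s : F, s ≠ 0 → ∃ n : ℕ, z ^ n = s) : Rel (XW x t) := by
  constructor
  · intro b s a
    cases b
    · simp only [XW, Bool.false_eq_true, if_false]
      rw [neg_add, hadd]
      group
    · simp only [XW, if_true]
      exact hadd s a
  · intro b s a hs
    obtain ⟨n, rfl⟩ := hz s hs
    cases b
    · rw [Wd_false hadd ht2, W_pow hh hth hW1 hWz hz0]
      simp only [XW, Bool.not_false, if_true, Bool.false_eq_true, if_false]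
      have e1 : t * (h ^ n * t)⁻¹ * t⁻¹ * (t * x (-a) * t⁻¹) * (t * (h ^ n * t)⁻¹ * t⁻¹)⁻¹ =
          (h ^ n)⁻¹ * x (-a) * h ^ n := by group
      rw [e1, hpow_inv_x hh hz0]
      congr 1
      rw [inv_pow]
      ring
    · have hW : Wd (XW x t) true (z ^ n) = Ww x t (z ^ n) := by
        unfold Wd XW Ww
        simp only [Bool.not_true, if_true, Bool.false_eq_true, if_false, neg_neg]
      rw [hW, W_pow hh hth hW1 hWz hz0]
      simp only [XW, Bool.not_true, if_true, Bool.false_eq_true, if_false, neg_neg]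
      have e1 : h ^ n * t * x a * (h ^ n * t)⁻¹ = h ^ n * (t * x a * t⁻¹) * (h ^ n)⁻¹ := by group
      rw [e1, hpow_y hh hth hz0]
      congr 2
      rw [inv_pow]

end weyl

/-- the Weyl-group part: a compatible map onto `SL₂(F)` is bijective -/
theorem bijective_of_weyl {F : Type u} [Field F] [Fintype F] {D : Type} [Group D]
    (x : F → D) (h t : D) (z : F) (hz0 : z ≠ 0) (hz : ∀ s : F, s ≠ 0 → ∃ n : ℕ, z ^ n = s)
    (hadd : ∀ a b, x (a + b) = x a * x b)
    (hh : ∀ a, h * x a * h⁻¹ = x (z ^ 2 * a))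
    (hth : t * h * t⁻¹ = h⁻¹)
    (ht2 : ∀ a, Commute (t ^ 2) (x a))
    (hW1 : x 1 * (t * x 1 * t⁻¹) * x 1 = t)
    (hWz : x z * (t * x z⁻¹ * t⁻¹) * x z = h * t)
    (hgen : Subgroup.closure (Set.range x ∪ {h, t}) = ⊤)
    (π : D →* SpecialLinearGroup (Fin 2) F) (hπx : ∀ a, π (x a) = uMat F a)
    (hπt : π t = WU 1) :
    Function.Bijective π := by
  have hX : Rel (XW x t) := rel_XW hadd hh hth ht2 hW1 hWz hz0 hz
  refine bijective_of_rel hX π ?_ ?_ ?_
  · intro a
    simp only [XW, if_true]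
    exact hπx a
  · intro a
    simp only [XW, Bool.false_eq_true, if_false]
    rw [map_mul, map_mul, map_inv, hπx, hπt, WU_conj 1 (-a) one_ne_zero]
    congr 1
    simp
  · rw [eq_top_iff, ← hgen, Subgroup.closure_le]
    have hxm : ∀ a, x a ∈ closure (Set.range fun p : Bool × F => XW x t p.1 p.2) := by
      intro a
      apply Subgroup.subset_closure
      exact ⟨(true, a), by simp [XW]⟩
    have hym : ∀ a, t * x a * t⁻¹ ∈ closure (Set.range fun p : Bool × F => XW x t p.1 p.2) := by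
      intro a
      apply Subgroup.subset_closure
      exact ⟨(false, -a), by simp [XW]⟩
    have htm : t ∈ closure (Set.range fun p : Bool × F => XW x t p.1 p.2) := by
      have := mul_mem (mul_mem (hxm 1) (hym 1)) (hxm 1)
      rwa [hW1] at this
    rintro g (⟨a, rfl⟩ | hg)
    · exact hxm a
    · rcases hg with rfl | hg
      · have := mul_mem (mul_mem (mul_mem (hxm z) (hym z⁻¹)) (hxm z)) (inv_mem htm)
        rwa [hWz, mul_inv_cancel_right] at this
      · rw [Set.mem_singleton_iff] at hg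
        subst hg
        exact htm

end Cfsg.Agent.Helper96.SLPres
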