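import Mathlib
import Cfsg.Agent.Helper96.SLPresDefs
import Cfsg.Agent.Helper96.StPresF
import Cfsg.Agent.Helper34.SLPresPW

/-!
# Short presentations of `SL₂(q)`: matrix identities and finite-field facts
-/

set_option autoImplicit false

namespace Cfsg.Agent.Helper96.SLPres

open Polynomial Matrix Cfsg.Agent.Helper96.StemSLTwo Cfsg.Agent.Helper96.StPres

section mat

variable {F : Type*} [Field F]

theorem dMat_mul_WU_one (z : F) (hz : z ≠ 0) : dMat z hz * WU (1 : F) = WU z := by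
  rw [← WU_eq z hz, inv_mul_cancel_right]

theorem WU_one_conj_dMat (z : F) (hz : z ≠ 0) :
    WU (1 : F) * dMat z hz * (WU (1 : F))⁻¹ = (dMat z hz)⁻¹ := by
  rw [dMat_inv, mul_inv_eq_iff_eq_mul]
  have h : ((WU (1 : F) * dMat z hz : SpecialLinearGroup (Fin 2) F) : Matrix (Fin 2) (Fin 2) F) =
      ((dMat z⁻¹ (inv_ne_zero hz) * WU (1 : F) : SpecialLinearGroup (Fin 2) F) :
        Matrix (Fin 2) (Fin 2) F) := by
    rw [Matrix.SpecialLinearGroup.coe_mul, Matrix.SpecialLinearGroup.coe_mul,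
      WU_coe 1 one_ne_zero, dMat_coe, dMat_coe]
    ext i j
    fin_cases i <;> fin_cases j <;>
      simp [Matrix.mul_apply, Fin.sum_univ_two]
  exact Subtype.ext h

theorem WU_one_sq_coe :
    (((WU (1 : F)) ^ 2 : SpecialLinearGroup (Fin 2) F) : Matrix (Fin 2) (Fin 2) F) =
      !![-1, 0; 0, -1] := by
  rw [pow_two, Matrix.SpecialLinearGroup.coe_mul, WU_coe 1 one_ne_zero]
  ext i j
  fin_cases i <;> fin_cases j <;>
    simp [Matrix.mul_apply, Fin.sum_univ_two]

theorem WU_one_sq_comm (g : SpecialLinearGroup (Fin 2) F) : Commute ((WU (1 : F)) ^ 2) g := by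
  have h : (((WU (1 : F)) ^ 2 * g : SpecialLinearGroup (Fin 2) F) : Matrix (Fin 2) (Fin 2) F) =
      ((g * (WU (1 : F)) ^ 2 : SpecialLinearGroup (Fin 2) F) : Matrix (Fin 2) (Fin 2) F) := by
    rw [Matrix.SpecialLinearGroup.coe_mul, Matrix.SpecialLinearGroup.coe_mul, WU_one_sq_coe]
    ext i j
    fin_cases i <;> fin_cases j <;>
      simp [Matrix.mul_apply, Fin.sum_univ_two]
  exact Subtype.ext h

theorem center_SL2 (g : SpecialLinearGroup (Fin 2) F)
    (hg : g ∈ Subgroup.center (SpecialLinearGroup (Fin 2) F)) :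
    g = 1 ∨ g = (WU (1 : F)) ^ 2 := by
  rw [Matrix.SpecialLinearGroup.mem_center_iff] at hg
  obtain ⟨r, hr, hrg⟩ := hg
  have hr2 : r ^ 2 = 1 := by simpa using hr
  have hr' : r = 1 ∨ r = -1 := by
    rw [pow_two] at hr2
    exact mul_self_eq_one_iff.mp hr2
  rcases hr' with rfl | rfl
  · left
    apply Subtype.ext
    rw [← hrg]
    simp
  · right
    apply Subtype.ext
    rw [← hrg, WU_one_sq_coe]
    ext i j
    fin_cases i <;> fin_cases j <;> simp [Matrix.scalar_apply]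

theorem uMat_npow (a : F) (n : ℕ) : uMat F a ^ n = uMat F (n * a) := by
  rw [uMat_pow_nat, nsmul_eq_mul]

theorem uz_SL (z : F) (hz : z ≠ 0) (a : F) (i : ℤ) :
    uz (dMat z hz) (uMat F a) i = uMat F ((z ^ 2) ^ i * a) := by
  have key : ∀ n : ℕ, dMat z hz ^ n = dMat (z ^ n) (pow_ne_zero n hz) := by
    intro n
    induction n with
    | zero =>
      rw [pow_zero, dMat_congr (pow_zero z) (pow_ne_zero 0 hz) one_ne_zero, dMat_one]
    | succ n ih =>
      rw [pow_succ, ih, dMat_mul]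
      exact dMat_congr (pow_succ z n).symm _ _
  have key2 : ∀ i : ℤ, dMat z hz ^ i = dMat (z ^ i) (zpow_ne_zero i hz) := by
    intro i
    cases i with
    | ofNat n =>
      rw [Int.ofNat_eq_natCast, zpow_natCast, key]
      exact dMat_congr (zpow_natCast z n).symm _ _
    | negSucc n =>
      rw [zpow_negSucc, key, dMat_inv]
      exact dMat_congr (zpow_negSucc z n).symm _ _
  unfold uz
  rw [key2, dMat_conj]
  congr 1
  rw [pow_two, pow_two, mul_zpow]

end mat

section field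

/-- finite fields: a generator -/
theorem exists_gen (F : Type*) [Field F] [Finite F] :
    ∃ z : F, z ≠ 0 ∧ ∀ s : F, s ≠ 0 → ∃ n : ℕ, z ^ n = s := by
  obtain ⟨g, hg⟩ := IsCyclic.exists_monoid_generator (α := Fˣ)
  refine ⟨(g : F), g.ne_zero, ?_⟩
  intro s hs
  obtain ⟨n, hn⟩ := hg (Units.mk0 s hs)
  refine ⟨n, ?_⟩
  have := congrArg (fun x : Fˣ => (x : F)) hn
  simpa using this

/-- finite fields of characteristic 2: a generator whose square is also a generator -/
theorem exists_gen_two (F : Type*) [Field F] [Finite F] [CharP F 2] :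
    ∃ z : F, z ≠ 0 ∧ (∀ s : F, s ≠ 0 → ∃ n : ℕ, z ^ n = s) ∧
      (∀ s : F, s ≠ 0 → ∃ n : ℕ, (z ^ 2) ^ n = s) := by
  obtain ⟨z, hz0, hz⟩ := exists_gen F
  refine ⟨z, hz0, hz, ?_⟩
  haveI := Fintype.ofFinite F
  obtain ⟨n, hn⟩ := FiniteField.card F 2
  obtain ⟨hnp, hcard⟩ := hn
  have hq : z ^ Fintype.card F = z := FiniteField.pow_card z
  have hn0 : (n : ℕ) ≠ 0 := n.ne_zero
  have hz' : (z ^ 2) ^ (2 ^ ((n : ℕ) - 1)) = z := by
    rw [← pow_mul, ← pow_succ', Nat.sub_add_cancel (Nat.one_le_iff_ne_zero.mpr hn0), ← hcard, hq]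
  intro s hs
  obtain ⟨j, hj⟩ := hz s hs
  exact ⟨2 ^ ((n : ℕ) - 1) * j, by rw [pow_mul, hz', hj]⟩

/-- the minimal polynomial over the prime field -/
theorem exists_minpoly {p : ℕ} [Fact p.Prime] {F : Type*} [Field F] [Finite F]
    [Algebra (ZMod p) F] (lam : F) :
    ∃ m : (ZMod p)[X], aeval lam m = 0 ∧ ∀ f : (ZMod p)[X], aeval lam f = 0 → m ∣ f :=
  ⟨minpoly (ZMod p) lam, minpoly.aeval _ _, fun _ hf => minpoly.dvd _ _ hf⟩

end field

end Cfsg.Agent.Helper96.SLPres
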