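import Mathlib
import Cfsg.Agent.Helper96.SLPresA
import Cfsg.Agent.Helper96.SLPresMat
import Cfsg.Agent.Helper59.SLPresComm
import Cfsg.Agent.Helper21.SLPresBorel
import Cfsg.Agent.Helper21.SLPresSq

/-!
# Short presentations of `SL₂(q)` and `PSL₂(q)`, `q` odd: nine relators on three generators
-/

set_option autoImplicit false

namespace Cfsg.Agent.Helper96.SLPres

open Polynomial Matrix Subgroup Cfsg.Agent.Helper96.StemSLTwo Cfsg.Agent.Helper96.StPres

universe u

section words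

variable {D : Type*} [Group D] {E : Type*} [Group E]

/-- the eight relator words common to `SL₂` and `PSL₂` -/
noncomputable def oddCore (p : ℕ) (k c : ℤ) (m f g : (ZMod p)[X]) (u h t : D) : List D :=
  [u ^ p,
   u * uz h u 1 * u⁻¹ * (uz h u 1)⁻¹,
   u * uz h u 2 * u⁻¹ * (uz h u 2)⁻¹,
   uz h u k * (uz h u 2 * uz h u 1 ^ (2 * c) * uz h u 0)⁻¹,
   PW p h u m,
   t * h * t⁻¹ * h,
   u * (t * u * t⁻¹) * u * t⁻¹,
   PW p h u f * (t * PW p h u g * t⁻¹) * PW p h u f * (h * t)⁻¹]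

/-- the ninth word: `[t², u]` for `SL₂`, `t²` for `PSL₂` -/
def oddLast (s : Bool) (u t : D) : D := if s then t ^ 2 * u * (t ^ 2)⁻¹ * u⁻¹ else t ^ 2

/-- the nine relator words -/
noncomputable def oddWords (s : Bool) (p : ℕ) (k c : ℤ) (m f g : (ZMod p)[X]) (u h t : D) :
    List D :=
  oddLast s u t :: oddCore p k c m f g u h t

theorem length_oddWords (s : Bool) (p : ℕ) (k c : ℤ) (m f g : (ZMod p)[X]) (u h t : D) :
    (oddWords s p k c m f g u h t).length = 9 := rfl

theorem map_oddLast (φ : D →* E) (s : Bool) (u t : D) :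
    φ (oddLast s u t) = oddLast s (φ u) (φ t) := by
  unfold oddLast
  split_ifs <;> simp

theorem map_oddWords (φ : D →* E) (s : Bool) (p : ℕ) (k c : ℤ) (m f g : (ZMod p)[X])
    (u h t : D) :
    (oddWords s p k c m f g u h t).map φ = oddWords s p k c m f g (φ u) (φ h) (φ t) := by
  simp only [oddWords, oddCore, List.map_cons, List.map_nil, map_oddLast, map_mul, map_inv,
    map_pow, map_zpow, map_uz, map_PW]

theorem oddWords_true_of_false {p : ℕ} {k c : ℤ} {m f g : (ZMod p)[X]} {u h t : D}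
    (hw : ∀ w ∈ oddWords false p k c m f g u h t, w = 1) :
    ∀ w ∈ oddWords true p k c m f g u h t, w = 1 := by
  intro w hw'
  rw [oddWords, List.mem_cons] at hw'
  rcases hw' with rfl | hw'
  · have h1 : t ^ 2 = 1 := hw (t ^ 2) (by simp [oddWords, oddLast])
    simp [oddLast, h1]
  · exact hw w (by rw [oddWords, List.mem_cons]; exact Or.inr hw')

end words

/-- the abstract statement in odd characteristic -/
theorem bijective_odd {F : Type u} [Field F] [Fintype F] {p : ℕ} [Fact p.Prime]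
    [Algebra (ZMod p) F] (hp : Odd p)
    (z : F) (hz0 : z ≠ 0) (hz : ∀ s : F, s ≠ 0 → ∃ n : ℕ, z ^ n = s)
    (k c : ℤ) (hc : c = 1 ∨ c = -1)
    (m f g : (ZMod p)[X]) (hm : ∀ f' : (ZMod p)[X], aeval (z ^ 2) f' = 0 → m ∣ f')
    (hf : aeval (z ^ 2) f = z) (hg : aeval (z ^ 2) g = z⁻¹)
    {D : Type} [Group D] (u h t : D)
    (hw : ∀ w ∈ oddWords true p k c m f g u h t, w = 1)
    (hgen : closure {u, h, t} = ⊤)
    (π : D →* SpecialLinearGroup (Fin 2) F) (hπu : π u = uMat F 1) (hπh : π h = dMat z hz0)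
    (hπt : π t = WU 1) :
    Function.Bijective π := by
  have w0 : t ^ 2 * u * (t ^ 2)⁻¹ * u⁻¹ = 1 := hw _ (by simp [oddWords, oddLast])
  have w1 : u ^ p = 1 := hw _ (by simp [oddWords, oddCore])
  have w2 : u * uz h u 1 * u⁻¹ * (uz h u 1)⁻¹ = 1 := hw _ (by simp [oddWords, oddCore])
  have w3 : u * uz h u 2 * u⁻¹ * (uz h u 2)⁻¹ = 1 := hw _ (by simp [oddWords, oddCore])
  have w4 : uz h u k * (uz h u 2 * uz h u 1 ^ (2 * c) * uz h u 0)⁻¹ = 1 :=
    hw _ (by simp [oddWords, oddCore])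
  have w5 : PW p h u m = 1 := hw _ (by simp [oddWords, oddCore])
  have w6 : t * h * t⁻¹ * h = 1 := hw _ (by simp [oddWords, oddCore])
  have w7 : u * (t * u * t⁻¹) * u * t⁻¹ = 1 := hw _ (by simp [oddWords, oddCore])
  have w8 : PW p h u f * (t * PW p h u g * t⁻¹) * PW p h u f * (h * t)⁻¹ = 1 :=
    hw _ (by simp [oddWords, oddCore])
  have c1 : Commute u (uz h u 1) := by
    rw [mul_inv_eq_one, mul_inv_eq_iff_eq_mul] at w2
    exact w2
  have c2 : Commute u (uz h u 2) := by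
    rw [mul_inv_eq_one, mul_inv_eq_iff_eq_mul] at w3
    exact w3
  have hcomm := allComm_odd h u p hp w1 c1 c2 k c hc (mul_inv_eq_one.mp w4)
  have hsurj := exists_poly_of_sq (p := p) (z ^ 2) (fun s hs => by
    obtain ⟨n, hn⟩ := hz s hs
    exact ⟨n, by rw [← hn]; ring⟩)
  obtain ⟨x, hadd, hx1, hhx, hxPW⟩ := exists_borel (z ^ 2) hsurj m hm h u w1 hcomm w5
  have hth : t * h * t⁻¹ = h⁻¹ := mul_eq_one_iff_eq_inv.mp w6
  have ct2h : Commute (t ^ 2) h := by
    have e1 : t * h⁻¹ * t⁻¹ = h := by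
      have := congrArg (·⁻¹) hth
      simp only [_root_.mul_inv_rev, inv_inv] at this
      rw [← mul_assoc] at this
      exact this
    have e2 : t ^ 2 * h * (t ^ 2)⁻¹ = h := by
      calc t ^ 2 * h * (t ^ 2)⁻¹ = t * (t * h * t⁻¹) * t⁻¹ := by rw [pow_two]; group
        _ = h := by rw [hth, e1]
    exact mul_inv_eq_iff_eq_mul.mp e2
  have ct2u : Commute (t ^ 2) u := by
    rw [mul_inv_eq_one, mul_inv_eq_iff_eq_mul] at w0
    exact w0
  have hx : ∀ a, ∃ f' : (ZMod p)[X], x a = PW p h u f' ∧ aeval (z ^ 2) f' = a := by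
    intro a
    obtain ⟨f', hf'⟩ := hsurj a
    exact ⟨f', by rw [← hf', hxPW], hf'⟩
  refine bijective_of_weyl x h t z hz0 hz hadd hhx hth ?_ ?_ ?_ ?_ π ?_ hπt
  · intro a
    obtain ⟨f', hf', -⟩ := hx a
    rw [hf']
    exact commute_PW ct2h ct2u p f'
  · rw [hx1]
    have := mul_inv_eq_one.mp w7
    exact this
  · have e1 : x z = PW p h u f := by rw [← hf, hxPW]
    have e2 : x z⁻¹ = PW p h u g := by rw [← hg, hxPW]
    rw [e1, e2]
    exact mul_inv_eq_one.mp w8
  · rw [eq_top_iff, ← hgen, Subgroup.closure_le]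
    rintro y (rfl | rfl | hy)
    · apply Subgroup.subset_closure
      left
      exact ⟨1, hx1⟩
    · apply Subgroup.subset_closure
      right
      simp
    · rw [Set.mem_singleton_iff] at hy
      subst hy
      apply Subgroup.subset_closure
      right
      simp
  · intro a
    obtain ⟨f', hf', ha⟩ := hx a
    rw [hf', map_PW, hπh, hπu, PW_SL, ha]

end Cfsg.Agent.Helper96.SLPres

namespace Cfsg.Agent.Helper96.SLPres

open Polynomial Matrix Subgroup Cfsg.Agent.Helper96.StemSLTwo Cfsg.Agent.Helper96.StPres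

universe u

section SLside

variable {F : Type u} [Field F]

theorem uMat_commutator (a b : F) : uMat F a * uMat F b * (uMat F a)⁻¹ * (uMat F b)⁻¹ = 1 := by
  rw [mul_inv_eq_one, mul_inv_eq_iff_eq_mul, ← uMat_add, ← uMat_add, add_comm]

theorem uMat_zpow (a : F) (k : ℤ) : uMat F a ^ k = uMat F (k • a) := by
  have h := map_zpow (uHom F) (Multiplicative.ofAdd a) k
  rw [← ofAdd_zsmul] at h
  exact h.symm

theorem natCast_p_eq_zero (p : ℕ) [Fact p.Prime] [Algebra (ZMod p) F] : (p : F) = 0 := by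
  rw [← map_natCast (algebraMap (ZMod p) F), ZMod.natCast_self, map_zero]

/-- `w(1) = u(1) · t u(1) t⁻¹ · u(1)` in `SL₂` -/
theorem W1_SL : uMat F 1 * (WU (1 : F) * uMat F 1 * (WU (1 : F))⁻¹) * uMat F 1 = WU (1 : F) := by
  rw [WU_conj 1 1 one_ne_zero]
  unfold WU
  congr 3
  simp

/-- `w(z) = u(z) · t u(z⁻¹) t⁻¹ · u(z) = h t` in `SL₂` -/
theorem Wz_SL (z : F) (hz0 : z ≠ 0) :
    uMat F z * (WU (1 : F) * uMat F z⁻¹ * (WU (1 : F))⁻¹) * uMat F z = dMat z hz0 * WU (1 : F) := by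
  rw [WU_conj 1 z⁻¹ one_ne_zero, dMat_mul_WU_one]
  unfold WU
  congr 3
  simp

theorem oddCore_SL {p : ℕ} [Fact p.Prime] [Algebra (ZMod p) F] (z : F) (hz0 : z ≠ 0)
    (k c : ℤ) (hc : c = 1 ∨ c = -1) (hk : (z ^ 2) ^ k = (z ^ 2 + (c : F)) ^ 2)
    (m f g : (ZMod p)[X]) (hm0 : aeval (z ^ 2) m = 0)
    (hf : aeval (z ^ 2) f = z) (hg : aeval (z ^ 2) g = z⁻¹) :
    ∀ w ∈ oddCore p k c m f g (uMat F 1) (dMat z hz0) (WU (1 : F)), w = 1 := by
  simp only [oddCore, List.mem_cons, List.mem_nil_iff, or_false, forall_eq_or_imp, forall_eq]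
  refine ⟨?_, ?_, ?_, ?_, ?_, ?_, ?_, ?_⟩
  · rw [uMat_npow, mul_one, natCast_p_eq_zero, uMat_zero]
  · rw [uz_SL]
    exact uMat_commutator _ _
  · rw [uz_SL]
    exact uMat_commutator _ _
  · rw [uz_SL, uz_SL, uz_SL, uz_SL, mul_inv_eq_one, uMat_zpow, ← uMat_add, ← uMat_add]
    congr 1
    rw [hk, zsmul_eq_mul]
    have e2 : (z ^ 2) ^ (2 : ℤ) = (z ^ 2) ^ 2 := zpow_ofNat _ _
    rw [e2, zpow_one, zpow_zero]
    rcases hc with rfl | rfl
    · push_cast
      ring
    · push_cast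
      ring
  · rw [PW_SL, hm0, uMat_zero]
  · rw [WU_one_conj_dMat, inv_mul_cancel]
  · rw [W1_SL, mul_inv_cancel]
  · rw [PW_SL, PW_SL, hf, hg, Wz_SL z hz0, mul_inv_cancel]

theorem oddLast_SL : oddLast true (uMat F 1) (WU (1 : F)) = 1 := by
  unfold oddLast
  rw [if_pos rfl, mul_inv_eq_one, mul_inv_eq_iff_eq_mul]
  exact (WU_one_sq_comm (uMat F 1)).eq

end SLside

section presented

/-- a presented group on three generators is generated by them -/
theorem closure_three (rels : Set (FreeGroup (Fin 3))) :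
    closure {(PresentedGroup.of 0 : PresentedGroup rels), PresentedGroup.of 1,
      PresentedGroup.of 2} = ⊤ := by
  rw [← PresentedGroup.closure_range_of rels]
  congr 1
  ext g
  constructor
  · rintro (rfl | rfl | hg)
    · exact ⟨0, rfl⟩
    · exact ⟨1, rfl⟩
    · rw [Set.mem_singleton_iff] at hg
      subst hg
      exact ⟨2, rfl⟩
  · rintro ⟨i, rfl⟩
    fin_cases i
    · left; rfl
    · right; left; rfl
    · right; right; rfl

variable {p : ℕ}

/-- the relators -/
noncomputable def oddRels (s : Bool) (p : ℕ) (k c : ℤ) (m f g : (ZMod p)[X]) :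
    Finset (FreeGroup (Fin 3)) :=
  (oddWords s p k c m f g (FreeGroup.of 0) (FreeGroup.of 1) (FreeGroup.of 2)).toFinset

theorem card_oddRels (s : Bool) (k c : ℤ) (m f g : (ZMod p)[X]) :
    (oddRels s p k c m f g).card ≤ 9 :=
  (List.toFinset_card_le _).trans (le_of_eq (length_oddWords _ _ _ _ _ _ _ _ _ _))

/-- the relations hold in the presented group -/
theorem oddWords_presented (s : Bool) (k c : ℤ) (m f g : (ZMod p)[X]) :
    ∀ w ∈ oddWords s p k c m f g
      (PresentedGroup.of 0 : PresentedGroup (↑(oddRels s p k c m f g) : Set (FreeGroup (Fin 3))))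
      (PresentedGroup.of 1) (PresentedGroup.of 2), w = 1 := by
  intro w hw
  have h1 := map_oddWords (PresentedGroup.mk (↑(oddRels s p k c m f g) : Set (FreeGroup (Fin 3))))
    s p k c m f g (FreeGroup.of 0) (FreeGroup.of 1) (FreeGroup.of 2)
  change _ = oddWords s p k c m f g (PresentedGroup.of 0) (PresentedGroup.of 1)
    (PresentedGroup.of 2) at h1
  rw [← h1, List.mem_map] at hw
  obtain ⟨r, hr, rfl⟩ := hw
  apply PresentedGroup.one_of_mem
  rw [Finset.mem_coe, oddRels, List.mem_toFinset]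
  exact hr

/-- a triple satisfying the relations gives a homomorphism from the presented group -/
theorem oddRels_lift {G : Type*} [Group G] (s : Bool) (k c : ℤ) (m f g : (ZMod p)[X])
    (a : Fin 3 → G) (ha : ∀ w ∈ oddWords s p k c m f g (a 0) (a 1) (a 2), w = 1) :
    ∀ r ∈ (↑(oddRels s p k c m f g) : Set (FreeGroup (Fin 3))), FreeGroup.lift a r = 1 := by
  intro r hr
  rw [Finset.mem_coe, oddRels, List.mem_toFinset] at hr
  apply ha
  have h1 := map_oddWords (FreeGroup.lift a) s p k c m f g (FreeGroup.of 0) (FreeGroup.of 1)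
    (FreeGroup.of 2)
  simp only [FreeGroup.lift_apply_of] at h1
  rw [← h1]
  exact List.mem_map_of_mem hr

end presented

end Cfsg.Agent.Helper96.SLPres
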