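import Mathlib
import Cfsg.Agent.Helper96.SLPresOdd

/-!
# Short presentations of `SL₂(q)` and `PSL₂(q)`, `q` odd: the isomorphisms
-/

set_option autoImplicit false

namespace Cfsg.Agent.Helper96.SLPres

open Polynomial Matrix Subgroup Cfsg.Agent.Helper96.StemSLTwo Cfsg.Agent.Helper96.StPres

universe u

/-- passing to `PSL₂`: a quotient of a presentation of `SL₂` that kills the centre and still
maps onto `PSL₂` compatibly is `PSL₂`. -/
theorem psl_bijective {F : Type u} [Field F] {D D' : Type*} [Group D] [Group D']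
    (ε : D →* SpecialLinearGroup (Fin 2) F) (hε : Function.Surjective ε)
    (ψ : D →* D') (hψ : Function.Surjective ψ)
    (π' : D' →* ProjectiveSpecialLinearGroup (Fin 2) F)
    (hc : ∀ g : D, ε g ∈ center (SpecialLinearGroup (Fin 2) F) → ψ g = 1)
    (hcomp : ∀ g : D, π' (ψ g) = QuotientGroup.mk (ε g)) : Function.Bijective π' := by
  constructor
  · rw [injective_iff_map_eq_one]
    intro d hd
    obtain ⟨g, rfl⟩ := hψ d
    rw [hcomp, QuotientGroup.eq_one_iff] at hd
    exact hc g hd
  · intro y
    obtain ⟨M, rfl⟩ := QuotientGroup.mk_surjective y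
    obtain ⟨g, rfl⟩ := hε M
    exact ⟨ψ g, hcomp g⟩

/-- the data defining the presentation in odd characteristic -/
structure OddData (F : Type u) [Field F] (p : ℕ) [Fact p.Prime] [Algebra (ZMod p) F] where
  z : F
  hz0 : z ≠ 0
  k : ℤ
  c : ℤ
  m : (ZMod p)[X]
  f : (ZMod p)[X]
  g : (ZMod p)[X]
  hz : ∀ s : F, s ≠ 0 → ∃ n : ℕ, z ^ n = s
  hc : c = 1 ∨ c = -1
  hk : (z ^ 2) ^ k = (z ^ 2 + (c : F)) ^ 2
  hm0 : aeval (z ^ 2) m = 0
  hm : ∀ f' : (ZMod p)[X], aeval (z ^ 2) f' = 0 → m ∣ f'
  hf : aeval (z ^ 2) f = z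
  hg : aeval (z ^ 2) g = z⁻¹

section main

variable {F : Type u} [Field F] {p : ℕ} [Fact p.Prime] [Algebra (ZMod p) F]

/-- the relators attached to the data -/
noncomputable def OddData.rels (d : OddData F p) (s : Bool) : Finset (FreeGroup (Fin 3)) :=
  oddRels s p d.k d.c d.m d.f d.g

/-- the images of the generators in `SL₂` -/
noncomputable def OddData.gens (d : OddData F p) : Fin 3 → SpecialLinearGroup (Fin 2) F :=
  ![uMat F 1, dMat d.z d.hz0, WU (1 : F)]

theorem OddData.gens_rel (d : OddData F p) :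
    ∀ w ∈ oddWords true p d.k d.c d.m d.f d.g (d.gens 0) (d.gens 1) (d.gens 2), w = 1 := by
  intro w hw
  rw [oddWords, List.mem_cons] at hw
  rcases hw with rfl | hw
  · exact oddLast_SL
  · exact oddCore_SL d.z d.hz0 d.k d.c d.hc d.hk d.m d.f d.g d.hm0 d.hf d.hg w hw

/-- the homomorphism to `SL₂` -/
noncomputable def OddData.pi (d : OddData F p) :
    PresentedGroup (↑(d.rels true) : Set (FreeGroup (Fin 3))) →* SpecialLinearGroup (Fin 2) F :=
  PresentedGroup.toGroup (oddRels_lift true d.k d.c d.m d.f d.g d.gens d.gens_rel)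

theorem OddData.pi_of (d : OddData F p) (i : Fin 3) : d.pi (PresentedGroup.of i) = d.gens i :=
  PresentedGroup.toGroup.of _

theorem OddData.pi_bijective [Fintype F] (d : OddData F p) (hp : Odd p) :
    Function.Bijective d.pi :=
  bijective_odd hp d.z d.hz0 d.hz d.k d.c d.hc d.m d.f d.g d.hm d.hf d.hg
    (PresentedGroup.of 0) (PresentedGroup.of 1) (PresentedGroup.of 2)
    (oddWords_presented true d.k d.c d.m d.f d.g) (closure_three _) d.pi
    (d.pi_of 0) (d.pi_of 1) (d.pi_of 2)

/-- the images of the generators in `PSL₂` -/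
noncomputable def OddData.pgens (d : OddData F p) :
    Fin 3 → ProjectiveSpecialLinearGroup (Fin 2) F :=
  fun i => QuotientGroup.mk (d.gens i)

theorem OddData.pgens_rel (d : OddData F p) :
    ∀ w ∈ oddWords false p d.k d.c d.m d.f d.g (d.pgens 0) (d.pgens 1) (d.pgens 2), w = 1 := by
  intro w hw
  have h1 := map_oddWords (QuotientGroup.mk' (center (SpecialLinearGroup (Fin 2) F)))
    false p d.k d.c d.m d.f d.g (d.gens 0) (d.gens 1) (d.gens 2)
  change _ = oddWords false p d.k d.c d.m d.f d.g (d.pgens 0) (d.pgens 1) (d.pgens 2) at h1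
  rw [← h1, List.mem_map] at hw
  obtain ⟨r, hr, rfl⟩ := hw
  rw [oddWords, List.mem_cons] at hr
  rcases hr with rfl | hr
  · rw [QuotientGroup.mk'_apply, QuotientGroup.eq_one_iff, Subgroup.mem_center_iff]
    intro g
    have : oddLast false (d.gens 0) (d.gens 2) = (WU (1 : F)) ^ 2 := rfl
    rw [this]
    exact ((WU_one_sq_comm g).eq).symm
  · rw [oddCore_SL d.z d.hz0 d.k d.c d.hc d.hk d.m d.f d.g d.hm0 d.hf d.hg r hr, map_one]

/-- the homomorphism to `PSL₂` -/
noncomputable def OddData.ppi (d : OddData F p) :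
    PresentedGroup (↑(d.rels false) : Set (FreeGroup (Fin 3))) →*
      ProjectiveSpecialLinearGroup (Fin 2) F :=
  PresentedGroup.toGroup (oddRels_lift false d.k d.c d.m d.f d.g d.pgens d.pgens_rel)

/-- the quotient map between the two presented groups -/
noncomputable def OddData.psi (d : OddData F p) :
    PresentedGroup (↑(d.rels true) : Set (FreeGroup (Fin 3))) →*
      PresentedGroup (↑(d.rels false) : Set (FreeGroup (Fin 3))) :=
  PresentedGroup.toGroup (oddRels_lift true d.k d.c d.m d.f d.g
    (fun i => (PresentedGroup.of i : PresentedGroup (↑(d.rels false) : Set (FreeGroup (Fin 3)))))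
    (oddWords_true_of_false (oddWords_presented false d.k d.c d.m d.f d.g)))

theorem OddData.psi_of (d : OddData F p) (i : Fin 3) :
    d.psi (PresentedGroup.of i) = PresentedGroup.of i :=
  PresentedGroup.toGroup.of _

theorem OddData.ppi_bijective [Fintype F] (d : OddData F p) (hp : Odd p) :
    Function.Bijective d.ppi := by
  refine psl_bijective d.pi (d.pi_bijective hp).2 d.psi ?_ d.ppi ?_ ?_
  · rw [← MonoidHom.range_eq_top, eq_top_iff, ← closure_three, Subgroup.closure_le]
    rintro g (rfl | rfl | hg)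
    · exact ⟨_, d.psi_of 0⟩
    · exact ⟨_, d.psi_of 1⟩
    · rw [Set.mem_singleton_iff] at hg
      subst hg
      exact ⟨_, d.psi_of 2⟩
  · intro g hg
    rcases center_SL2 _ hg with h1 | h1
    · have : g = 1 := (d.pi_bijective hp).1 (by rw [h1, map_one])
      rw [this, map_one]
    · have : g = (PresentedGroup.of 2) ^ 2 := (d.pi_bijective hp).1 (by
        rw [h1, map_pow, d.pi_of]
        rfl)
      rw [this, map_pow, d.psi_of]
      exact oddWords_presented false d.k d.c d.m d.f d.g _ List.mem_cons_self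
  · intro g
    have : d.ppi.comp d.psi =
        (QuotientGroup.mk' (center (SpecialLinearGroup (Fin 2) F))).comp d.pi := by
      apply PresentedGroup.ext
      intro i
      rw [MonoidHom.comp_apply, MonoidHom.comp_apply, d.psi_of, d.pi_of]
      exact PresentedGroup.toGroup.of _
    exact DFunLike.congr_fun this g

end main

end Cfsg.Agent.Helper96.SLPres
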