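import Mathlib
import Cfsg.Agent.Helper96.SLPresOddMain

/-!
# Short presentations of `SL₂(q) = PSL₂(q)`, `q` even: five relators on three generators
-/

set_option autoImplicit false

namespace Cfsg.Agent.Helper96.SLPres

open Polynomial Matrix Subgroup Cfsg.Agent.Helper96.StemSLTwo Cfsg.Agent.Helper96.StPres

universe u

section words

variable {D : Type*} [Group D] {E : Type*} [Group E]

/-- the third word: `u_k = u_1 u_0`, or `[h, u]` for the field of two elements -/
def evenThird (e3 : Bool) (k : ℤ) (u h : D) : D :=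
  if e3 then uz h u k * (uz h u 1 * uz h u 0)⁻¹ else h * u * h⁻¹ * u⁻¹

/-- the five relator words in characteristic two; the Weyl element is `t = u y u` -/
noncomputable def evenWords (e3 : Bool) (k : ℤ) (m f g : (ZMod 2)[X]) (u h y : D) : List D :=
  [u ^ 2,
   (u * y * u) * u * (u * y * u)⁻¹ * y⁻¹,
   evenThird e3 k u h,
   PW 2 h u m,
   PW 2 h u f * ((u * y * u) * PW 2 h u g * (u * y * u)⁻¹) * PW 2 h u f * (h * (u * y * u))⁻¹]

theorem length_evenWords (e3 : Bool) (k : ℤ) (m f g : (ZMod 2)[X]) (u h y : D) :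
    (evenWords e3 k m f g u h y).length = 5 := rfl

theorem map_evenThird (φ : D →* E) (e3 : Bool) (k : ℤ) (u h : D) :
    φ (evenThird e3 k u h) = evenThird e3 k (φ u) (φ h) := by
  unfold evenThird
  split_ifs <;> simp [map_uz]

theorem map_evenWords (φ : D →* E) (e3 : Bool) (k : ℤ) (m f g : (ZMod 2)[X]) (u h y : D) :
    (evenWords e3 k m f g u h y).map φ = evenWords e3 k m f g (φ u) (φ h) (φ y) := by
  simp only [evenWords, List.map_cons, List.map_nil, map_evenThird, map_mul, map_inv,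
    map_pow, map_PW]

end words

/-- the abstract statement in characteristic two -/
theorem bijective_even {F : Type u} [Field F] [Fintype F] [Algebra (ZMod 2) F]
    (z : F) (hz0 : z ≠ 0) (hz : ∀ s : F, s ≠ 0 → ∃ n : ℕ, z ^ n = s)
    (e3 : Bool) (k : ℤ)
    (m f g : (ZMod 2)[X]) (hm : ∀ f' : (ZMod 2)[X], aeval (z ^ 2) f' = 0 → m ∣ f')
    (hf : aeval (z ^ 2) f = z) (hg : aeval (z ^ 2) g = z⁻¹)
    {D : Type} [Group D] (u h y : D)
    (hw : ∀ w ∈ evenWords e3 k m f g u h y, w = 1)
    (hgen : closure {u, h, y} = ⊤)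
    (π : D →* SpecialLinearGroup (Fin 2) F) (hπu : π u = uMat F 1) (hπh : π h = dMat z hz0)
    (hπy : π y = lMat F (-1)) :
    Function.Bijective π ∧ (u * y * u) ^ 2 = 1 := by
  have w1 : u ^ 2 = 1 := hw _ (by simp [evenWords])
  have w2 : (u * y * u) * u * (u * y * u)⁻¹ * y⁻¹ = 1 := hw _ (by simp [evenWords])
  have w3 : evenThird e3 k u h = 1 := hw _ (by simp [evenWords])
  have w4 : PW 2 h u m = 1 := hw _ (by simp [evenWords])
  have w5 : PW 2 h u f * ((u * y * u) * PW 2 h u g * (u * y * u)⁻¹) * PW 2 h u f *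
      (h * (u * y * u))⁻¹ = 1 := hw _ (by simp [evenWords])
  set t := u * y * u with ht
  have hy : t * u * t⁻¹ = y := mul_inv_eq_one.mp w2
  have y2 : y ^ 2 = 1 := by
    rw [← hy, conj_pow, w1]
    group
  have t2 : t ^ 2 = 1 := by
    have e1 : t ^ 2 = u * y * u ^ 2 * y * u := by
      rw [ht, pow_two, pow_two]
      group
    rw [e1, w1, mul_one, mul_assoc u y y, ← pow_two, y2, mul_one, ← pow_two, w1]
  have tinv : t⁻¹ = t := by
    rw [inv_eq_iff_mul_eq_one, ← pow_two, t2]
  have hcomm : ∀ i j : ℤ, Commute (uz h u i) (uz h u j) := by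
    cases e3
    · apply allComm_triv
      have : h * u * h⁻¹ * u⁻¹ = 1 := w3
      rw [mul_inv_eq_one, mul_inv_eq_iff_eq_mul] at this
      exact this
    · exact allComm_even h u w1 k (mul_inv_eq_one.mp w3)
  have hsurj := exists_poly_of_sq (p := 2) (z ^ 2) (fun s hs => by
    obtain ⟨n, hn⟩ := hz s hs
    exact ⟨n, by rw [← hn]; ring⟩)
  obtain ⟨x, hadd, hx1, hhx, hxPW⟩ := exists_borel (z ^ 2) hsurj m hm h u w1 hcomm w4
  have hx : ∀ a, ∃ f' : (ZMod 2)[X], x a = PW 2 h u f' ∧ aeval (z ^ 2) f' = a := by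
    intro a
    obtain ⟨f', hf'⟩ := hsurj a
    exact ⟨f', by rw [← hf', hxPW], hf'⟩
  have e1 : x z = PW 2 h u f := by rw [← hf, hxPW]
  have e2 : x z⁻¹ = PW 2 h u g := by rw [← hg, hxPW]
  have hWz : x z * (t * x z⁻¹ * t⁻¹) * x z = h * t := by
    rw [e1, e2]
    exact mul_inv_eq_one.mp w5
  have two0 : (2 : F) = 0 := by
    have := natCast_p_eq_zero (F := F) 2
    exact_mod_cast this
  have xx : ∀ a, x a * x a = 1 := by
    intro a
    rw [← hadd, ← two_mul, two0, zero_mul, x_zero hadd]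
  have hth : t * h * t⁻¹ = h⁻¹ := by
    set a := x z
    set b := t * x z⁻¹ * t⁻¹ with hb
    have b2 : b * b = 1 := by
      rw [hb]
      have : t * x z⁻¹ * t⁻¹ * (t * x z⁻¹ * t⁻¹) = t * (x z⁻¹ * x z⁻¹) * t⁻¹ := by group
      rw [this, xx]
      group
    have W2 : (a * b * a) * (a * b * a) = 1 := by
      have : a * b * a * (a * b * a) = a * (b * (a * a) * b) * a := by group
      rw [this, xx, mul_one, b2, mul_one, xx]
    have hh' : h = a * b * a * t := by
      rw [hWz, mul_assoc, ← pow_two, t2, mul_one]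
    have hinv : h⁻¹ = t * (a * b * a) := by
      rw [hh']
      apply inv_eq_of_mul_eq_one_right
      have : a * b * a * t * (t * (a * b * a)) = a * b * a * (t ^ 2) * (a * b * a) := by
        rw [pow_two]
        group
      rw [this, t2, mul_one, W2]
    rw [hinv, tinv, hh', mul_assoc t, mul_assoc (a * b * a), ← pow_two, t2, mul_one]
  have hπt : π t = WU 1 := by
    rw [ht, map_mul, map_mul, hπu, hπy]
    unfold WU
    congr 3
    simp
  refine ⟨?_, t2⟩
  refine bijective_of_weyl x h t z hz0 hz hadd hhx hth ?_ ?_ hWz ?_ π ?_ hπt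
  · intro a
    rw [t2]
    exact Commute.one_left _
  · rw [hx1, hy]
  · rw [eq_top_iff, ← hgen, Subgroup.closure_le]
    have hum : u ∈ closure (Set.range x ∪ {h, t}) :=
      Subgroup.subset_closure (Or.inl ⟨1, hx1⟩)
    have htm : t ∈ closure (Set.range x ∪ {h, t}) :=
      Subgroup.subset_closure (Or.inr (by simp))
    rintro v (rfl | rfl | hv)
    · exact hum
    · exact Subgroup.subset_closure (Or.inr (by simp))
    · rw [Set.mem_singleton_iff] at hv
      subst hv
      rw [← hy]
      exact mul_mem (mul_mem htm hum) (inv_mem htm)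
  · intro a
    obtain ⟨f', hf', ha⟩ := hx a
    rw [hf', map_PW, hπh, hπu, PW_SL, ha]

end Cfsg.Agent.Helper96.SLPres
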