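import Mathlib
import Cfsg.Agent.Helper96.SLPresEven

/-!
# Short presentations of `SL₂(q)`, `PSL₂(q)`: the final statements
-/

set_option autoImplicit false

namespace Cfsg.Agent.Helper96.SLPres

open Polynomial Matrix Subgroup Cfsg.Agent.Helper96.StemSLTwo Cfsg.Agent.Helper96.StPres

universe u

section SLside

variable {F : Type u} [Field F]

theorem t_SL : uMat F 1 * lMat F (-1) * uMat F 1 = WU (1 : F) := by
  unfold WU
  congr 3
  simp

theorem evenWords_SL [Algebra (ZMod 2) F] (z : F) (hz0 : z ≠ 0) (e3 : Bool) (k : ℤ)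
    (hk : e3 = true → (z ^ 2) ^ k = z ^ 2 + 1) (h1 : e3 = false → z = 1)
    (m f g : (ZMod 2)[X]) (hm0 : aeval (z ^ 2) m = 0)
    (hf : aeval (z ^ 2) f = z) (hg : aeval (z ^ 2) g = z⁻¹) :
    ∀ w ∈ evenWords e3 k m f g (uMat F 1) (dMat z hz0) (lMat F (-1)), w = 1 := by
  simp only [evenWords, List.mem_cons, List.mem_nil_iff, or_false, forall_eq_or_imp, forall_eq,
    t_SL]
  refine ⟨?_, ?_, ?_, ?_, ?_⟩
  · rw [uMat_npow, mul_one, natCast_p_eq_zero, uMat_zero]
  · rw [WU_conj 1 1 one_ne_zero, mul_inv_eq_one]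
    congr 1
    simp
  · unfold evenThird
    cases e3
    · rw [if_neg (by simp), dMat_congr (h1 rfl) hz0 one_ne_zero, dMat_one]
      simp
    · rw [if_pos rfl, uz_SL, uz_SL, uz_SL, mul_inv_eq_one, ← uMat_add]
      congr 1
      rw [hk rfl, zpow_one, zpow_zero]
      ring
  · rw [PW_SL, hm0, uMat_zero]
  · rw [PW_SL, PW_SL, hf, hg, Wz_SL z hz0, mul_inv_cancel]

end SLside

section presented

/-- the relators -/
noncomputable def evenRels (e3 : Bool) (k : ℤ) (m f g : (ZMod 2)[X]) :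
    Finset (FreeGroup (Fin 3)) :=
  (evenWords e3 k m f g (FreeGroup.of 0) (FreeGroup.of 1) (FreeGroup.of 2)).toFinset

theorem card_evenRels (e3 : Bool) (k : ℤ) (m f g : (ZMod 2)[X]) :
    (evenRels e3 k m f g).card ≤ 5 :=
  (List.toFinset_card_le _).trans (le_of_eq (length_evenWords _ _ _ _ _ _ _ _))

theorem evenWords_presented (e3 : Bool) (k : ℤ) (m f g : (ZMod 2)[X]) :
    ∀ w ∈ evenWords e3 k m f g
      (PresentedGroup.of 0 : PresentedGroup (↑(evenRels e3 k m f g) : Set (FreeGroup (Fin 3))))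
      (PresentedGroup.of 1) (PresentedGroup.of 2), w = 1 := by
  intro w hw
  have h1 := map_evenWords (PresentedGroup.mk (↑(evenRels e3 k m f g) : Set (FreeGroup (Fin 3))))
    e3 k m f g (FreeGroup.of 0) (FreeGroup.of 1) (FreeGroup.of 2)
  change _ = evenWords e3 k m f g (PresentedGroup.of 0) (PresentedGroup.of 1)
    (PresentedGroup.of 2) at h1
  rw [← h1, List.mem_map] at hw
  obtain ⟨r, hr, rfl⟩ := hw
  apply PresentedGroup.one_of_mem
  rw [Finset.mem_coe, evenRels, List.mem_toFinset]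
  exact hr

theorem evenRels_lift {G : Type*} [Group G] (e3 : Bool) (k : ℤ) (m f g : (ZMod 2)[X])
    (a : Fin 3 → G) (ha : ∀ w ∈ evenWords e3 k m f g (a 0) (a 1) (a 2), w = 1) :
    ∀ r ∈ (↑(evenRels e3 k m f g) : Set (FreeGroup (Fin 3))), FreeGroup.lift a r = 1 := by
  intro r hr
  rw [Finset.mem_coe, evenRels, List.mem_toFinset] at hr
  apply ha
  have h1 := map_evenWords (FreeGroup.lift a) e3 k m f g (FreeGroup.of 0) (FreeGroup.of 1)
    (FreeGroup.of 2)
  simp only [FreeGroup.lift_apply_of] at h1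
  rw [← h1]
  exact List.mem_map_of_mem hr

end presented

/-- the data defining the presentation in characteristic two -/
structure EvenData (F : Type u) [Field F] [Algebra (ZMod 2) F] where
  z : F
  hz0 : z ≠ 0
  e3 : Bool
  k : ℤ
  m : (ZMod 2)[X]
  f : (ZMod 2)[X]
  g : (ZMod 2)[X]
  hz : ∀ s : F, s ≠ 0 → ∃ n : ℕ, z ^ n = s
  hk : e3 = true → (z ^ 2) ^ k = z ^ 2 + 1
  h1 : e3 = false → z = 1
  hm0 : aeval (z ^ 2) m = 0
  hm : ∀ f' : (ZMod 2)[X], aeval (z ^ 2) f' = 0 → m ∣ f'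
  hf : aeval (z ^ 2) f = z
  hg : aeval (z ^ 2) g = z⁻¹

section evenmain

variable {F : Type u} [Field F] [Algebra (ZMod 2) F]

noncomputable def EvenData.rels (d : EvenData F) : Finset (FreeGroup (Fin 3)) :=
  evenRels d.e3 d.k d.m d.f d.g

noncomputable def EvenData.gens (d : EvenData F) : Fin 3 → SpecialLinearGroup (Fin 2) F :=
  ![uMat F 1, dMat d.z d.hz0, lMat F (-1)]

theorem EvenData.gens_rel (d : EvenData F) :
    ∀ w ∈ evenWords d.e3 d.k d.m d.f d.g (d.gens 0) (d.gens 1) (d.gens 2), w = 1 :=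
  evenWords_SL d.z d.hz0 d.e3 d.k d.hk d.h1 d.m d.f d.g d.hm0 d.hf d.hg

noncomputable def EvenData.pi (d : EvenData F) :
    PresentedGroup (↑d.rels : Set (FreeGroup (Fin 3))) →* SpecialLinearGroup (Fin 2) F :=
  PresentedGroup.toGroup (evenRels_lift d.e3 d.k d.m d.f d.g d.gens d.gens_rel)

theorem EvenData.pi_of (d : EvenData F) (i : Fin 3) : d.pi (PresentedGroup.of i) = d.gens i :=
  PresentedGroup.toGroup.of _

theorem EvenData.pi_bijective' [Fintype F] (d : EvenData F) :
    Function.Bijective d.pi ∧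
      ((PresentedGroup.of 0 : PresentedGroup (↑d.rels : Set (FreeGroup (Fin 3)))) *
        PresentedGroup.of 2 * PresentedGroup.of 0) ^ 2 = 1 :=
  bijective_even d.z d.hz0 d.hz d.e3 d.k d.m d.f d.g d.hm d.hf d.hg
    (PresentedGroup.of 0) (PresentedGroup.of 1) (PresentedGroup.of 2)
    (evenWords_presented d.e3 d.k d.m d.f d.g) (closure_three _) d.pi
    (d.pi_of 0) (d.pi_of 1) (d.pi_of 2)

theorem EvenData.ppi_bijective [Fintype F] (d : EvenData F) :
    Function.Bijective
      ((QuotientGroup.mk' (center (SpecialLinearGroup (Fin 2) F))).comp d.pi) := by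
  obtain ⟨hbij, ht2⟩ := d.pi_bijective'
  refine psl_bijective d.pi hbij.2 (MonoidHom.id _) (fun x => ⟨x, rfl⟩) _ ?_ (fun g => rfl)
  intro g hg
  have hW : (WU (1 : F)) ^ 2 = 1 := by
    have := congrArg d.pi ht2
    rw [map_pow, map_mul, map_mul, d.pi_of, d.pi_of, map_one] at this
    rw [← this]
    congr 1
    exact t_SL.symm
  change g = 1
  rcases center_SL2 _ hg with h1 | h1
  · exact hbij.1 (by rw [h1, map_one])
  · rw [hW] at h1
    exact hbij.1 (by rw [h1, map_one])

end evenmain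

end Cfsg.Agent.Helper96.SLPres
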