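import Mathlib
import Cfsg.Agent.Helper96.SLPresEvenMain

/-!
# Short presentations of `SL₂(q)`, `PSL₂(q)`: existence of the data and the final statement
-/

set_option autoImplicit false

namespace Cfsg.Agent.Helper96.SLPres

open Polynomial Matrix Subgroup Cfsg.Agent.Helper96.StemSLTwo Cfsg.Agent.Helper96.StPres

universe u

theorem exists_oddData {F : Type u} [Field F] [Fintype F] {p : ℕ} [Fact p.Prime]
    [Algebra (ZMod p) F] (hp : Odd p) : Nonempty (OddData F p) := by
  obtain ⟨z, hz0, hz⟩ := exists_gen F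
  haveI : CharP F p := charP_of_injective_algebraMap (algebraMap (ZMod p) F).injective p
  have two_ne : (2 : F) ≠ 0 := by
    intro h
    have h2 : ((2 : ℕ) : F) = 0 := by exact_mod_cast h
    have h3 : p ∣ 2 := (CharP.cast_eq_zero_iff F p 2).mp h2
    have h4 : p = 2 := (Nat.prime_dvd_prime_iff_eq (Fact.out : p.Prime) Nat.prime_two).mp h3
    rw [h4] at hp
    exact absurd hp (by decide)
  have hc : ∃ c : ℤ, (c = 1 ∨ c = -1) ∧ z ^ 2 + (c : F) ≠ 0 := by
    by_cases h1 : z ^ 2 + 1 = 0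
    · refine ⟨-1, Or.inr rfl, ?_⟩
      intro h2
      apply two_ne
      have : (2 : F) = (z ^ 2 + 1) - (z ^ 2 + ((-1 : ℤ) : F)) := by
        push_cast
        ring
      rw [this, h1, h2, sub_zero]
    · exact ⟨1, Or.inl rfl, by simpa using h1⟩
  obtain ⟨c, hc, hne⟩ := hc
  obtain ⟨n, hn⟩ := hz _ hne
  obtain ⟨m, hm0, hm⟩ := exists_minpoly (p := p) (z ^ 2)
  have hsurj := exists_poly_of_sq (p := p) (z ^ 2) (fun s hs => by
    obtain ⟨n, hn⟩ := hz s hs
    exact ⟨n, by rw [← hn]; ring⟩)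
  obtain ⟨f, hf⟩ := hsurj z
  obtain ⟨g, hg⟩ := hsurj z⁻¹
  exact ⟨{ z := z, hz0 := hz0, k := n, c := c, m := m, f := f, g := g, hz := hz, hc := hc,
           hk := by rw [zpow_natCast, ← hn]; ring
           hm0 := hm0, hm := hm, hf := hf, hg := hg }⟩

theorem exists_evenData {F : Type u} [Field F] [Fintype F] [Algebra (ZMod 2) F] :
    Nonempty (EvenData F) := by
  haveI : CharP F 2 := charP_of_injective_algebraMap (algebraMap (ZMod 2) F).injective 2
  obtain ⟨z, hz0, hz, hz2⟩ := exists_gen_two F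
  obtain ⟨m, hm0, hm⟩ := exists_minpoly (p := 2) (z ^ 2)
  have hsurj := exists_poly_of_sq (p := 2) (z ^ 2) (fun s hs => by
    obtain ⟨n, hn⟩ := hz s hs
    exact ⟨n, by rw [← hn]; ring⟩)
  obtain ⟨f, hf⟩ := hsurj z
  obtain ⟨g, hg⟩ := hsurj z⁻¹
  by_cases h1 : z ^ 2 + 1 = 0
  · have hz1 : z = 1 := by
      have h2 : z ^ 2 = 1 := by
        have : z ^ 2 = -1 := eq_neg_of_add_eq_zero_left h1
        rw [this, CharTwo.neg_eq]
      obtain ⟨n, hn⟩ := hz2 z hz0
      rw [h2, one_pow] at hn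
      exact hn.symm
    exact ⟨{ z := z, hz0 := hz0, e3 := false, k := 0, m := m, f := f, g := g, hz := hz,
             hk := by intro h; cases h
             h1 := fun _ => hz1
             hm0 := hm0, hm := hm, hf := hf, hg := hg }⟩
  · obtain ⟨n, hn⟩ := hz2 _ h1
    exact ⟨{ z := z, hz0 := hz0, e3 := true, k := n, m := m, f := f, g := g, hz := hz,
             hk := fun _ => by rw [zpow_natCast, hn]
             h1 := by intro h; cases h
             hm0 := hm0, hm := hm, hf := hf, hg := hg }⟩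

/-- `SL₂(q)`, `q` odd: three generators, nine relators -/
theorem odd_SL {F : Type u} [Field F] [Fintype F] {p : ℕ} [Fact p.Prime]
    [Algebra (ZMod p) F] (hp : Odd p) :
    ∃ rels : Finset (FreeGroup (Fin 3)), rels.card ≤ 9 ∧
      Nonempty (PresentedGroup (↑rels : Set (FreeGroup (Fin 3))) ≃*
        Matrix.SpecialLinearGroup (Fin 2) F) := by
  obtain ⟨d⟩ := exists_oddData (F := F) hp
  exact ⟨d.rels true, card_oddRels _ _ _ _ _ _,
    ⟨MulEquiv.ofBijective d.pi (d.pi_bijective hp)⟩⟩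

/-- `PSL₂(q)`, `q` odd: three generators, nine relators -/
theorem odd_PSL {F : Type u} [Field F] [Fintype F] {p : ℕ} [Fact p.Prime]
    [Algebra (ZMod p) F] (hp : Odd p) :
    ∃ rels : Finset (FreeGroup (Fin 3)), rels.card ≤ 9 ∧
      Nonempty (PresentedGroup (↑rels : Set (FreeGroup (Fin 3))) ≃*
        Matrix.ProjectiveSpecialLinearGroup (Fin 2) F) := by
  obtain ⟨d⟩ := exists_oddData (F := F) hp
  exact ⟨d.rels false, card_oddRels _ _ _ _ _ _,
    ⟨MulEquiv.ofBijective d.ppi (d.ppi_bijective hp)⟩⟩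

/-- `SL₂(q) = PSL₂(q)`, `q` even: three generators, five relators -/
theorem even_all {F : Type u} [Field F] [Fintype F] [Algebra (ZMod 2) F] :
    ∃ rels : Finset (FreeGroup (Fin 3)), rels.card ≤ 5 ∧
      Nonempty (PresentedGroup (↑rels : Set (FreeGroup (Fin 3))) ≃*
        Matrix.SpecialLinearGroup (Fin 2) F) ∧
      Nonempty (PresentedGroup (↑rels : Set (FreeGroup (Fin 3))) ≃*
        Matrix.ProjectiveSpecialLinearGroup (Fin 2) F) := by
  obtain ⟨d⟩ := exists_evenData (F := F)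
  exact ⟨d.rels, card_evenRels _ _ _ _ _,
    ⟨MulEquiv.ofBijective d.pi d.pi_bijective'.1⟩,
    ⟨MulEquiv.ofBijective _ d.ppi_bijective⟩⟩

/-- the final statement -/
theorem sl_two_presentations {F : Type u} [Field F] [Fintype F] :
    (∃ rels : Finset (FreeGroup (Fin 3)), rels.card ≤ 9 ∧
      Nonempty (PresentedGroup (↑rels : Set (FreeGroup (Fin 3))) ≃*
        Matrix.SpecialLinearGroup (Fin 2) F)) ∧
    (∃ rels : Finset (FreeGroup (Fin 3)), rels.card ≤ 9 ∧
      Nonempty (PresentedGroup (↑rels : Set (FreeGroup (Fin 3))) ≃*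
        Matrix.ProjectiveSpecialLinearGroup (Fin 2) F)) ∧
    (CharP F 2 → ∃ rels : Finset (FreeGroup (Fin 3)), rels.card ≤ 5 ∧
      Nonempty (PresentedGroup (↑rels : Set (FreeGroup (Fin 3))) ≃*
        Matrix.ProjectiveSpecialLinearGroup (Fin 2) F)) := by
  obtain ⟨p, hchar⟩ := CharP.exists F
  haveI := hchar
  haveI : Fact p.Prime := ⟨CharP.char_is_prime F p⟩
  by_cases h2 : p = 2
  · subst h2
    letI : Algebra (ZMod 2) F := ZMod.algebra F 2
    obtain ⟨rels, hcard, hS, hP⟩ := even_all (F := F)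
    exact ⟨⟨rels, by omega, hS⟩, ⟨rels, by omega, hP⟩, fun _ => ⟨rels, hcard, hP⟩⟩
  · letI : Algebra (ZMod p) F := ZMod.algebra F p
    have hp : Odd p := (Nat.Prime.eq_two_or_odd' (Fact.out : p.Prime)).resolve_left h2
    refine ⟨odd_SL hp, odd_PSL hp, fun h => ?_⟩
    exact absurd (CharP.eq F hchar h) h2

end Cfsg.Agent.Helper96.SLPres
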