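import Mathlib
import Cfsg.Agent.Helper83.Special
import Cfsg.Agent.Helper96.StPresF

/-!
# Special rank one groups: a partner pair of order `p` satisfies the Steinberg relations of
`SL₂(p)`
-/

set_option autoImplicit false

namespace Cfsg.Agent.Helper96.SpecialSL

open Cfsg.Agent.Helper83 Cfsg.Agent.Helper96.StPres

theorem pow_eq_of_cast {G : Type*} [Group G] {p : ℕ} {x : G} (hx : x ^ p = 1) {m n : ℕ}
    (h : (m : ZMod p) = n) : x ^ m = x ^ n := by
  rw [pow_eq_pow_mod m hx, pow_eq_pow_mod n hx, (ZMod.natCast_eq_natCast_iff' m n p).mp h]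

variable {G : Type*} [Group G] {A B : Subgroup G} {p : ℕ} [Fact p.Prime] {a b : G}

theorem qs_of_prime (ha1 : a ≠ 1) (ha : a ^ p = 1) : QS (p - 1) a := by
  intro e _ hpe hae
  have ho : orderOf a = p := orderOf_eq_prime ha ha1
  have h1 : p ∣ e := ho ▸ orderOf_dvd_of_pow_eq_one hae
  have h2 := hpe p (Fact.out) h1
  have h3 : 2 ≤ p := (Fact.out : p.Prime).two_le
  omega

theorem partner_pow (h : Cfsg.IsRankOnePair A B) (hs : SpecialCond A B) (hp : Partner A B a b)
    (ha : a ^ p = 1) {t : ZMod p} (ht : t ≠ 0) :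
    Partner A B (a ^ t.val) (b ^ (t⁻¹).val) := by
  have hb : b ^ p = 1 := (hs.pow_eq_one_iff hp p).mp ha
  have hbk : b ^ (t⁻¹).val ≠ 1 := by
    intro h1
    apply hp.2.2.2.1
    have e1 : b ^ ((t⁻¹).val * t.val) = b ^ 1 := by
      apply pow_eq_of_cast hb
      push_cast
      rw [ZMod.natCast_zmod_val, ZMod.natCast_zmod_val, inv_mul_cancel₀ ht]
    rw [pow_one, pow_mul, h1, one_pow] at e1
    exact e1.symm
  obtain ⟨z, hz⟩ := exists_partner_right h (B.pow_mem hp.2.2.1 (t⁻¹).val) hbk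
  have hk1 : 1 ≤ (t⁻¹).val := by
    rw [Nat.one_le_iff_ne_zero, Ne, ZMod.val_eq_zero]
    exact inv_ne_zero ht
  have hk2 : (t⁻¹).val ≤ p - 1 := by
    have := ZMod.val_lt t⁻¹
    omega
  have hzk : z ^ (t⁻¹).val = a :=
    special_root (p - 1) A B h hs a b z (t⁻¹).val hp (qs_of_prime hp.2.1 ha) hk1 hk2 hz
  have hzp : z ^ p = 1 := by
    rw [hs.pow_eq_one_iff hz p, ← pow_mul, mul_comm, pow_mul, hb, one_pow]
  have e2 : a ^ t.val = z := by
    rw [← hzk, ← pow_mul]
    have e1 : z ^ ((t⁻¹).val * t.val) = z ^ 1 := by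
      apply pow_eq_of_cast hzp
      push_cast
      rw [ZMod.natCast_zmod_val, ZMod.natCast_zmod_val, inv_mul_cancel₀ ht]
    rw [e1, pow_one]
  rw [e2]
  exact hz

theorem conj_partner (h : Cfsg.IsRankOnePair A B) (hs : SpecialCond A B) (hp : Partner A B a b)
    (ha : a ^ p = 1) (t u : ZMod p) (ht : t ≠ 0) :
    (a ^ t.val * b ^ (-t⁻¹).val * a ^ t.val) * a ^ u.val *
      (a ^ t.val * b ^ (-t⁻¹).val * a ^ t.val)⁻¹ = b ^ (-(t⁻¹ ^ 2 * u)).val := by
  have hb : b ^ p = 1 := (hs.pow_eq_one_iff hp p).mp ha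
  have hP := partner_pow h hs hp ha ht
  have e1 : b ^ (-t⁻¹).val = (b ^ (t⁻¹).val)⁻¹ := by
    apply eq_inv_of_mul_eq_one_left
    rw [← pow_add]
    have e0 : b ^ ((-t⁻¹).val + (t⁻¹).val) = b ^ 0 := by
      apply pow_eq_of_cast hb
      push_cast
      rw [ZMod.natCast_zmod_val, ZMod.natCast_zmod_val, neg_add_cancel]
    rw [e0, pow_zero]
  rw [e1]
  have hn := hs.n_conj_a hP
  have e2 : a ^ u.val = (a ^ t.val) ^ ((t⁻¹).val * u.val) := by
    rw [← pow_mul]
    apply pow_eq_of_cast ha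
    push_cast
    rw [ZMod.natCast_zmod_val, ZMod.natCast_zmod_val, ZMod.natCast_zmod_val,
      mul_inv_cancel_left₀ ht]
  rw [e2, ← conj_pow, hn, inv_pow, ← pow_mul]
  symm
  apply eq_inv_of_mul_eq_one_left
  rw [← pow_add]
  have e0 : b ^ ((-(t⁻¹ ^ 2 * u)).val + (t⁻¹).val * ((t⁻¹).val * u.val)) = b ^ 0 := by
    apply pow_eq_of_cast hb
    push_cast
    rw [ZMod.natCast_zmod_val, ZMod.natCast_zmod_val, ZMod.natCast_zmod_val]
    ring
  rw [e0, pow_zero]

theorem rel_of_partner (h : Cfsg.IsRankOnePair A B)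
    (hs : SpecialCond A B) (hp : Partner A B a b)
    (ha : a ^ p = 1) :
    Rel (fun (c : Bool) (t : ZMod p) => if c then a ^ t.val else b ^ t.val) := by
  have hb : b ^ p = 1 := (hs.pow_eq_one_iff hp p).mp ha
  constructor
  · intro c t u
    cases c
    · simp only [Bool.false_eq_true, if_false]
      rw [← pow_add]
      apply pow_eq_of_cast hb
      push_cast
      rw [ZMod.natCast_zmod_val, ZMod.natCast_zmod_val, ZMod.natCast_zmod_val]
    · simp only [if_true]
      rw [← pow_add]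
      apply pow_eq_of_cast ha
      push_cast
      rw [ZMod.natCast_zmod_val, ZMod.natCast_zmod_val, ZMod.natCast_zmod_val]
  · intro c t u ht
    cases c
    · simp only [Wd, Bool.not_false, Bool.false_eq_true, if_false, if_true]
      exact conj_partner (Cfsg.RankOnePair_symm h) hs.swap hp.swap hb t u ht
    · simp only [Wd, Bool.not_true, Bool.false_eq_true, if_false, if_true]
      exact conj_partner h hs hp ha t u ht

end Cfsg.Agent.Helper96.SpecialSL
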