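import Mathlib
import Cfsg.Agent.Helper96.SpecialRel
import Cfsg.Agent.Helper66.SL2Normal
import Cfsg.Agent.Helper96.SLPresMat

/-!
# Special rank one groups: the subgroup generated by a partner pair of order `p` is `(P)SL₂(p)`
-/

set_option autoImplicit false

namespace Cfsg.Agent.Helper96.SpecialSL

open Matrix Subgroup Cfsg.Agent.Helper83 Cfsg.Agent.Helper96.StPres Cfsg.Agent.Helper66.SL2Normal
  Cfsg.Agent.Helper96.StemSLTwo Cfsg.Agent.Helper96.SLPres
open scoped commutatorElement

universe u v

section relHom

variable {K : Type u} [Field K] {D : Type v} [Group D] {X : Bool → K → D}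

theorem stRels_lift (hX : Rel X) :
    ∀ r ∈ stRels K, FreeGroup.lift (fun q : Bool × K => X q.1 q.2) r = 1 := by
  rintro r (⟨b, t, u, rfl⟩ | ⟨b, t, u, ht, rfl⟩)
  · simp only [map_mul, map_inv, FreeGroup.lift_apply_of]
    rw [mul_inv_eq_one]
    exact (hX.add b t u).symm
  · simp only [map_mul, map_inv, FreeGroup.lift_apply_of]
    rw [mul_inv_eq_one]
    exact hX.conj b t u ht

/-- the homomorphism from `SL₂` defined by a family satisfying the Steinberg relations -/
noncomputable def relHom [Fintype K] (hX : Rel X) : SpecialLinearGroup (Fin 2) K →* D :=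
  (PresentedGroup.toGroup (stRels_lift hX)).comp (stEquiv K).symm.toMonoidHom

theorem relHom_u [Fintype K] (hX : Rel X) (t : K) : relHom hX (uMat K t) = X true t := by
  have h1 : (stEquiv K).symm (uMat K t) = PresentedGroup.of (true, t) := by
    rw [MulEquiv.symm_apply_eq]
    exact (stEquiv_x K t).symm
  change PresentedGroup.toGroup (stRels_lift hX) ((stEquiv K).symm (uMat K t)) = _
  rw [h1]
  exact PresentedGroup.toGroup.of _

theorem relHom_l [Fintype K] (hX : Rel X) (t : K) : relHom hX (lMat K t) = X false t := by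
  have h1 : (stEquiv K).symm (lMat K t) = PresentedGroup.of (false, t) := by
    rw [MulEquiv.symm_apply_eq]
    exact (stEquiv_y K t).symm
  change PresentedGroup.toGroup (stRels_lift hX) ((stEquiv K).symm (lMat K t)) = _
  rw [h1]
  exact PresentedGroup.toGroup.of _

theorem range_relHom [Fintype K] (hX : Rel X) :
    (relHom hX).range = closure (Set.range fun q : Bool × K => X q.1 q.2) := by
  rw [MonoidHom.range_eq_map, ← closure_uMat_lMat, MonoidHom.map_closure]
  congr 1
  ext g
  constructor
  · rintro ⟨_, ⟨⟨b, t⟩, rfl⟩, rfl⟩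
    refine ⟨(b, t), ?_⟩
    cases b
    · simp [relHom_l]
    · simp [relHom_u]
  · rintro ⟨⟨b, t⟩, rfl⟩
    refine ⟨_, ⟨(b, t), rfl⟩, ?_⟩
    cases b
    · simp [relHom_l]
    · simp [relHom_u]

end relHom

section main

variable {G : Type u} [Group G] {A B : Subgroup G}

theorem not_commute_of_partner (h : Cfsg.IsRankOnePair A B) (hs : SpecialCond A B) {a b : G}
    (hp : Partner A B a b) : ¬ Commute a b := by
  intro hc
  have h1 := hs a b hp
  have e1 : b⁻¹ * a * b = a := by
    rw [mul_assoc, hc.eq, ← mul_assoc, inv_mul_cancel, one_mul]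
  have e2 : a⁻¹ * b⁻¹ * a = b⁻¹ := by
    rw [mul_assoc, (hc.inv_right).symm.eq, ← mul_assoc, inv_mul_cancel, one_mul]
  rw [e1, e2] at h1
  -- a = b⁻¹
  have h2 := hp.2.2.2.2
  have haB : a⁻¹ ∈ B := by
    rw [h1, inv_inv]
    exact hp.2.2.1
  have hbA : b⁻¹ ∈ A := by
    rw [← h1]
    exact hp.1
  rw [conjBy_of_mem hbA, conjBy_of_mem haB] at h2
  exact h.ne h2

/-- the subgroup generated by a partner pair of order `p` -/
theorem closure_partner_iso (h : Cfsg.IsRankOnePair A B) (hs : SpecialCond A B) {p : ℕ}
    [Fact p.Prime] {a b : G} (hp : Partner A B a b) (ha : a ^ p = 1) :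
    Nonempty (↥(closure ({a, b} : Set G)) ≃* SpecialLinearGroup (Fin 2) (ZMod p)) ∨
    Nonempty (↥(closure ({a, b} : Set G)) ≃* ProjectiveSpecialLinearGroup (Fin 2) (ZMod p)) := by
  have hX := rel_of_partner h hs hp ha
  set X : Bool → ZMod p → G := fun c t => if c then a ^ t.val else b ^ t.val with hXdef
  set φ := relHom hX with hφ
  have hb : b ^ p = 1 := (hs.pow_eq_one_iff hp p).mp ha
  have hone : ((1 : ZMod p)).val = 1 := by
    have : Fact (1 < p) := ⟨(Fact.out : p.Prime).one_lt⟩
    exact ZMod.val_one p
  have hφa : φ (uMat (ZMod p) 1) = a := by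
    rw [hφ, relHom_u]
    simp [hXdef, hone]
  have hφb : φ (lMat (ZMod p) 1) = b := by
    rw [hφ, relHom_l]
    simp [hXdef, hone]
  have hrange : φ.range = closure ({a, b} : Set G) := by
    rw [hφ, range_relHom]
    apply le_antisymm
    · rw [Subgroup.closure_le]
      rintro _ ⟨⟨c, t⟩, rfl⟩
      cases c
      · simp only [hXdef, Bool.false_eq_true, if_false]
        exact Subgroup.pow_mem _ (Subgroup.subset_closure (by simp)) _
      · simp only [hXdef, if_true]
        exact Subgroup.pow_mem _ (Subgroup.subset_closure (by simp)) _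
    · rw [Subgroup.closure_le]
      rintro g (rfl | hg)
      · apply Subgroup.subset_closure
        exact ⟨(true, 1), by simp [hXdef, hone]⟩
      · rw [Set.mem_singleton_iff] at hg
        subst hg
        apply Subgroup.subset_closure
        exact ⟨(false, 1), by simp [hXdef, hone]⟩
  -- the kernel is central
  have hN : ¬ commutator (SpecialLinearGroup (Fin 2) (ZMod p)) ≤ φ.ker := by
    intro hle
    apply not_commute_of_partner h hs hp
    have hmem : ⁅uMat (ZMod p) 1, lMat (ZMod p) 1⁆ ∈ φ.ker := by
      apply hle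
      rw [_root_.commutator_def]
      exact Subgroup.commutator_mem_commutator (Subgroup.mem_top _) (Subgroup.mem_top _)
    rw [MonoidHom.mem_ker, map_commutatorElement, hφa, hφb, commutatorElement_eq_one_iff_commute]
      at hmem
    exact hmem
  have hcen := normal_le_center_SL2 p φ.ker hN
  have e0 : ↥(closure ({a, b} : Set G)) ≃* φ.range := MulEquiv.subgroupCongr hrange.symm
  by_cases hbot : φ.ker = ⊥
  · left
    have hinj : Function.Injective φ := (MonoidHom.ker_eq_bot_iff φ).mp hbot
    exact ⟨e0.trans (MonoidHom.ofInjective hinj).symm⟩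
  · right
    have hker : φ.ker = center (SpecialLinearGroup (Fin 2) (ZMod p)) := by
      apply le_antisymm hcen
      obtain ⟨g, hg, hg1⟩ : ∃ g ∈ φ.ker, g ≠ 1 := by
        by_contra hcon
        push Not at hcon
        apply hbot
        rw [eq_bot_iff]
        intro g hg
        rw [Subgroup.mem_bot]
        exact hcon g hg
      have hgz : g = (WU (1 : ZMod p)) ^ 2 := (center_SL2 g (hcen hg)).resolve_left hg1
      intro z hz
      rcases center_SL2 z hz with rfl | rfl
      · exact one_mem _
      · rw [← hgz]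
        exact hg
    exact ⟨e0.trans ((QuotientGroup.quotientKerEquivRange φ).symm.trans
      (QuotientGroup.quotientMulEquivOfEq hker))⟩

end main

end Cfsg.Agent.Helper96.SpecialSL
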