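import Mathlib
import Cfsg.Prelude.Def_Classical

set_option autoImplicit false

namespace Cfsg.Agent.Helper96.OFourMinus

open Matrix Equiv

/-- index type -/
abbrev I4 := (Fin 1 ⊕ Fin 1) ⊕ Fin 2
/-- the field -/
abbrev K := ZMod 3
/-- the orthogonal space -/
abbrev V := I4 → K
/-- the permutation module -/
abbrev W := Fin 6 → K

/-- the quadratic form `x y + z₁² + z₂²` -/
abbrev Q : V → K := Cfsg.quadFormMinus 1 K 0 1

/-- a basis of (sum-zero vectors)/(all-ones) adapted to `Q` -/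
def Sb : I4 → W
  | Sum.inl (Sum.inl 0) => ![0,0,0,1,1,1]
  | Sum.inl (Sum.inr 0) => ![0,0,1,0,1,1]
  | Sum.inr 0 => ![0,1,2,2,0,1]
  | Sum.inr 1 => ![0,1,2,2,1,0]

/-- the dual vectors -/
def Db : I4 → W
  | Sum.inl (Sum.inl 0) => ![0,0,2,0,2,2]
  | Sum.inl (Sum.inr 0) => ![0,0,0,2,2,2]
  | Sum.inr 0 => ![0,1,2,2,0,1]
  | Sum.inr 1 => ![0,1,2,2,1,0]

/-- projection `W → V` -/
def P (y : W) : V := fun c => y ⬝ᵥ Db c

/-- lift `V → W` -/
def L (v : V) : W := fun k => ∑ c, v c * Sb c k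

theorem P_L : ∀ v : V, P (L v) = v := by decide +kernel

theorem sum_L : ∀ v : V, ∑ k, L v k = 0 := by decide +kernel

theorem L_P : ∀ y : W, ∑ k, y k = 0 → ∃ t : K, L (P y) = y + fun _ => t := by decide +kernel

theorem P_add_const : ∀ t : K, ∀ y : W, P (y + fun _ => t) = P y := by decide +kernel

theorem Q_P : ∀ y : W, ∑ k, y k = 0 → Q (P y) = ∑ k, y k ^ 2 := by
  decide +kernel

/-- the permutation action on `W` -/
def act (σ : Perm (Fin 6)) (y : W) : W := fun k => y (σ⁻¹ k)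

/-- the matrix of a permutation -/
def M (σ : Perm (Fin 6)) : Matrix I4 I4 K := fun r c => P (act σ (Sb c)) r

theorem M_threeCycle_ne_one : M (swap 0 1 * swap 1 2) ≠ 1 := by decide +kernel

theorem aniso : ∀ z₁ z₂ : K, z₁ ^ 2 + 0 * z₁ * z₂ + 1 * z₂ ^ 2 = 0 → z₁ = 0 ∧ z₂ = 0 := by decide

end Cfsg.Agent.Helper96.OFourMinus
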