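import Mathlib
import Cfsg.Agent.Lib.BurnsidePQ

set_option autoImplicit false

namespace Cfsg.Agent.Helper96

open scoped commutatorElement

section PerfectIndex

variable {G : Type*} [Group G]

/-- a perfect subgroup lies in every term of the derived series -/
theorem le_derivedSeries_of_perfect (N : Subgroup G) (hperf : N ≤ ⁅N, N⁆) (n : ℕ) :
    N ≤ derivedSeries G n := by
  induction n with
  | zero => exact le_top
  | succ n ih =>
    rw [derivedSeries_succ]
    exact hperf.trans (Subgroup.commutator_mono ih ih)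

/-- the symmetric group on at most 4 letters (here: 2 or 4) is solvable -/
theorem isSolvable_perm_of_card {α : Type*} [Finite α] (h : Nat.card α = 2 ∨ Nat.card α = 4) :
    Group.IsSolvable (Equiv.Perm α) := by
  have hcard : Nat.card (Equiv.Perm α) = (Nat.card α).factorial := Nat.card_perm
  rcases h with h | h
  · exact Cfsg.Agent.Lib.burnside_pq 2 3 1 0 Nat.prime_two Nat.prime_three (by rw [hcard, h]; rfl)
  · exact Cfsg.Agent.Lib.burnside_pq 2 3 3 1 Nat.prime_two Nat.prime_three (by rw [hcard, h]; rfl)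

/-- a perfect subgroup of index 2 or 4 is normal -/
theorem normal_of_perfect_of_index (N : Subgroup G) (hperf : N ≤ ⁅N, N⁆)
    (hidx : N.index = 2 ∨ N.index = 4) : N.Normal := by
  have hfi : N.FiniteIndex := ⟨by rcases hidx with h | h <;> rw [h] <;> norm_num⟩
  have hfin : Finite (G ⧸ N) := Subgroup.finite_quotient_of_finiteIndex
  have hsol : Group.IsSolvable (Equiv.Perm (G ⧸ N)) := isSolvable_perm_of_card hidx
  obtain ⟨n, hn⟩ := hsol.solvable
  have h1 : (derivedSeries G n).map (MulAction.toPermHom G (G ⧸ N)) ≤ ⊥ := by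
    rw [← hn]
    exact map_derivedSeries_le_derivedSeries _ n
  rw [le_bot_iff, Subgroup.map_eq_bot_iff, ← Subgroup.normalCore_eq_ker] at h1
  have h2 : N ≤ N.normalCore := (le_derivedSeries_of_perfect N hperf n).trans h1
  have h3 : N = N.normalCore := le_antisymm h2 (Subgroup.normalCore_le N)
  rw [h3]
  exact Subgroup.normalCore_normal N

/-- a perfect subgroup of index 2 or 4 contains the commutator subgroup -/
theorem commutator_le_of_perfect_of_index (N : Subgroup G) (hperf : N ≤ ⁅N, N⁆)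
    (hidx : N.index = 2 ∨ N.index = 4) : commutator G ≤ N := by
  have hN : N.Normal := normal_of_perfect_of_index N hperf hidx
  have hcomm : ∀ a b : G ⧸ N, a * b = b * a := by
    rcases hidx with h | h
    · have hc : Nat.card (G ⧸ N) = 2 := h
      have hp : Fact (Nat.Prime 2) := ⟨Nat.prime_two⟩
      have hcyc : IsCyclic (G ⧸ N) := isCyclic_of_prime_card hc
      intro a b
      exact (IsCyclic.commGroup (α := G ⧸ N)).mul_comm a b
    · have hc : Nat.card (G ⧸ N) = 2 ^ 2 := h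
      have hp : Fact (Nat.Prime 2) := ⟨Nat.prime_two⟩
      exact (IsPGroup.isMulCommutative_of_card_eq_prime_sq hc).is_comm.comm
  rw [commutator_def, Subgroup.commutator_le]
  intro g _ h _
  rw [← QuotientGroup.eq_one_iff]
  change (QuotientGroup.mk' N) ⁅g, h⁆ = 1
  rw [map_commutatorElement, commutatorElement_eq_one_iff_mul_comm]
  exact hcomm _ _

theorem commutatorElement_mul_of_central (g h₁ h₂ : G) (hc : ∀ x : G, x * ⁅g, h₂⁆ = ⁅g, h₂⁆ * x) :
    ⁅g, h₁ * h₂⁆ = ⁅g, h₁⁆ * ⁅g, h₂⁆ := by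
  have h1 : ⁅g, h₁ * h₂⁆ = g * h₁ * g⁻¹ * (⁅g, h₂⁆ * h₁⁻¹) := by
    simp only [commutatorElement_def, _root_.mul_inv_rev, mul_assoc, inv_mul_cancel_left]
  rw [h1, ← hc h₁⁻¹]
  simp only [commutatorElement_def, mul_assoc]

/-- **Grün-type lemma**: if `G` is perfect, `f : G →* H` has central kernel, and `f g` commutes
with the image of `f`, then `g` is central. -/
theorem mem_center_of_map_commute {H : Type*} [Group H] (f : G →* H)
    (hperf : commutator G = ⊤) (hker : f.ker ≤ Subgroup.center G) {g : G}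
    (hg : ∀ h : G, f g * f h = f h * f g) : g ∈ Subgroup.center G := by
  have hc : ∀ h : G, ⁅g, h⁆ ∈ Subgroup.center G := by
    intro h
    apply hker
    rw [MonoidHom.mem_ker, map_commutatorElement, commutatorElement_eq_one_iff_mul_comm]
    exact hg h
  have hcx : ∀ h x : G, x * ⁅g, h⁆ = ⁅g, h⁆ * x := fun h x => Subgroup.mem_center_iff.mp (hc h) x
  have hmul : ∀ a b : G, ⁅g, a * b⁆ = ⁅g, a⁆ * ⁅g, b⁆ := fun a b =>
    commutatorElement_mul_of_central g a b (hcx b)
  have hone : ⁅g, (1 : G)⁆ = 1 := commutatorElement_one_right g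
  have hcomm : ∀ a b : G, ⁅g, ⁅a, b⁆⁆ = 1 := by
    intro a b
    calc ⁅g, ⁅a, b⁆⁆ = ⁅g, a * b * a⁻¹ * b⁻¹⁆ := by rw [commutatorElement_def a b]
      _ = ⁅g, a⁆ * ⁅g, b⁆ * ⁅g, a⁻¹⁆ * ⁅g, b⁻¹⁆ := by rw [hmul, hmul, hmul]
      _ = ⁅g, a⁆ * (⁅g, b⁆ * ⁅g, a⁻¹⁆) * ⁅g, b⁻¹⁆ := by simp only [mul_assoc]
      _ = ⁅g, a⁆ * (⁅g, a⁻¹⁆ * ⁅g, b⁆) * ⁅g, b⁻¹⁆ := by rw [hcx a⁻¹ ⁅g, b⁆]
      _ = (⁅g, a⁆ * ⁅g, a⁻¹⁆) * (⁅g, b⁆ * ⁅g, b⁻¹⁆) := by simp only [mul_assoc]
      _ = 1 := by rw [← hmul, ← hmul, mul_inv_cancel, mul_inv_cancel, hone, mul_one]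
  have hall : ∀ x ∈ commutator G, ⁅g, x⁆ = 1 := by
    intro x hx
    rw [commutator_eq_closure] at hx
    induction hx using Subgroup.closure_induction with
    | mem y hy =>
      obtain ⟨a, b, rfl⟩ := hy
      exact hcomm a b
    | one => exact hone
    | mul y z _ _ hy hz => rw [hmul, hy, hz, mul_one]
    | inv y _ hy =>
      have h1 : ⁅g, y * y⁻¹⁆ = 1 := by rw [mul_inv_cancel, hone]
      rw [hmul, hy, one_mul] at h1
      exact h1
  rw [Subgroup.mem_center_iff]
  intro h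
  have h3 : ⁅g, h⁆ = 1 := hall h (by rw [hperf]; exact Subgroup.mem_top h)
  rw [commutatorElement_eq_one_iff_mul_comm] at h3
  exact h3.symm

end PerfectIndex

end Cfsg.Agent.Helper96
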