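import Mathlib
import Cfsg.Agent.Helper96.PerfectIndex

set_option autoImplicit false

namespace Cfsg.Agent.Helper96

open scoped commutatorElement

section OmegaIso

variable {G O : Type*} [Group G] [Group O]

/-- the image of a perfect group under a hom with image of index 2 or 4 is the commutator
subgroup of the target -/
theorem range_eq_commutator_of_perfect (κ : G →* O) (hperf : commutator G = ⊤)
    (hidx : κ.range.index = 2 ∨ κ.range.index = 4) : κ.range = commutator O := by
  have h1 : ⁅κ.range, κ.range⁆ = κ.range := by
    rw [MonoidHom.range_eq_map, ← Subgroup.map_commutator, ← commutator_def, hperf]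
  apply le_antisymm
  · rw [← h1, commutator_def]
    exact Subgroup.commutator_mono le_top le_top
  · exact commutator_le_of_perfect_of_index _ (le_of_eq h1.symm) hidx

/-- **Recognition of `PΩ`**: if `G` is perfect and `κ : G →* O` has central kernel and image of
index 2 or 4, then `O'/Z(O') ≅ G/Z(G)`. -/
theorem nonempty_mulEquiv_of_perfect_of_index (κ : G →* O) (hperf : commutator G = ⊤)
    (hker : κ.ker ≤ Subgroup.center G) (hidx : κ.range.index = 2 ∨ κ.range.index = 4) :
    Nonempty ((commutator O) ⧸ Subgroup.center (commutator O) ≃* G ⧸ Subgroup.center G) := by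
  have hrange := range_eq_commutator_of_perfect κ hperf hidx
  let κ' : G →* commutator O := κ.codRestrict (commutator O) (fun g => by
    rw [← hrange]
    exact ⟨g, rfl⟩)
  have hsurj : Function.Surjective κ' := by
    rintro ⟨x, hx⟩
    rw [← hrange] at hx
    obtain ⟨g, rfl⟩ := hx
    exact ⟨g, rfl⟩
  have hker' : κ'.ker = κ.ker := by
    ext g
    rw [MonoidHom.mem_ker, MonoidHom.mem_ker]
    constructor
    · intro h
      exact congrArg Subtype.val h
    · intro h
      exact Subtype.ext h
  let Φ : G →* (commutator O) ⧸ Subgroup.center (commutator O) :=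
    (QuotientGroup.mk' (Subgroup.center (commutator O))).comp κ'
  have hΦsurj : Function.Surjective Φ := (QuotientGroup.mk'_surjective _).comp hsurj
  have hΦker : Φ.ker = Subgroup.center G := by
    ext g
    rw [MonoidHom.mem_ker]
    change (QuotientGroup.mk' _) (κ' g) = 1 ↔ _
    rw [QuotientGroup.mk'_apply, QuotientGroup.eq_one_iff]
    constructor
    · intro hg
      apply mem_center_of_map_commute κ' hperf
      · rw [hker']
        exact hker
      · intro h
        exact (Subgroup.mem_center_iff.mp hg (κ' h)).symm
    · intro hg
      rw [Subgroup.mem_center_iff]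
      intro y
      obtain ⟨h, rfl⟩ := hsurj y
      rw [← map_mul, ← map_mul, Subgroup.mem_center_iff.mp hg h]
  exact ⟨(QuotientGroup.quotientKerEquivOfSurjective Φ hΦsurj).symm.trans
    (QuotientGroup.quotientMulEquivOfEq hΦker)⟩

/-- index of the range from the orders: `|O| = 2 |G|` and `|ker| ∈ {1, 2}` -/
theorem index_range_of_card [Finite G] [Finite O] (κ : G →* O)
    (hcard : Nat.card O = 2 * Nat.card G)
    (hker : Nat.card κ.ker = 1 ∨ Nat.card κ.ker = 2) :
    κ.range.index = 2 ∨ κ.range.index = 4 := by
  have h1 := κ.range.index_mul_card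
  have h2 := κ.ker.index_mul_card
  rw [Subgroup.index_ker] at h2
  rw [hcard, ← h2] at h1
  have hpos : 0 < Nat.card κ.range := Nat.card_pos
  have h3 : κ.range.index = 2 * Nat.card κ.ker := by
    apply Nat.eq_of_mul_eq_mul_right hpos
    rw [h1]
    ring
  rcases hker with h | h <;> rw [h] at h3
  · left; exact h3
  · right; exact h3

end OmegaIso

end Cfsg.Agent.Helper96
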