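import Mathlib
import Cfsg.Prelude.Def_Classical
import Cfsg.Agent.Helper96.OFourMinusData
import Cfsg.Agent.Helper96.OmegaIso
import Cfsg.Agent.S0288

set_option autoImplicit false

namespace Cfsg.Agent.Helper96.OFourMinus

open Matrix Equiv

theorem act_one (y : W) : act 1 y = y := rfl

theorem act_mul (σ τ : Perm (Fin 6)) (y : W) : act (σ * τ) y = act σ (act τ y) := by
  funext k
  simp [act, _root_.mul_inv_rev, Perm.mul_apply]

theorem act_add_const (σ : Perm (Fin 6)) (y : W) (t : K) :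
    act σ (y + fun _ => t) = act σ y + fun _ => t := rfl

theorem sum_act (σ : Perm (Fin 6)) (y : W) : ∑ k, act σ y k = ∑ k, y k :=
  Equiv.sum_comp σ⁻¹ y

theorem sum_sq_act (σ : Perm (Fin 6)) (y : W) : ∑ k, act σ y k ^ 2 = ∑ k, y k ^ 2 :=
  Equiv.sum_comp σ⁻¹ (fun k => y k ^ 2)

theorem M_mulVec (σ : Perm (Fin 6)) (v : V) : M σ *ᵥ v = P (act σ (L v)) := by
  funext r
  simp only [M, P, L, act, mulVec, dotProduct]
  simp only [Finset.sum_mul]
  rw [Finset.sum_comm]
  apply Finset.sum_congr rfl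
  intro c _
  apply Finset.sum_congr rfl
  intro k _
  ring

/-- key: `P ∘ act σ ∘ L ∘ P = P ∘ act σ` on sum-zero vectors -/
theorem P_act_L_P (σ : Perm (Fin 6)) (y : W) (hy : ∑ k, y k = 0) :
    P (act σ (L (P y))) = P (act σ y) := by
  obtain ⟨t, h⟩ := L_P y hy
  rw [h, act_add_const, P_add_const]

theorem M_one : M 1 = 1 := by
  ext r c
  have h := congrFun (M_mulVec 1 (Pi.single c 1)) r
  rw [mulVec_single_one, act_one, P_L] at h
  simp only [Matrix.col_apply] at h
  rw [h, Matrix.one_apply, Pi.single_apply]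

theorem M_mul (σ τ : Perm (Fin 6)) : M (σ * τ) = M σ * M τ := by
  ext r c
  have h1 := congrFun (M_mulVec (σ * τ) (Pi.single c 1)) r
  have h2 : (M σ * M τ) *ᵥ (Pi.single c 1) = P (act (σ * τ) (L (Pi.single c 1))) := by
    rw [← mulVec_mulVec, M_mulVec τ, M_mulVec σ, P_act_L_P, act_mul]
    rw [sum_act]
    exact sum_L _
  rw [mulVec_single_one] at h1 h2
  have h2' := congrFun h2 r
  simp only [Matrix.col_apply] at h1 h2'
  rw [h1, h2']

theorem Q_M_mulVec (σ : Perm (Fin 6)) (v : V) : Q (M σ *ᵥ v) = Q v := by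
  rw [M_mulVec, Q_P _ (by rw [sum_act]; exact sum_L v), sum_sq_act, ← Q_P _ (sum_L v), P_L]

/-- the group `O⁻₄(3)` -/
abbrev O := Cfsg.isometryGroup K Q

theorem mem_O (g : GL I4 K) : g ∈ O ↔ ∀ u : V, Q ((g : Matrix I4 I4 K) *ᵥ u) = Q u :=
  ⟨fun h u => h u u, fun h u _ => h u⟩

/-- `M` as a monoid hom into matrices -/
def Ψm : Perm (Fin 6) →* Matrix I4 I4 K where
  toFun := M
  map_one' := M_one
  map_mul' := M_mul

/-- `M` as a hom into `O⁻₄(3)` -/
noncomputable def Ψ : Perm (Fin 6) →* O :=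
  (Ψm.toHomUnits).codRestrict O (fun σ => (mem_O _).mpr (fun u => Q_M_mulVec σ u))

theorem Ψ_coe (σ : Perm (Fin 6)) : (((Ψ σ : O) : GL I4 K) : Matrix I4 I4 K) = M σ := rfl

theorem Ψ_injective : Function.Injective Ψ := by
  rw [← MonoidHom.ker_eq_bot_iff]
  by_contra hne
  have hnt : Nontrivial Ψ.ker := (Subgroup.nontrivial_iff_ne_bot _).mpr hne
  have hle : alternatingGroup (Fin 6) ≤ Ψ.ker :=
    Equiv.Perm.alternatingGroup_le_of_normal (by simp) hnt
  have h3 : (swap (0 : Fin 6) 1 * swap 1 2) ∈ alternatingGroup (Fin 6) := by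
    rw [Equiv.Perm.mem_alternatingGroup]
    decide
  have h1 : Ψ (swap (0 : Fin 6) 1 * swap 1 2) = 1 := hle h3
  apply M_threeCycle_ne_one
  rw [← Ψ_coe, h1]
  rfl

/-- the embedding `A₆ → O⁻₄(3)` -/
noncomputable def κ : alternatingGroup (Fin 6) →* O := Ψ.comp (alternatingGroup (Fin 6)).subtype

theorem κ_injective : Function.Injective κ :=
  Ψ_injective.comp Subtype.val_injective

theorem card_O : Nat.card O = 1440 := by
  have h := Cfsg.Agent.S0288.result (F := K) (q := 3) (by simp) 2 (by norm_num) 0 1 aniso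
  have h' : Nat.card O = _ := h
  rw [h']
  simp

theorem card_alt : Nat.card (alternatingGroup (Fin 6)) = 360 := by
  rw [nat_card_alternatingGroup, Nat.card_eq_fintype_card, Fintype.card_fin]
  norm_num [Nat.factorial_succ]

theorem index_range : κ.range.index = 2 ∨ κ.range.index = 4 := by
  right
  have hfo : Finite O := Nat.finite_of_card_ne_zero (by rw [card_O]; norm_num)
  have h1 := κ.range.index_mul_card
  have h2 : Nat.card κ.range = 360 := by
    rw [← card_alt]
    exact (Nat.card_congr (MonoidHom.ofInjective κ_injective).toEquiv).symm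
  rw [h2, card_O] at h1
  have h3 : κ.range.index * 360 = 4 * 360 := by rw [h1]
  exact Nat.eq_of_mul_eq_mul_right (by norm_num) h3

/-- `PΩ⁻₄(3) ≅ A₆` -/
theorem nonempty_mulEquiv :
    Nonempty (Cfsg.POmega K Q ≃* alternatingGroup (Fin 6)) := by
  have hperf : commutator (alternatingGroup (Fin 6)) = ⊤ :=
    commutator_alternatingGroup_eq_top (by simp)
  have hker : κ.ker ≤ Subgroup.center (alternatingGroup (Fin 6)) := by
    rw [(MonoidHom.ker_eq_bot_iff κ).mpr κ_injective]
    exact bot_le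
  obtain ⟨e⟩ := Cfsg.Agent.Helper96.nonempty_mulEquiv_of_perfect_of_index κ hperf hker index_range
  have hc : Subgroup.center (alternatingGroup (Fin 6)) = ⊥ :=
    alternatingGroup.center_eq_bot (by simp)
  exact ⟨e.trans ((QuotientGroup.quotientMulEquivOfEq hc).trans QuotientGroup.quotientBot)⟩

end Cfsg.Agent.Helper96.OFourMinus
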