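import Mathlib
import Cfsg.Prelude.Def_KGroupFacts

/-!
# A centrally closed perfect central cover computes the Schur multiplier

If `π : Δ →* G` is surjective with central kernel, `Δ` is finite and perfect, and every central
extension of `Δ` splits, then the Schur multiplier of `G` is `π.ker`.
-/

set_option autoImplicit false

namespace Cfsg.Agent.Helper96.UceCover

universe u v

open scoped commutatorElement

/-- commutators only depend on the cosets of a central subgroup -/
theorem commutatorElement_eq_of_central {Γ : Type*} [Group Γ] (a b p q : Γ)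
    (ha : p⁻¹ * a ∈ Subgroup.center Γ) (hb : q⁻¹ * b ∈ Subgroup.center Γ) :
    ⁅a, b⁆ = ⁅p, q⁆ := by
  rw [Subgroup.mem_center_iff] at ha hb
  set za := p⁻¹ * a with hza
  set zb := q⁻¹ * b with hzb
  have ea : a = p * za := by rw [hza]; group
  have eb : b = q * zb := by rw [hzb]; group
  rw [ea, eb, commutatorElement_def, commutatorElement_def]
  calc p * za * (q * zb) * (p * za)⁻¹ * (q * zb)⁻¹
      = p * (za * q) * (zb * za⁻¹) * p⁻¹ * zb⁻¹ * q⁻¹ := by group
    _ = p * (q * za) * (za⁻¹ * zb) * p⁻¹ * zb⁻¹ * q⁻¹ := by rw [ha q, hb za⁻¹]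
    _ = p * q * (zb * p⁻¹) * zb⁻¹ * q⁻¹ := by group
    _ = p * q * (p⁻¹ * zb) * zb⁻¹ * q⁻¹ := by rw [hb p⁻¹]
    _ = p * q * p⁻¹ * q⁻¹ := by group

/-- **The Schur multiplier from a centrally closed perfect cover.** -/
theorem hasSchurMultiplier_of_universal {G Δ : Type u} [Group G] [Group Δ] [Finite Δ]
    (π : Δ →* G) (hπ : Function.Surjective π) (hc : π.ker ≤ Subgroup.center Δ)
    (hperf : commutator Δ = ⊤) (A : Type v) [CommGroup A] (hA : Nonempty (π.ker ≃* A))
    (huniv : ∀ (E : Type u) [Group E] (p : E →* Δ), Function.Surjective p →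
      p.ker ≤ Subgroup.center E → ∃ s : Δ →* E, p.comp s = MonoidHom.id Δ) :
    Cfsg.HasSchurMultiplier G A := by
  obtain ⟨eA⟩ := hA
  refine ⟨⟨Δ, inferInstance, inferInstance, π, ⟨hπ, hc, ?_⟩, ⟨eA⟩⟩, ?_⟩
  · rw [hperf]; exact le_top
  · intro Γ _ _ σ hσ
    -- the pullback
    let P : Subgroup (Γ × Δ) :=
      (σ.comp (MonoidHom.fst Γ Δ)).eqLocus (π.comp (MonoidHom.snd Γ Δ))
    let p : P →* Δ := (MonoidHom.snd Γ Δ).comp P.subtype
    have hp : Function.Surjective p := by
      intro δ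
      obtain ⟨γ, hγ⟩ := hσ.1 (π δ)
      exact ⟨⟨(γ, δ), hγ⟩, rfl⟩
    have hpc : p.ker ≤ Subgroup.center P := by
      intro x hx
      have hx2 : x.1.2 = 1 := hx
      have hx1 : x.1.1 ∈ σ.ker := by
        have h2 : σ x.1.1 = π x.1.2 := x.2
        rw [MonoidHom.mem_ker, h2, hx2, map_one]
      have hcen := hσ.2.1 hx1
      rw [Subgroup.mem_center_iff] at hcen ⊢
      intro y
      apply Subtype.ext
      apply Prod.ext
      · exact hcen y.1.1
      · change y.1.2 * x.1.2 = x.1.2 * y.1.2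
        rw [hx2, mul_one, one_mul]
    obtain ⟨s, hs⟩ := huniv P p hp hpc
    let f : Δ →* Γ := ((MonoidHom.fst Γ Δ).comp P.subtype).comp s
    have hps : ∀ δ, (s δ).1.2 = δ := fun δ => by
      have := DFunLike.congr_fun hs δ
      exact this
    have hf : ∀ δ, σ (f δ) = π δ := by
      intro δ
      have h2 : σ (s δ).1.1 = π (s δ).1.2 := (s δ).2
      change σ (s δ).1.1 = π δ
      rw [h2, hps]
    -- `f` is surjective
    have hdec : ∀ γ : Γ, ∃ δ : Δ, (f δ)⁻¹ * γ ∈ σ.ker := by
      intro γ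
      obtain ⟨δ, hδ⟩ := hπ (σ γ)
      refine ⟨δ, ?_⟩
      rw [MonoidHom.mem_ker, map_mul, map_inv, hf, hδ, inv_mul_cancel]
    have hcomm : commutator Γ ≤ f.range := by
      rw [commutator_def, Subgroup.commutator_le]
      intro a _ b _
      obtain ⟨δa, ha⟩ := hdec a
      obtain ⟨δb, hb⟩ := hdec b
      rw [commutatorElement_eq_of_central a b (f δa) (f δb) (hσ.2.1 ha) (hσ.2.1 hb),
        ← map_commutatorElement]
      exact ⟨_, rfl⟩
    have hfs : Function.Surjective f := by
      intro γ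
      obtain ⟨δ, hδ⟩ := hdec γ
      obtain ⟨δ', hδ'⟩ := hcomm (hσ.2.2 hδ)
      refine ⟨δ * δ', ?_⟩
      rw [map_mul, hδ']
      group
    -- the induced map on kernels
    have hmem : ∀ x : π.ker, f x.1 ∈ σ.ker := fun x => by
      rw [MonoidHom.mem_ker, hf]
      exact x.2
    let φ : π.ker →* σ.ker :=
      { toFun := fun x => ⟨f x.1, hmem x⟩
        map_one' := Subtype.ext (by simp)
        map_mul' := fun x y => Subtype.ext (by simp) }
    have hφ : Function.Surjective φ := by
      intro ⟨z, hz⟩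
      obtain ⟨δ, rfl⟩ := hfs z
      have hδ : δ ∈ π.ker := by
        rw [MonoidHom.mem_ker, ← hf]
        exact hz
      exact ⟨⟨δ, hδ⟩, rfl⟩
    exact ⟨φ.comp eA.symm.toMonoidHom, hφ.comp eA.symm.surjective⟩

/-- cyclic version -/
theorem hasCyclicSchurMultiplier_of_universal {G Δ : Type u} [Group G] [Group Δ] [Finite Δ]
    (π : Δ →* G) (hπ : Function.Surjective π) (hc : π.ker ≤ Subgroup.center Δ)
    (hperf : commutator Δ = ⊤) (n : ℕ) [NeZero n] (hcyc : IsCyclic π.ker)
    (hcard : Nat.card π.ker = n)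
    (huniv : ∀ (E : Type u) [Group E] (p : E →* Δ), Function.Surjective p →
      p.ker ≤ Subgroup.center E → ∃ s : Δ →* E, p.comp s = MonoidHom.id Δ) :
    Cfsg.HasCyclicSchurMultiplier G n := by
  refine hasSchurMultiplier_of_universal π hπ hc hperf _ ?_ huniv
  have h1 : Nat.card (Multiplicative (ZMod n)) = n := by
    rw [Nat.card_eq_fintype_card, Fintype.card_multiplicative, ZMod.card]
  exact ⟨mulEquivOfCyclicCardEq (by rw [hcard, h1])⟩

end Cfsg.Agent.Helper96.UceCover
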