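import Mathlib
import Cfsg.Prelude.Def_ChevB2

/-!
Helper96: data for `B₂(2) ≅ S₆`. The adjoint module of the Chevalley group of type `B₂` over `ZMod 2`
is spanned by 15 vectors `v i j` (`i ≠ j` in `Fin 6`, the orbit of the highest root vector) which the
root elements `x_r(1)` permute like the permutations `sigma r` permute the duads.
-/

set_option autoImplicit false

namespace Cfsg.Agent.Helper96.ChevBTwo

open Cfsg Cfsg.Lie Equiv

/-- the coordinate index set of the adjoint module -/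
abbrev I10 := Fin 2 ⊕ Fin 8

/-- linear order of the coordinates -/
def code : I10 → Fin 10
  | Sum.inl i => ⟨i.val, by omega⟩
  | Sum.inr u => ⟨2 + u.val, by omega⟩

/-- table of the 15 vectors -/
def vtab : Fin 6 → Fin 6 → Fin 10 → ZMod 2 :=
![
  ![![0,0,0,0,0,0,0,0,0,0],
    ![0,0,1,0,0,0,0,0,0,0],
    ![1,0,1,1,1,1,1,1,1,1],
    ![1,1,1,0,1,0,1,0,1,1],
    ![1,1,1,1,0,1,0,1,0,1],
    ![0,0,0,0,0,0,0,0,0,1]],
  ![![0,0,1,0,0,0,0,0,0,0],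
    ![0,0,0,0,0,0,0,0,0,0],
    ![0,1,0,0,0,1,1,1,1,1],
    ![0,0,0,0,0,0,1,0,1,1],
    ![0,0,0,0,0,1,0,1,0,1],
    ![1,1,1,0,0,0,0,0,0,1]],
  ![![1,0,1,1,1,1,1,1,1,1],
    ![0,1,0,0,0,1,1,1,1,1],
    ![0,0,0,0,0,0,0,0,0,0],
    ![0,0,0,0,0,1,0,0,0,0],
    ![0,0,0,0,0,0,1,0,0,0],
    ![0,1,1,1,1,1,1,0,0,0]],
  ![![1,1,1,0,1,0,1,0,1,1],
    ![0,0,0,0,0,0,1,0,1,1],
    ![0,0,0,0,0,1,0,0,0,0],
    ![0,0,0,0,0,0,0,0,0,0],
    ![0,1,0,0,0,1,1,0,0,0],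
    ![0,0,1,0,1,0,1,0,0,0]],
  ![![1,1,1,1,0,1,0,1,0,1],
    ![0,0,0,0,0,1,0,1,0,1],
    ![0,0,0,0,0,0,1,0,0,0],
    ![0,1,0,0,0,1,1,0,0,0],
    ![0,0,0,0,0,0,0,0,0,0],
    ![0,0,1,1,0,1,0,0,0,0]],
  ![![0,0,0,0,0,0,0,0,0,1],
    ![1,1,1,0,0,0,0,0,0,1],
    ![0,1,1,1,1,1,1,0,0,0],
    ![0,0,1,0,1,0,1,0,0,0],
    ![0,0,1,1,0,1,0,0,0,0],
    ![0,0,0,0,0,0,0,0,0,0]]]

/-- the vector attached to the duad `{i, j}` (zero for `i = j`) -/
def v (i j : Fin 6) : I10 → ZMod 2 := fun a => vtab i j (code a)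

/-- ten duads whose vectors form a basis -/
def bp : Fin 10 → Fin 6 × Fin 6 :=
  ![(0,1),(0,2),(0,3),(0,4),(0,5),(1,2),(1,3),(1,4),(2,3),(2,4)]

/-- table of the inverse of the basis matrix -/
def binvTab : Fin 10 → Fin 10 → ZMod 2 :=
![
  ![1,0,1,0,0,0,0,0,0,0],
  ![1,0,0,1,1,0,0,0,0,0],
  ![1,0,0,1,0,0,0,0,0,0],
  ![1,0,0,0,1,0,0,0,0,0],
  ![1,1,0,0,0,0,0,1,1,1],
  ![0,1,0,1,1,0,0,0,0,0],
  ![0,1,0,1,0,0,0,0,1,0],
  ![0,1,0,0,1,0,0,1,0,0],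
  ![0,0,0,0,0,1,0,1,0,0],
  ![0,0,0,0,0,0,1,0,1,0]]

/-- the inverse of the basis matrix -/
def binv (k : Fin 10) (b : I10) : ZMod 2 := binvTab k (code b)

/-- the matrix by which a permutation of `Fin 6` acts on the adjoint module -/
def phi (σ : Perm (Fin 6)) : Matrix I10 I10 (ZMod 2) :=
  Matrix.of fun a b => ∑ k : Fin 10, v (σ (bp k).1) (σ (bp k).2) a * binv k b

/-- the permutations induced by the root elements `x_r(1)` -/
def sigma : Fin 8 → Perm (Fin 6) :=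
  ![swap 0 1, swap 0 1 * swap 2 3 * swap 4 5, swap 0 1 * swap 2 4 * swap 3 5, swap 2 3,
    swap 2 4, swap 0 5 * swap 1 4 * swap 2 3, swap 0 5 * swap 1 3 * swap 2 4, swap 0 5]

theorem phi_one : phi 1 = 1 := by decide +kernel

theorem phi_gen : ∀ n : Fin 5, ∀ i j : Fin 6,
    (phi (swap n.castSucc n.succ)).mulVec (v i j) = v (swap n.castSucc n.succ i) (swap n.castSucc n.succ j) := by
  decide +kernel

theorem v_inj : ∀ a b c d : Fin 6, a ≠ b → v a b = v c d → (c = a ∧ d = b) ∨ (c = b ∧ d = a) := by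
  decide +kernel

theorem perm_eq_one : ∀ σ : Perm (Fin 6),
    (∀ a b : Fin 6, a ≠ b → (σ a = a ∧ σ b = b) ∨ (σ a = b ∧ σ b = a)) → σ = 1 := by
  decide +kernel

/-- the root elements over `ZMod 2`, with the index types in normal form -/
def X (r : Fin 8) (t : ZMod 2) : Matrix I10 I10 (ZMod 2) := chevB2.xMat (ZMod 2) r t

theorem X_one_eq : ∀ r : Fin 8, X r 1 = phi (sigma r) := by
  decide +kernel

theorem X_zero_eq : ∀ r : Fin 8, X r 0 = 1 := by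
  decide +kernel

theorem swap_words :
    swap (0 : Fin 6) 1 = sigma 0 ∧
    swap (1 : Fin 6) 2 = sigma 3 * sigma 2 * sigma 7 * sigma 2 * sigma 3 ∧
    swap (2 : Fin 6) 3 = sigma 3 ∧
    swap (3 : Fin 6) 4 = sigma 3 * sigma 4 * sigma 3 ∧
    swap (4 : Fin 6) 5 = sigma 0 * sigma 1 * sigma 3 := by
  decide +kernel

end Cfsg.Agent.Helper96.ChevBTwo
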