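import Mathlib
import Cfsg.Prelude.Def_Chevalley

/-!
Helper96: the Chevalley group of a datum is functorial in ring isomorphisms of the field:
`ChevMap.groupMapEquiv D f : D.group F ≃* D.group F'` for `f : F ≃+* F'`.
(Adapted from the automorphism case in `Cfsg.Agent.S1080`.)
-/

set_option autoImplicit false

namespace Cfsg.Agent.Helper96.ChevMap

open Cfsg Cfsg.Lie

theorem xMat_map_hom {F F' : Type*} [Field F] [Field F'] (D : ChevalleyDatum) (f : F →+* F')
    (r : Fin D.nroots) (t : F) :
    (D.xMat F r t).map f = D.xMat F' r (f t) := by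
  ext row col
  simp only [Matrix.map_apply, ChevalleyDatum.xMat, Matrix.of_apply]
  rcases col with i | s
  · rcases row with i' | u
    · simp only [apply_ite f, map_one, map_zero]
    · simp only [apply_ite f, map_zero, map_neg, map_mul, map_intCast]
  · simp only
    split_ifs with h1 h2
    · rcases row with i' | u
      · simp
      · simp only [apply_ite f, map_one, map_zero]
    · rcases row with i' | u
      · simp only [map_mul, map_intCast]
      · simp only [apply_ite f, map_one, map_zero, map_neg, map_pow]
    · rcases row with i' | u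
      · simp
      · simp only [map_add, apply_ite f, map_one, map_zero, map_list_sum, List.map_map]
        congr 2
        ext km
        simp [map_mul, map_intCast, map_pow]

/-- The isomorphism of `GL` induced by a ring isomorphism. -/
noncomputable def glMapEquiv {F F' : Type*} [Field F] [Field F'] (D : ChevalleyDatum) (f : F ≃+* F') :
    GL D.Idx F ≃* GL D.Idx F' :=
  Units.mapEquiv (RingEquiv.mapMatrix f).toMulEquiv

theorem glMapEquiv_coe {F F' : Type*} [Field F] [Field F'] (D : ChevalleyDatum) (f : F ≃+* F')
    (g : GL D.Idx F) :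
    ((glMapEquiv D f g : GL D.Idx F') : Matrix D.Idx D.Idx F') = (g : Matrix D.Idx D.Idx F).map f := by
  rfl

theorem glMapEquiv_symm_coe {F F' : Type*} [Field F] [Field F'] (D : ChevalleyDatum) (f : F ≃+* F')
    (g : GL D.Idx F') :
    (((glMapEquiv D f).symm g : GL D.Idx F) : Matrix D.Idx D.Idx F) =
      (g : Matrix D.Idx D.Idx F').map f.symm := by
  rfl

theorem map_group_eq {F F' : Type*} [Field F] [Field F'] (D : ChevalleyDatum) (f : F ≃+* F') :
    (D.group F).map (glMapEquiv D f).toMonoidHom = D.group F' := by
  unfold ChevalleyDatum.group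
  rw [MonoidHom.map_closure]
  congr 1
  ext g
  simp only [Set.mem_image, Set.mem_ofPred_eq]
  constructor
  · rintro ⟨g', ⟨r, t, hg'⟩, rfl⟩
    refine ⟨r, f t, ?_⟩
    show ((glMapEquiv D f g' : GL D.Idx F') : Matrix D.Idx D.Idx F') = _
    rw [glMapEquiv_coe, hg']
    exact xMat_map_hom D (f : F →+* F') r t
  · rintro ⟨r, t, hg⟩
    refine ⟨(glMapEquiv D f).symm g, ⟨r, f.symm t, ?_⟩, ?_⟩
    · rw [glMapEquiv_symm_coe, hg]
      exact xMat_map_hom D (f.symm : F' →+* F) r t
    · show glMapEquiv D f ((glMapEquiv D f).symm g) = g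
      simp

/-- The Chevalley groups over isomorphic fields are isomorphic. -/
noncomputable def groupMapEquiv {F F' : Type*} [Field F] [Field F'] (D : ChevalleyDatum) (f : F ≃+* F') :
    ↥(D.group F) ≃* ↥(D.group F') :=
  ((glMapEquiv D f).subgroupMap (D.group F)).trans (MulEquiv.subgroupCongr (map_group_eq D f))

end Cfsg.Agent.Helper96.ChevMap
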