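import Mathlib
import Cfsg.Prelude.Def_ChevB2
import Cfsg.Agent.Helper96.ChevBTwoData
import Cfsg.Agent.Helper96.ChevMap

/-!
Helper96: `B₂(2) ≅ S₆`: the Chevalley group of type `B₂` over a field with two elements is isomorphic
to the symmetric group on six letters (`ChevBTwo.nonempty_mulEquiv`).
-/

set_option autoImplicit false

namespace Cfsg.Agent.Helper96.ChevBTwo

open Cfsg Cfsg.Lie Equiv

/-- `phi` is multiplicative at `σ` as soon as `phi σ` moves the vectors `v i j` like `σ`. -/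
theorem phi_mul_of {σ : Perm (Fin 6)}
    (h : ∀ i j : Fin 6, (phi σ).mulVec (v i j) = v (σ i) (σ j)) (τ : Perm (Fin 6)) :
    phi (σ * τ) = phi σ * phi τ := by
  ext a b
  have h' : ∀ i j : Fin 6, v (σ i) (σ j) a = ∑ c, phi σ a c * v i j c := by
    intro i j
    rw [← h i j]
    rfl
  rw [Matrix.mul_apply]
  have e1 : phi (σ * τ) a b =
      ∑ k : Fin 10, v (σ (τ (bp k).1)) (σ (τ (bp k).2)) a * binv k b := rfl
  have e2 : ∀ c, phi τ c b = ∑ k : Fin 10, v (τ (bp k).1) (τ (bp k).2) c * binv k b :=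
    fun c => rfl
  rw [e1]
  simp only [e2, h', Finset.sum_mul, Finset.mul_sum]
  rw [Finset.sum_comm]
  refine Finset.sum_congr rfl fun c _ => Finset.sum_congr rfl fun k _ => ?_
  ring

theorem phi_mulVec (σ : Perm (Fin 6)) :
    ∀ i j : Fin 6, (phi σ).mulVec (v i j) = v (σ i) (σ j) := by
  refine Submonoid.induction_of_closure_eq_top_right (Equiv.Perm.mclosure_swap_castSucc_succ 5) σ ?_ ?_
  · intro i j
    rw [phi_one, Matrix.one_mulVec]
    rfl
  · rintro σ _ ⟨n, rfl⟩ ih i j
    rw [phi_mul_of ih, ← Matrix.mulVec_mulVec, phi_gen n i j, ih]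
    rfl

theorem phi_mul (σ τ : Perm (Fin 6)) : phi (σ * τ) = phi σ * phi τ :=
  phi_mul_of (phi_mulVec σ) τ

/-- the representation of `S₆` on the adjoint module -/
def phiHom : Perm (Fin 6) →* Matrix I10 I10 (ZMod 2) where
  toFun := phi
  map_one' := phi_one
  map_mul' := phi_mul

/-- the representation as a homomorphism into the general linear group -/
def phiGL : Perm (Fin 6) →* GL chevB2.Idx (ZMod 2) := phiHom.toHomUnits

theorem phiGL_coe (σ : Perm (Fin 6)) :
    ((phiGL σ : GL chevB2.Idx (ZMod 2)) : Matrix chevB2.Idx chevB2.Idx (ZMod 2)) = phi σ := rfl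

theorem phiGL_injective : Function.Injective phiGL := by
  rw [injective_iff_map_eq_one]
  intro σ hσ
  have h1 : phi σ = 1 := by
    rw [← phiGL_coe, hσ]; rfl
  apply perm_eq_one
  intro a b hab
  have h2 := phi_mulVec σ a b
  rw [h1, Matrix.one_mulVec] at h2
  exact v_inj a b (σ a) (σ b) hab h2

theorem phiGL_sigma_mem (r : Fin 8) : phiGL (sigma r) ∈ chevB2.group (ZMod 2) := by
  refine Subgroup.subset_closure ⟨r, 1, ?_⟩
  rw [phiGL_coe, ← X_one_eq r]
  rfl

theorem closure_swaps : Subgroup.closure (Set.range fun i : Fin 5 => swap i.castSucc i.succ) = ⊤ := by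
  rw [eq_top_iff]
  intro σ _
  have h := Equiv.Perm.mclosure_swap_castSucc_succ 5
  have h2 : σ ∈ Submonoid.closure (Set.range fun i : Fin 5 => swap i.castSucc i.succ) := by
    rw [h]; trivial
  exact Subgroup.le_closure_toSubmonoid _ h2

theorem group_eq_range : chevB2.group (ZMod 2) = phiGL.range := by
  apply le_antisymm
  · unfold ChevalleyDatum.group
    rw [Subgroup.closure_le]
    rintro g ⟨r, t, hg⟩
    have ht : ∀ t : ZMod 2, t = 0 ∨ t = 1 := by decide
    rcases ht t with rfl | rfl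
    · refine ⟨1, ?_⟩
      rw [map_one]
      apply Units.ext
      rw [hg]
      exact (X_zero_eq r).symm
    · refine ⟨sigma r, ?_⟩
      apply Units.ext
      rw [hg, phiGL_coe, ← X_one_eq r]
      rfl
  · rw [MonoidHom.range_eq_map, ← closure_swaps, MonoidHom.map_closure, Subgroup.closure_le]
    rintro _ ⟨_, ⟨n, rfl⟩, rfl⟩
    obtain ⟨w0, w1, w2, w3, w4⟩ := swap_words
    have hm := phiGL_sigma_mem
    fin_cases n
    · show phiGL (swap (0 : Fin 6) 1) ∈ _
      rw [w0]; exact hm 0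
    · show phiGL (swap (1 : Fin 6) 2) ∈ _
      rw [w1]; simp only [map_mul]
      exact mul_mem (mul_mem (mul_mem (mul_mem (hm 3) (hm 2)) (hm 7)) (hm 2)) (hm 3)
    · show phiGL (swap (2 : Fin 6) 3) ∈ _
      rw [w2]; exact hm 3
    · show phiGL (swap (3 : Fin 6) 4) ∈ _
      rw [w3]; simp only [map_mul]
      exact mul_mem (mul_mem (hm 3) (hm 4)) (hm 3)
    · show phiGL (swap (4 : Fin 6) 5) ∈ _
      rw [w4]; simp only [map_mul]
      exact mul_mem (mul_mem (hm 0) (hm 1)) (hm 3)

/-- `B₂(2) ≅ S₆` over `ZMod 2`. -/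
noncomputable def mulEquivZModTwo : ↥(chevB2.group (ZMod 2)) ≃* Perm (Fin 6) :=
  ((MonoidHom.ofInjective phiGL_injective).trans
    (MulEquiv.subgroupCongr group_eq_range.symm)).symm

/-- `B₂(2) ≅ S₆`. -/
theorem nonempty_mulEquiv {F : Type*} [Field F] [Fintype F] (hF : Fintype.card F = 2) :
    Nonempty (↥(chevB2.group F) ≃* Perm (Fin 6)) := by
  have e : ZMod 2 ≃+* F := ZMod.ringEquivOfPrime F Nat.prime_two hF
  exact ⟨(ChevMap.groupMapEquiv chevB2 e).symm.trans mulEquivZModTwo⟩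

end Cfsg.Agent.Helper96.ChevBTwo
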