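import Mathlib

set_option autoImplicit false

namespace Cfsg.Agent.Helper96.SpFour

open Matrix

/-- index type -/
abbrev I := Fin 2 ⊕ Fin 2
/-- the field -/
abbrev K := ZMod 2
/-- the space -/
abbrev V := I → K

/-- the hyperbolic quadratic form -/
def Q0 (x : V) : K := x (Sum.inl 0) * x (Sum.inr 0) + x (Sum.inl 1) * x (Sum.inr 1)

/-- the quadratic forms polarizing to the symplectic form, labelled by `q : V` -/
def Qf (q x : V) : K := Q0 x + q ⬝ᵥ x

/-- the symplectic form -/
def Bf (x y : V) : K := x ⬝ᵥ (J (Fin 2) K *ᵥ y)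

theorem Q0_add : ∀ x y : V, Q0 (x + y) = Q0 x + Q0 y + Bf x y := by decide +kernel

theorem Q0_single : ∀ i : I, Q0 (Pi.single i 1) = 0 := by decide

/-- the six elliptic forms -/
abbrev X := {q : V // (Finset.univ.filter (fun x : V => Qf q x = 0)).card = 6}

theorem card_X : Fintype.card X = 6 := by decide +kernel

/-- a function `V → K` is *polar* if it polarizes to `Bf` -/
def IsPolar (f : V → K) : Prop := ∀ x y, f (x + y) = f x + f y + Bf x y

theorem isPolar_Qf (q : V) : IsPolar (Qf q) := by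
  intro x y
  unfold Qf
  rw [Q0_add, dotProduct_add]
  ring

/-- two polar functions agreeing on the standard basis are equal -/
theorem IsPolar.ext {f g : V → K} (hf : IsPolar f) (hg : IsPolar g)
    (h : ∀ i : I, f (Pi.single i 1) = g (Pi.single i 1)) : f = g := by
  have hadd : ∀ x y, (f - g) (x + y) = (f - g) x + (f - g) y := by
    intro x y
    simp only [Pi.sub_apply, hf x y, hg x y]
    ring
  have h0 : (f - g) 0 = 0 := by
    have := hadd 0 0
    rw [add_zero] at this
    exact left_eq_add.mp this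
  let d : V →+ K := ⟨⟨f - g, h0⟩, hadd⟩
  have hd : d = 0 := by
    apply AddMonoidHom.functions_ext
    intro i c
    have hc : c = 0 ∨ c = 1 := by
      revert c; decide
    rcases hc with rfl | rfl
    · simp
    · change (f - g) (Pi.single i 1) = 0
      rw [Pi.sub_apply, h i, sub_self]
  funext x
  have := DFunLike.congr_fun hd x
  change (f - g) x = 0 at this
  rw [Pi.sub_apply, sub_eq_zero] at this
  exact this

theorem Qf_single (q : V) (i : I) : Qf q (Pi.single i 1) = q i := by
  unfold Qf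
  rw [Q0_single, zero_add, dotProduct_single, mul_one]

/-- symplectic matrices preserve `Bf` -/
theorem Bf_mulVec {M : Matrix I I K} (hM : M ∈ symplecticGroup (Fin 2) K) (x y : V) :
    Bf (M *ᵥ x) (M *ᵥ y) = Bf x y := by
  unfold Bf
  rw [SymplecticGroup.mem_iff'] at hM
  rw [mulVec_mulVec, dotProduct_mulVec, vecMul_mulVec, ← Matrix.mul_assoc, hM, ← dotProduct_mulVec]

/-- the action of a matrix on labels -/
def actFun (M : Matrix I I K) (q : V) : V := fun i => Qf q (M *ᵥ Pi.single i 1)

/-- key identity: `Q_q ∘ M = Q_{actFun M q}` for symplectic `M` -/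
theorem Qf_mulVec {M : Matrix I I K} (hM : M ∈ symplecticGroup (Fin 2) K) (q x : V) :
    Qf q (M *ᵥ x) = Qf (actFun M q) x := by
  have h1 : IsPolar (fun x => Qf q (M *ᵥ x)) := by
    intro x y
    change Qf q (M *ᵥ (x + y)) = Qf q (M *ᵥ x) + Qf q (M *ᵥ y) + Bf x y
    rw [mulVec_add, isPolar_Qf q, Bf_mulVec hM]
  have h2 := IsPolar.ext h1 (isPolar_Qf (actFun M q)) (fun i => by
    rw [Qf_single]
    rfl)
  exact congrFun h2 x

theorem Qf_injective : Function.Injective Qf := by
  intro q q' h
  funext i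
  rw [← Qf_single q i, ← Qf_single q' i, h]

theorem actFun_one (q : V) : actFun 1 q = q := by
  funext i
  unfold actFun
  rw [one_mulVec, Qf_single]

theorem actFun_mul {M N : Matrix I I K} (hM : M ∈ symplecticGroup (Fin 2) K) (q : V) :
    actFun (M * N) q = actFun N (actFun M q) := by
  funext i
  unfold actFun
  rw [← mulVec_mulVec, Qf_mulVec hM]
  rfl

/-- the number of zeros is preserved -/
theorem card_zeros_actFun (g : symplecticGroup (Fin 2) K) (q : V) :
    (Finset.univ.filter (fun x : V => Qf (actFun g.1 q) x = 0)).card =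
      (Finset.univ.filter (fun x : V => Qf q x = 0)).card := by
  have hinv1 : (g⁻¹ : symplecticGroup (Fin 2) K).1 * g.1 = 1 :=
    congrArg Subtype.val (inv_mul_cancel g)
  have hinv2 : g.1 * (g⁻¹ : symplecticGroup (Fin 2) K).1 = 1 :=
    congrArg Subtype.val (mul_inv_cancel g)
  let e : V ≃ V :=
    { toFun := fun x => g.1 *ᵥ x
      invFun := fun x => (g⁻¹ : symplecticGroup (Fin 2) K).1 *ᵥ x
      left_inv := fun x => by simp only [mulVec_mulVec, hinv1, one_mulVec]
      right_inv := fun x => by simp only [mulVec_mulVec, hinv2, one_mulVec] }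
  apply Finset.card_equiv e
  intro x
  simp only [Finset.mem_filter, Finset.mem_univ, true_and]
  rw [← Qf_mulVec g.2]
  rfl

/-- the group `Sp_4(2)` -/
abbrev G := symplecticGroup (Fin 2) K

instance instMulActionX : MulAction G X where
  smul g q := ⟨actFun (g⁻¹).1 q.1, by rw [card_zeros_actFun]; exact q.2⟩
  one_smul q := by
    apply Subtype.ext
    change actFun ((1 : G)⁻¹).1 q.1 = q.1
    rw [inv_one]
    exact actFun_one q.1
  mul_smul g h q := by
    apply Subtype.ext
    change actFun ((g * h)⁻¹).1 q.1 = actFun (g⁻¹).1 (actFun (h⁻¹).1 q.1)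
    rw [_root_.mul_inv_rev]
    exact actFun_mul (h⁻¹).2 q.1

theorem smul_val (g : G) (q : X) : (g • q).1 = actFun (g⁻¹).1 q.1 := rfl

theorem exists_pair_sum : ∀ i : I, ∃ q q' : X, q.1 + q'.1 = Pi.single i 1 := by decide +kernel

theorem Qf_add_Qf (q q' y : V) : Qf q y + Qf q' y = (q + q') ⬝ᵥ y := by
  unfold Qf
  rw [add_dotProduct]
  have h2 : Q0 y + Q0 y = 0 := by
    have : ∀ a : K, a + a = 0 := by decide
    exact this _
  calc Q0 y + q ⬝ᵥ y + (Q0 y + q' ⬝ᵥ y) = (Q0 y + Q0 y) + (q ⬝ᵥ y + q' ⬝ᵥ y) := by ring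
    _ = q ⬝ᵥ y + q' ⬝ᵥ y := by rw [h2, zero_add]

theorem toPermHom_injective : Function.Injective (MulAction.toPermHom G X) := by
  rw [← MonoidHom.ker_eq_bot_iff, eq_bot_iff]
  intro g hg
  rw [Subgroup.mem_bot]
  have hfix : ∀ q : X, g • q = q := fun q => by
    have h1 : MulAction.toPermHom G X g = 1 := hg
    calc g • q = MulAction.toPermHom G X g q := rfl
      _ = q := by rw [h1]; rfl
  have hfix' : ∀ q : X, actFun (g⁻¹).1 q.1 = q.1 := fun q => congrArg Subtype.val (hfix q)
  have hQ : ∀ (q : X) (x : V), Qf q.1 ((g⁻¹).1 *ᵥ x) = Qf q.1 x := by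
    intro q x
    rw [Qf_mulVec (g⁻¹).2, hfix']
  have hcoord : ∀ (x : V) (i : I), ((g⁻¹).1 *ᵥ x) i = x i := by
    intro x i
    obtain ⟨q, q', hqq⟩ := exists_pair_sum i
    have h1 := Qf_add_Qf q.1 q'.1 ((g⁻¹).1 *ᵥ x)
    have h2 := Qf_add_Qf q.1 q'.1 x
    rw [hQ q x, hQ q' x, h2, hqq, single_dotProduct, single_dotProduct, one_mul, one_mul] at h1
    exact h1.symm
  have hone : (g⁻¹).1 = 1 := by
    ext i j
    have := hcoord (Pi.single j 1) i
    rw [mulVec_single_one] at this
    rw [Matrix.one_apply]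
    simp only [Matrix.col_apply] at this
    rw [this, Pi.single_apply]
  have : g⁻¹ = 1 := Subtype.ext hone
  exact inv_eq_one.mp this

/-- the symplectic transvection `x ↦ x + B(x,v) v` -/
def T (v : V) : Matrix I I K := 1 + vecMulVec v (J (Fin 2) K *ᵥ v)

/-- the vector representing a linear functional through `Bf` -/
def dualv (w : V) : V := fun i => w (Sum.swap i)

theorem T_mem : ∀ v : V, T v * J (Fin 2) K * (T v)ᵀ = J (Fin 2) K := by decide +kernel

theorem T_mul_self : ∀ v : V, T v * T v = 1 := by decide +kernel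

theorem T_act : ∀ q q' : X, q ≠ q' → ∀ r : X,
    actFun (T (dualv (q.1 + q'.1))) r.1 = (Equiv.swap q q' r).1 := by decide +kernel

theorem exists_toPermHom_eq_swap (q q' : X) (h : q ≠ q') :
    ∃ g : G, MulAction.toPermHom G X g = Equiv.swap q q' := by
  let g : G := ⟨T (dualv (q.1 + q'.1)), SymplecticGroup.mem_iff.mpr (T_mem _)⟩
  have hg : g⁻¹ = g := by
    rw [inv_eq_iff_mul_eq_one]
    exact Subtype.ext (T_mul_self _)
  refine ⟨g, ?_⟩
  ext r : 1
  apply Subtype.ext
  change actFun (g⁻¹).1 r.1 = (Equiv.swap q q' r).1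
  rw [hg]
  exact T_act q q' h r

theorem toPermHom_surjective : Function.Surjective (MulAction.toPermHom G X) := by
  rw [← MonoidHom.range_eq_top, eq_top_iff, ← Equiv.Perm.closure_isSwap, Subgroup.closure_le]
  rintro σ ⟨q, q', h, rfl⟩
  exact exists_toPermHom_eq_swap q q' h

/-- `Sp_4(2) ≅ S_6` over `ZMod 2` -/
theorem nonempty_mulEquiv_zmod : Nonempty (G ≃* Equiv.Perm (Fin 6)) := by
  have e1 : G ≃* Equiv.Perm X :=
    MulEquiv.ofBijective (MulAction.toPermHom G X) ⟨toPermHom_injective, toPermHom_surjective⟩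
  exact ⟨e1.trans (Fintype.equivFinOfCardEq card_X).permCongrHom⟩

/-- a ring isomorphism induces an isomorphism of symplectic groups -/
noncomputable def symplecticMapEquiv {l R S : Type*} [DecidableEq l] [Fintype l] [CommRing R]
    [CommRing S] (e : R ≃+* S) : symplecticGroup l R ≃* symplecticGroup l S where
  toFun A := ⟨A.1.map e, SymplecticGroup.map_mem A.2 e⟩
  invFun B := ⟨B.1.map e.symm, SymplecticGroup.map_mem B.2 e.symm⟩
  left_inv A := by
    apply Subtype.ext
    ext i j
    simp
  right_inv B := by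
    apply Subtype.ext
    ext i j
    simp
  map_mul' A B := by
    apply Subtype.ext
    simp only [Submonoid.coe_mul]
    exact Matrix.map_mul

/-- `Sp_4(2) ≅ S_6` -/
theorem nonempty_mulEquiv {F : Type*} [Field F] [Fintype F] (hF : Fintype.card F = 2) :
    Nonempty (Matrix.symplecticGroup (Fin 2) F ≃* Equiv.Perm (Fin 6)) := by
  obtain ⟨e⟩ := nonempty_mulEquiv_zmod
  exact ⟨(symplecticMapEquiv (ZMod.ringEquivOfPrime F Nat.prime_two hF).symm).trans e⟩

end Cfsg.Agent.Helper96.SpFour
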