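import Cfsg.Agent.Helper96.UFourData

/-! Helper96: kernel-checked identities for `PSU₄(2) ≅ PSp₄(3)`. -/

set_option autoImplicit false
set_option maxRecDepth 100000

namespace Cfsg.Agent.Helper96.UFour

open Cfsg Cfsg.Agent.Helper27

theorem nf4_smul : ∀ s : GF4, s ≠ 0 → ∀ w : V4, nf4 (s • w) = nf4 w := by decide +kernel

theorem nf4_eq_smul : ∀ w : V4, ∃ s : GF4, s ≠ 0 ∧ nf4 w = s • w := by decide +kernel

theorem good4_nf : ∀ w : V4, hermForm 4 GF4 2 w w ≠ 0 → Good4 (nf4 w) := by decide +kernel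

theorem pt4_idx4 : ∀ w : V4, Good4 w → pt4 (idx4 w) = w := by decide +kernel

theorem idx4_pt4 : ∀ k : Fin 40, idx4 (pt4 k) = k ∧ Good4 (pt4 k) := by decide +kernel

theorem nf3_smul : ∀ s : ZMod 3, s ≠ 0 → ∀ w : V3, nf3 (s • w) = nf3 w := by decide +kernel

theorem nf3_eq_smul : ∀ w : V3, ∃ s : ZMod 3, s ≠ 0 ∧ nf3 w = s • w := by decide +kernel

theorem good3_nf : ∀ w : V3, w ≠ 0 → Good3 (nf3 w) := by decide +kernel

theorem pt3_idx3 : ∀ w : V3, Good3 w → pt3 (idx3 w) = w := by decide +kernel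

theorem idx3_pt3 : ∀ k : Fin 40, idx3 (pt3 k) = k ∧ Good3 (pt3 k) := by decide +kernel

theorem transv_mem : ∀ vv : V4, ∀ c : GF4, hermForm 4 GF4 2 vv vv = 0 → (vv = 0 ∨ c = 0 ∨ c = 1) →
    ∃ e ∈ tab, unitaryTransvection 4 2 vv c = mat4Of e.1 := by decide +kernel

theorem tab_ok : ∀ e ∈ tab, IsSp (mat3Of e.2) ∧
    ∀ k : Fin 40, act4 (mat4Of e.1) k = act3 (mat3Of e.2) k := by decide +kernel

theorem neg_one_act : ∀ k : Fin 40, act3 (-1) k = k := by decide +kernel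

theorem dg_moves : act4 dg 4 ≠ 4 := by decide +kernel

theorem dg_unitary : dg.transpose * dg.map (· ^ 2) = 1 := by decide +kernel

theorem tab_moves : act3 (mat3Of 4960200) 0 ≠ 0 := by decide +kernel

theorem tab_isSp : IsSp (mat3Of 4960200) := by decide +kernel

theorem pow_eq_one : ∀ c : GF4, c ^ (2 - 1) = -1 → c = 1 := by decide +kernel

end Cfsg.Agent.Helper96.UFour
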