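import Mathlib
import Cfsg.Prelude.Def_Classical
import Cfsg.Prelude.Def_ClassicalGeometry
import Cfsg.Agent.Helper96.UFourCheck
import Cfsg.Agent.Helper96.SUEquiv
import Cfsg.Agent.Helper96.SpFour
import Cfsg.Agent.Helper98.SUKit
import Cfsg.Agent.S0245
import Cfsg.Agent.S0246
import Cfsg.Agent.S0270
import Cfsg.Agent.S0279
import Cfsg.Agent.S0280
import Cfsg.Agent.S0283
import Cfsg.Agent.S0779
import Cfsg.Agent.S0780

/-!
Helper96: `PSU₄(2) ≅ PSp₄(3)` (`UFour.nonempty_mulEquiv`): both groups act faithfully on 40 points, and the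
generating unitary transvections act like symplectic matrices; simplicity and the orders of the two groups
finish the proof.
-/

set_option autoImplicit false

namespace Cfsg.Agent.Helper96.UFour

open Cfsg Cfsg.Agent.Helper27 Cfsg.Agent.Helper98 Matrix

/-- `SU₄(2)` over the explicit field with four elements -/
abbrev SU4 := Cfsg.SU 4 GF4 2

/-- `Sp₄(3)` over `ZMod 3` -/
abbrev Sp3 := Matrix.symplecticGroup (Fin 2) (ZMod 3)

theorem card_GF4' : Fintype.card GF4 = 2 ^ 2 := by rw [GF4.card_eq]; norm_num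

theorem act4_mul (A B : Matrix (Fin 4) (Fin 4) GF4) (k : Fin 40)
    (hB : hermForm 4 GF4 2 (B.mulVec (pt4 k)) (B.mulVec (pt4 k)) ≠ 0) :
    act4 (A * B) k = act4 A (act4 B k) := by
  unfold act4
  rw [pt4_idx4 _ (good4_nf _ hB)]
  obtain ⟨s, hs, hw⟩ := nf4_eq_smul (B.mulVec (pt4 k))
  rw [hw, Matrix.mulVec_smul, nf4_smul s hs, Matrix.mulVec_mulVec]

theorem act4_one (k : Fin 40) : act4 1 k = k := by
  unfold act4
  rw [Matrix.one_mulVec, (idx4_pt4 k).2.1, (idx4_pt4 k).1]

theorem herm_su (B : SU4) (w : V4) :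
    hermForm 4 GF4 2 ((B.1.1).mulVec w) ((B.1.1).mulVec w) = hermForm 4 GF4 2 w w := B.2 w w

instance : MulAction SU4 (Fin 40) where
  smul g k := act4 g.1.1 k
  one_smul k := act4_one k
  mul_smul g h k := act4_mul g.1.1 h.1.1 k (by rw [herm_su]; exact (idx4_pt4 k).2.2)

theorem smul4_def (g : SU4) (k : Fin 40) : g • k = act4 g.1.1 k := rfl

theorem act3_mul (A B : Matrix I4 I4 (ZMod 3)) (k : Fin 40) (hB : B.mulVec (pt3 k) ≠ 0) :
    act3 (A * B) k = act3 A (act3 B k) := by
  unfold act3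
  rw [pt3_idx3 _ (good3_nf _ hB)]
  obtain ⟨s, hs, hw⟩ := nf3_eq_smul (B.mulVec (pt3 k))
  rw [hw, Matrix.mulVec_smul, nf3_smul s hs, Matrix.mulVec_mulVec]

theorem act3_one (k : Fin 40) : act3 1 k = k := by
  unfold act3
  rw [Matrix.one_mulVec, (idx3_pt3 k).2.1, (idx3_pt3 k).1]

theorem sp_mulVec_ne_zero (B : Sp3) (w : V3) (hw : w ≠ 0) : (B.1).mulVec w ≠ 0 := by
  intro h
  apply hw
  have h1 : (B⁻¹).1 * B.1 = 1 := by
    have := inv_mul_cancel B
    exact congrArg Subtype.val this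
  have h2 : ((B⁻¹).1 * B.1).mulVec w = w := by rw [h1, Matrix.one_mulVec]
  rw [← Matrix.mulVec_mulVec, h, Matrix.mulVec_zero] at h2
  exact h2.symm

instance : MulAction Sp3 (Fin 40) where
  smul g k := act3 g.1 k
  one_smul k := act3_one k
  mul_smul g h k := act3_mul g.1 h.1 k (sp_mulVec_ne_zero h _ (idx3_pt3 k).2.2)

theorem smul3_def (g : Sp3) (k : Fin 40) : g • k = act3 g.1 k := rfl

/-- the permutation representation of `SU₄(2)` -/
def rho4 : SU4 →* Equiv.Perm (Fin 40) := MulAction.toPermHom SU4 (Fin 40)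

/-- the permutation representation of `Sp₄(3)` -/
def rho3 : Sp3 →* Equiv.Perm (Fin 40) := MulAction.toPermHom Sp3 (Fin 40)

theorem rho4_apply (g : SU4) (k : Fin 40) : rho4 g k = act4 g.1.1 k := rfl

theorem rho3_apply (g : Sp3) (k : Fin 40) : rho3 g k = act3 g.1 k := rfl

/-- a matrix satisfying the symplectic condition as an element of `Sp₄(3)` -/
def toSp (M : Matrix I4 I4 (ZMod 3)) (h : IsSp M) : Sp3 :=
  ⟨M, SymplecticGroup.mem_iff.2 h⟩

/-- minus the identity -/
def negOne : Sp3 := toSp (-1) (by unfold IsSp; simp)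

theorem negOne_mem_center : negOne ∈ Subgroup.center Sp3 := by
  rw [Subgroup.mem_center_iff]
  intro g
  apply Subtype.ext
  show g.1 * (-1) = (-1) * g.1
  simp

theorem negOne_ne_one : negOne ≠ 1 := by
  intro h
  have h1 : (-1 : Matrix I4 I4 (ZMod 3)) = 1 := congrArg Subtype.val h
  have h2 := congrFun (congrFun h1 (Sum.inl 0)) (Sum.inl 0)
  revert h2
  decide

theorem card_ZMod3 : Fintype.card (ZMod 3) = 3 := ZMod.card 3

theorem center_cases (z : Sp3) (hz : z ∈ Subgroup.center Sp3) : z = 1 ∨ z = negOne := by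
  have hc : Nat.card (Subgroup.center Sp3) = 2 := by
    have := Cfsg.Agent.S0246.result (F := ZMod 3) (q := 3) card_ZMod3 2 (by norm_num)
    rw [this]; rfl
  obtain ⟨y, _, hy⟩ := (Nat.card_eq_two_iff' (1 : Subgroup.center Sp3)).1 hc
  by_cases h1 : z = 1
  · exact Or.inl h1
  · right
    have e1 : (⟨z, hz⟩ : Subgroup.center Sp3) = y := hy _ (by
      intro h; exact h1 (congrArg Subtype.val h))
    have e2 : (⟨negOne, negOne_mem_center⟩ : Subgroup.center Sp3) = y := hy _ (by
      intro h; exact negOne_ne_one (congrArg Subtype.val h))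
    exact congrArg Subtype.val (e1.trans e2.symm)

theorem center_le_ker : Subgroup.center Sp3 ≤ rho3.ker := by
  intro z hz
  rw [MonoidHom.mem_ker]
  rcases center_cases z hz with rfl | rfl
  · exact map_one _
  · ext k
    rw [rho3_apply]
    show ((act3 (-1) k : Fin 40) : ℕ) = _
    rw [neg_one_act k]
    rfl

/-- the permutation representation of `PSp₄(3)` -/
def rhoBar : Cfsg.PSp 2 (ZMod 3) →* Equiv.Perm (Fin 40) :=
  QuotientGroup.lift (Subgroup.center Sp3) rho3 center_le_ker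

theorem rhoBar_mk (g : Sp3) : rhoBar (QuotientGroup.mk g) = rho3 g := rfl

theorem psp_simple : IsSimpleGroup (Cfsg.PSp 2 (ZMod 3)) :=
  Cfsg.Agent.S0270.result (F := ZMod 3) 2 le_rfl (by intro _; rw [card_ZMod3])

theorem rhoBar_injective : Function.Injective rhoBar := by
  have := psp_simple
  rw [← MonoidHom.ker_eq_bot_iff]
  rcases (MonoidHom.normal_ker rhoBar).eq_bot_or_eq_top with h | h
  · exact h
  · exfalso
    have h1 : (QuotientGroup.mk (toSp (mat3Of 4960200) tab_isSp) : Cfsg.PSp 2 (ZMod 3)) ∈ rhoBar.ker := by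
      rw [h]; trivial
    rw [MonoidHom.mem_ker, rhoBar_mk] at h1
    have h2 := congrArg (fun σ : Equiv.Perm (Fin 40) => σ 0) h1
    exact tab_moves h2

/-- the generating set of `SU₄(2)` -/
def tset : Set SU4 :=
  {A : SU4 | ∃ (v : Fin 4 → GF4) (c : GF4), Cfsg.hermForm 4 GF4 2 v v = 0 ∧
    ((A : Matrix.SpecialLinearGroup (Fin 4) GF4) : Matrix (Fin 4) (Fin 4) GF4) =
      Cfsg.unitaryTransvection 4 2 v c}

theorem closure_tset : Subgroup.closure tset = ⊤ :=
  Cfsg.Agent.S0780.result (F := GF4) (q := 2) card_GF4' 4 (by norm_num) (by norm_num)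

theorem tset_mem_tab {A : SU4} (hA : A ∈ tset) :
    ∃ e ∈ tab, (A.1.1 : Matrix (Fin 4) (Fin 4) GF4) = mat4Of e.1 := by
  obtain ⟨vv, c, hv, hA⟩ := hA
  have hc : vv = 0 ∨ c = 0 ∨ c = 1 := by
    by_cases h0 : vv = 0
    · exact Or.inl h0
    · right
      have h1 := (Cfsg.Agent.S0779.result (F := GF4) (q := 2) card_GF4' 4 vv h0 hv c).1 (by
        intro x y
        rw [← hA]
        exact A.2 x y)
      rcases h1 with h1 | h1
      · exact Or.inl h1
      · exact Or.inr (pow_eq_one c h1)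
  obtain ⟨e, he, h⟩ := transv_mem vv c hv hc
  exact ⟨e, he, hA.trans h⟩

theorem range_le : rho4.range ≤ rhoBar.range := by
  rw [MonoidHom.range_eq_map, ← closure_tset, MonoidHom.map_closure, Subgroup.closure_le]
  rintro _ ⟨x, hx, rfl⟩
  obtain ⟨e, he, h⟩ := tset_mem_tab hx
  obtain ⟨hsp, hact⟩ := tab_ok e he
  refine ⟨QuotientGroup.mk (toSp (mat3Of e.2) hsp), ?_⟩
  rw [rhoBar_mk]
  ext k
  rw [rho3_apply, rho4_apply, h, hact k]
  rfl

theorem center_su_eq_bot {K : Type*} [Field K] [Fintype K] (hK : Fintype.card K = 2 ^ 2) :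
    Subgroup.center (Cfsg.SU 4 K 2) = ⊥ := by
  have h := Cfsg.Agent.S0279.result (F := K) (q := 2) hK 4 (by norm_num)
  exact Subgroup.eq_bot_of_card_eq _ (by rw [h]; rfl)

theorem su_simple : IsSimpleGroup SU4 := by
  have := Cfsg.Agent.S0283.result (F := GF4) (q := 2) card_GF4' 4 (by norm_num) (by norm_num)
  exact (psuEquivOfCenter 4 2 (center_su_eq_bot card_GF4')).symm.isSimpleGroup

instance : CharP GF4 2 := (CharP.charP_iff_prime_eq_zero Nat.prime_two).2 (by decide)

instance : ExpChar GF4 2 := ExpChar.prime Nat.prime_two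

/-- the diagonal matrix `dg` as an element of `SU₄(2)` -/
def dgSU : SU4 :=
  ⟨⟨dg, by
    unfold dg
    rw [Matrix.det_diagonal, Fin.prod_univ_four]
    decide⟩, SUKit.mem_SU_of_matrix 2 _ dg_unitary⟩

theorem rho4_injective : Function.Injective rho4 := by
  have := su_simple
  rw [← MonoidHom.ker_eq_bot_iff]
  rcases (MonoidHom.normal_ker rho4).eq_bot_or_eq_top with h | h
  · exact h
  · exfalso
    have h1 : dgSU ∈ rho4.ker := by rw [h]; trivial
    rw [MonoidHom.mem_ker] at h1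
    have h2 := congrArg (fun σ : Equiv.Perm (Fin 40) => σ 4) h1
    exact dg_moves h2

/-- the embedding of `SU₄(2)` into `PSp₄(3)` -/
noncomputable def psi : SU4 →* Cfsg.PSp 2 (ZMod 3) :=
  (MonoidHom.ofInjective rhoBar_injective).symm.toMonoidHom.comp
    (rho4.codRestrict rhoBar.range (fun g => range_le ⟨g, rfl⟩))

theorem psi_injective : Function.Injective psi := by
  intro a b hab
  have h1 := (MonoidHom.ofInjective rhoBar_injective).symm.injective hab
  have h2 : rho4 a = rho4 b := congrArg Subtype.val h1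
  exact rho4_injective h2

theorem card_SU4 : Nat.card SU4 = 25920 := by
  have h := Cfsg.Agent.S0280.result (F := GF4) (q := 2) card_GF4' 4 (by norm_num)
  rw [Nat.card_congr (psuEquivOfCenter 4 2 (center_su_eq_bot card_GF4')).toEquiv] at h
  have h3 : Nat.gcd 4 (2 + 1) = 1 := by decide
  rw [h3] at h
  simp only [Finset.prod_range_succ, Finset.prod_range_zero] at h
  norm_num at h
  have h' : 3 * Nat.card SU4 = 77760 := h
  omega

theorem card_PSp : Nat.card (Cfsg.PSp 2 (ZMod 3)) = 25920 := by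
  have h1 := Cfsg.Agent.S0245.result (F := ZMod 3) (q := 3) card_ZMod3 2
  have h2 := Cfsg.Agent.S0246.result (F := ZMod 3) (q := 3) card_ZMod3 2 (by norm_num)
  have h3 := Subgroup.card_eq_card_quotient_mul_card_subgroup (Subgroup.center Sp3)
  rw [h1, h2] at h3
  simp only [Finset.prod_range_succ, Finset.prod_range_zero] at h3
  have h4 : Nat.gcd 2 (3 - 1) = 2 := by decide
  rw [h4] at h3
  norm_num at h3
  show Nat.card (Sp3 ⧸ Subgroup.center Sp3) = 25920
  omega

/-- `SU₄(2) ≅ PSp₄(3)` for the explicit fields -/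
noncomputable def psiEquiv : SU4 ≃* Cfsg.PSp 2 (ZMod 3) := by
  have hfin : Finite (Cfsg.PSp 2 (ZMod 3)) := Nat.finite_of_card_ne_zero (by rw [card_PSp]; norm_num)
  exact MulEquiv.ofBijective psi
    (psi_injective.bijective_of_nat_card_le (by rw [card_SU4, card_PSp]))

/-- `PSU₄(2) ≅ PSp₄(3)`. -/
theorem nonempty_mulEquiv {F K : Type*} [Field F] [Fintype F] [Field K] [Fintype K]
    (hF : Fintype.card F = 4) (hK : Fintype.card K = 3) :
    Nonempty (Cfsg.PSU 4 F 2 ≃* Cfsg.PSp 2 K) := by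
  have hF' : Fintype.card F = 2 ^ 2 := by rw [hF]; norm_num
  have e1 : Cfsg.PSU 4 F 2 ≃* Cfsg.SU 4 F 2 := psuEquivOfCenter 4 2 (center_su_eq_bot hF')
  have e2 : Cfsg.SU 4 F 2 ≃* SU4 := suEquiv (gf4Equiv F hF).symm 4 2
  have e3 : Cfsg.PSp 2 (ZMod 3) ≃* Cfsg.PSp 2 K :=
    quotientCenterCongr (SpFour.symplecticMapEquiv (ZMod.ringEquivOfPrime K Nat.prime_three hK))
  exact ⟨((e1.trans e2).trans psiEquiv).trans e3⟩

end Cfsg.Agent.Helper96.UFour
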