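import Mathlib
import Cfsg.Prelude.Def_Classical

set_option autoImplicit false

namespace Cfsg.Agent.Helper96.Klein

open Matrix

/-- index type of the exterior square of a 4-dimensional space -/
abbrev J6 := Fin 3 ⊕ Fin 3

/-- ordered pairs indexing the basis `e_a ∧ e_b` of the exterior square -/
def pr : J6 → Fin 4 × Fin 4
  | Sum.inl 0 => (0, 1)
  | Sum.inr 0 => (2, 3)
  | Sum.inl 1 => (0, 2)
  | Sum.inr 1 => (3, 1)
  | Sum.inl 2 => (0, 3)
  | Sum.inr 2 => (1, 2)

section Ring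

variable {R : Type*} [CommRing R]

/-- the second compound matrix (action on the exterior square) -/
def C2 (A : Matrix (Fin 4) (Fin 4) R) : Matrix J6 J6 R := fun I J =>
  A (pr I).1 (pr J).1 * A (pr I).2 (pr J).2 - A (pr I).1 (pr J).2 * A (pr I).2 (pr J).1

theorem minor_mul (A B : Matrix (Fin 4) (Fin 4) R) (i1 i2 j1 j2 : Fin 4) :
    (A * B) i1 j1 * (A * B) i2 j2 - (A * B) i1 j2 * (A * B) i2 j1 =
      ∑ L : J6, (A i1 (pr L).1 * A i2 (pr L).2 - A i1 (pr L).2 * A i2 (pr L).1) *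
        (B (pr L).1 j1 * B (pr L).2 j2 - B (pr L).1 j2 * B (pr L).2 j1) := by
  simp only [Matrix.mul_apply, Fin.sum_univ_four, Fintype.sum_sum_type, Fin.sum_univ_three, pr]
  ring

theorem C2_mul (A B : Matrix (Fin 4) (Fin 4) R) : C2 (A * B) = C2 A * C2 B := by
  ext I J
  rw [Matrix.mul_apply]
  exact minor_mul A B _ _ _ _

theorem C2_one : C2 (1 : Matrix (Fin 4) (Fin 4) R) = 1 := by
  ext I J
  rcases I with I | I <;> rcases J with J | J <;> fin_cases I <;> fin_cases J <;>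
    simp [C2, pr, Matrix.one_apply]

/-- the determinant, expanded along the first two rows -/
def D (A : Matrix (Fin 4) (Fin 4) R) : R :=
  ∑ L : J6, C2 A (Sum.inl 0) L * C2 A (Sum.inr 0) (Sum.swap L)

theorem Q_C2 (A : Matrix (Fin 4) (Fin 4) R) (x : J6 → R) :
    (∑ i : Fin 3, (C2 A *ᵥ x) (Sum.inl i) * (C2 A *ᵥ x) (Sum.inr i)) =
      D A * ∑ i : Fin 3, x (Sum.inl i) * x (Sum.inr i) := by
  simp only [D, C2, Matrix.mulVec, dotProduct, Fintype.sum_sum_type, Fin.sum_univ_three, pr,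
    Sum.swap_inl, Sum.swap_inr]
  ring

end Ring

end Cfsg.Agent.Helper96.Klein
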