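import Mathlib

set_option autoImplicit false

namespace Cfsg.Agent.Helper96

open Equiv Equiv.Perm

section swaps

variable {α β : Type*} [DecidableEq α] [DecidableEq β]

theorem swap_eq_of_apply_ne {u : Perm β} (hu : u.IsSwap) {x : β} (hx : u x ≠ x) :
    u = swap x (u x) := by
  obtain ⟨p, q, hpq, rfl⟩ := hu
  by_cases h1 : x = p
  · subst h1; rw [swap_apply_left]
  · by_cases h2 : x = q
    · subst h2; rw [swap_apply_right, swap_comm]
    · exact absurd (swap_apply_of_ne_of_ne h1 h2) hx

theorem swap_eq_of_apply_ne_of_apply_ne {u : Perm β} (hu : u.IsSwap) {x y : β} (hxy : x ≠ y)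
    (hx : u x ≠ x) (hy : u y ≠ y) : u = swap x y := by
  have h := swap_eq_of_apply_ne hu hx
  obtain ⟨z, hz⟩ : ∃ z, u x = z := ⟨_, rfl⟩
  rw [hz] at h
  have hzy : z = y := by
    by_contra hne
    apply hy
    rw [h]
    exact swap_apply_of_ne_of_ne (Ne.symm hxy) (Ne.symm hne)
  rw [h, hzy]

theorem swap_mul_swap_ne {a b c : α} (hab : a ≠ b) (hac : a ≠ c) (hbc : b ≠ c) :
    swap a b * swap a c ≠ swap a c * swap a b := by
  intro h
  have h2 := congrArg (fun f : Perm α => f b) h
  simp only [Perm.mul_apply] at h2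
  rw [swap_apply_of_ne_of_ne hab.symm hbc, swap_apply_right, swap_apply_left] at h2
  exact hac h2

theorem swap_conj_swap {a b c : α} (_hab : a ≠ b) (hac : a ≠ c) (hbc : b ≠ c) :
    swap a b * swap a c * swap a b = swap b c := by
  have h := Equiv.swap_apply_apply (swap a b) a c
  rw [swap_apply_left, swap_apply_of_ne_of_ne hac.symm hbc.symm, swap_inv] at h
  exact h.symm

theorem exists_two_ne [Fintype α] (h3 : 3 ≤ Fintype.card α) (a : α) :
    ∃ b c : α, a ≠ b ∧ a ≠ c ∧ b ≠ c := by
  have hc : 1 < ({a} : Finset α)ᶜ.card := by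
    rw [Finset.card_compl, Finset.card_singleton]; omega
  obtain ⟨b, hb, c, hc, hbc⟩ := Finset.one_lt_card.mp hc
  rw [Finset.mem_compl, Finset.mem_singleton] at hb hc
  exact ⟨b, c, fun h => hb h.symm, fun h => hc h.symm, hbc⟩

end swaps

section part1

variable {α β : Type*} [DecidableEq α] [DecidableEq β] [Fintype α] [Fintype β]

/-- An injective homomorphism `Perm α →* Perm β` which maps swaps to swaps is induced by a
bijection `α ≃ β` (when `card α = card β ≥ 3`). -/
theorem exists_equiv_of_swap_preserving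
    (φ : Perm α →* Perm β) (hinj : Function.Injective φ)
    (hφ : ∀ σ : Perm α, σ.IsSwap → (φ σ).IsSwap)
    (h3 : 3 ≤ Fintype.card α) (hcard : Fintype.card α = Fintype.card β) :
    ∃ e : α ≃ β, ∀ σ, φ σ = e.permCongr σ := by
  have hsw : ∀ {a b : α}, a ≠ b → (φ (swap a b)).IsSwap := fun h => hφ _ ⟨_, _, h, rfl⟩
  have hnc : ∀ {a b c : α}, a ≠ b → a ≠ c → b ≠ c →
      φ (swap a b) * φ (swap a c) ≠ φ (swap a c) * φ (swap a b) := by
    intro a b c hab hac hbc h
    rw [← map_mul, ← map_mul] at h
    exact swap_mul_swap_ne hab hac hbc (hinj h)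
  have hcommon : ∀ {a b c : α}, a ≠ b → a ≠ c → b ≠ c →
      ∃ x, φ (swap a b) x ≠ x ∧ φ (swap a c) x ≠ x := by
    intro a b c hab hac hbc
    by_contra hcon
    push Not at hcon
    apply hnc hab hac hbc
    have hd : Perm.Disjoint (φ (swap a b)) (φ (swap a c)) := by
      intro x
      by_cases hx : φ (swap a b) x = x
      · exact Or.inl hx
      · exact Or.inr (hcon x hx)
    exact hd.commute.eq
  have hne : ∀ {a b c : α}, b ≠ c → φ (swap a b) ≠ φ (swap a c) := by
    intro a b c hbc h
    have h1 := hinj h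
    have h2 := congrArg (fun f : Perm α => f a) h1
    simp only [swap_apply_left] at h2
    exact hbc h2
  -- the support of `swap x y`
  have hsupp : ∀ {x y w : β}, swap x y w ≠ w → w = x ∨ w = y := by
    intro x y w hw
    by_contra hcon
    push Not at hcon
    exact hw (swap_apply_of_ne_of_ne hcon.1 hcon.2)
  -- key: two stars at `a` sharing the point `x`
  have hkey : ∀ {a b c d : α} {x : β}, a ≠ b → a ≠ c → b ≠ c → a ≠ d → d ≠ b → d ≠ c →
      φ (swap a b) x ≠ x → φ (swap a c) x ≠ x → φ (swap a d) x ≠ x := by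
    intro a b c d x hab hac hbc had hdb hdc hxb hxc hux
    obtain ⟨y, hy⟩ : ∃ y, φ (swap a b) x = y := ⟨_, rfl⟩
    obtain ⟨z, hz⟩ : ∃ z, φ (swap a c) x = z := ⟨_, rfl⟩
    have hsb : φ (swap a b) = swap x y := hy ▸ swap_eq_of_apply_ne (hsw hab) hxb
    have hsc : φ (swap a c) = swap x z := hz ▸ swap_eq_of_apply_ne (hsw hac) hxc
    have hxy : x ≠ y := fun h => hxb (hy.trans h.symm)
    have hxz : x ≠ z := fun h => hxc (hz.trans h.symm)
    have hyz : y ≠ z := by
      intro h
      apply hne hbc (a := a)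
      rw [hsb, hsc, h]
    -- `φ (swap a d)` moves `y`
    have huy : φ (swap a d) y ≠ y := by
      obtain ⟨w, hw1, hw2⟩ := hcommon had hab hdb
      rw [hsb] at hw2
      rcases hsupp hw2 with rfl | rfl
      · exact absurd hux hw1
      · exact hw1
    have huz : φ (swap a d) z ≠ z := by
      obtain ⟨w, hw1, hw2⟩ := hcommon had hac hdc
      rw [hsc] at hw2
      rcases hsupp hw2 with rfl | rfl
      · exact absurd hux hw1
      · exact hw1
    have hu : φ (swap a d) = swap y z :=
      swap_eq_of_apply_ne_of_apply_ne (hsw had) hyz huy huz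
    have h1 : φ (swap a d) = φ (swap b c) := by
      rw [hu, ← swap_conj_swap hxy hxz hyz, ← hsb, ← hsc, ← map_mul, ← map_mul,
        swap_conj_swap hab hac hbc]
    have h2 := congrArg (fun f : Perm α => f a) (hinj h1)
    simp only [swap_apply_left, swap_apply_of_ne_of_ne hab hac] at h2
    exact had h2.symm
  have hstar : ∀ a : α, ∃ x, ∀ b, a ≠ b → φ (swap a b) x ≠ x := by
    intro a
    obtain ⟨b0, c0, hb0, hc0, hbc0⟩ := exists_two_ne h3 a
    obtain ⟨x, hxb, hxc⟩ := hcommon hb0 hc0 hbc0
    refine ⟨x, fun d hd => ?_⟩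
    by_cases hdb : d = b0
    · subst hdb; exact hxb
    by_cases hdc : d = c0
    · subst hdc; exact hxc
    exact hkey hb0 hc0 hbc0 hd hdb hdc hxb hxc
  choose f hf using hstar
  -- `f` is injective
  have hfinj : Function.Injective f := by
    intro a b hfab
    by_contra hab
    obtain ⟨c, hc⟩ : ∃ c, a ≠ c ∧ b ≠ c := by
      obtain ⟨p, q, hp, hq, hpq⟩ := exists_two_ne h3 a
      by_cases hbp : b = p
      · exact ⟨q, hq, fun h => hpq (hbp.symm.trans h)⟩
      · exact ⟨p, hp, hbp⟩
    obtain ⟨hac, hbc⟩ := hc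
    set x := f a with hx
    have h1 : φ (swap a b) x ≠ x := hf a b hab
    have h2 : φ (swap a c) x ≠ x := hf a c hac
    have h3' : φ (swap b c) x ≠ x := hfab ▸ hf b c hbc
    obtain ⟨y, hy⟩ : ∃ y, φ (swap a b) x = y := ⟨_, rfl⟩
    obtain ⟨z, hz⟩ : ∃ z, φ (swap a c) x = z := ⟨_, rfl⟩
    have hsb : φ (swap a b) = swap x y := hy ▸ swap_eq_of_apply_ne (hsw hab) h1
    have hsc : φ (swap a c) = swap x z := hz ▸ swap_eq_of_apply_ne (hsw hac) h2
    have hxy : x ≠ y := fun h => h1 (hy.trans h.symm)
    have hxz : x ≠ z := fun h => h2 (hz.trans h.symm)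
    have hyz : y ≠ z := by
      intro h
      apply hne hbc (a := a)
      rw [hsb, hsc, h]
    have h4 : φ (swap b c) = swap y z := by
      rw [← swap_conj_swap hab hac hbc, map_mul, map_mul, hsb, hsc, swap_conj_swap hxy hxz hyz]
    rw [h4] at h3'
    exact h3' (swap_apply_of_ne_of_ne hxy hxz)
  have hfbij : Function.Bijective f :=
    (Fintype.bijective_iff_injective_and_card f).mpr ⟨hfinj, hcard⟩
  let e : α ≃ β := Equiv.ofBijective f hfbij
  refine ⟨e, ?_⟩
  have hsweq : ∀ a b : α, a ≠ b → φ (swap a b) = swap (f a) (f b) := by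
    intro a b hab
    refine swap_eq_of_apply_ne_of_apply_ne (hsw hab) (fun h => hab (hfinj h)) (hf a b hab) ?_
    rw [swap_comm]
    exact hf b a hab.symm
  -- agreement on the closure of swaps
  let ψ : Perm α →* Perm β := (e.permCongrHom).toMonoidHom
  have hψ : ∀ σ, ψ σ = e.permCongr σ := fun σ => rfl
  have hle : (⊤ : Subgroup (Perm α)) ≤ MonoidHom.eqLocus φ ψ := by
    rw [← Equiv.Perm.closure_isSwap, Subgroup.closure_le]
    rintro σ ⟨a, b, hab, rfl⟩
    change φ (swap a b) = ψ (swap a b)
    rw [hsweq a b hab, hψ, Equiv.permCongr_def, Equiv.symm_trans_swap_trans]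
    rfl
  intro σ
  exact hle (Subgroup.mem_top σ)

end part1

section numeric

open Nat in
theorem num_two_aux : ∀ j : ℕ, 3 ≤ j → 2 ^ j * (j + 1)! < (2 * j)! := by
  intro j hj
  induction j, hj using Nat.le_induction with
  | base => decide
  | succ j hj ih =>
    have e1 : (2 * (j + 1))! = (2 * j + 2) * ((2 * j + 1) * (2 * j)!) := by
      have : 2 * (j + 1) = 2 * j + 1 + 1 := by ring
      rw [this, Nat.factorial_succ, Nat.factorial_succ]
    have e2 : (j + 1 + 1)! = (j + 2) * (j + 1)! := by
      rw [Nat.factorial_succ]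
    rw [e1, e2, pow_succ]
    have h1 : 2 * (j + 2) ≤ (2 * j + 2) * (2 * j + 1) := by nlinarith
    calc 2 ^ j * 2 * ((j + 2) * (j + 1)!) = (2 * (j + 2)) * (2 ^ j * (j + 1)!) := by ring
      _ ≤ ((2 * j + 2) * (2 * j + 1)) * (2 ^ j * (j + 1)!) := Nat.mul_le_mul_right _ h1
      _ < ((2 * j + 2) * (2 * j + 1)) * (2 * j)! := by
          apply Nat.mul_lt_mul_of_pos_left ih
          positivity
      _ = (2 * j + 2) * ((2 * j + 1) * (2 * j)!) := by ring

open Nat in
/-- the numeric heart of `Aut (S_n)`: centralizer orders of involutions -/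
theorem num_two (m k : ℕ) (hk : 1 ≤ k) (h : m ! * 2 ^ k * k ! = (m + 2 * k - 2)! * 2) :
    k = 1 ∨ (m = 0 ∧ k = 3) := by
  have hpos : 0 < m ! := Nat.factorial_pos m
  rcases Nat.lt_or_ge k 4 with hk4 | hk4
  · interval_cases k
    · left; rfl
    · exfalso
      have e : (m + 2 * 2 - 2)! = (m + 2) * ((m + 1) * m !) := by
        have : m + 2 * 2 - 2 = m + 1 + 1 := by omega
        rw [this, Nat.factorial_succ, Nat.factorial_succ]
      rw [e] at h
      have h' : 4 * (m ! * 2) = ((m + 2) * (m + 1)) * (m ! * 2) := by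
        have : (2 : ℕ)! = 2 := rfl
        rw [this] at h
        linarith
      have h'' := Nat.eq_of_mul_eq_mul_right (by positivity) h'
      rcases m with _ | m
      · omega
      · nlinarith
    · have e : (m + 2 * 3 - 2)! = (m + 4) * ((m + 3) * ((m + 2) * ((m + 1) * m !))) := by
        have : m + 2 * 3 - 2 = m + 1 + 1 + 1 + 1 := by omega
        rw [this, Nat.factorial_succ, Nat.factorial_succ, Nat.factorial_succ, Nat.factorial_succ]
      rw [e] at h
      have h' : 24 * (m ! * 2) = ((m + 4) * ((m + 3) * ((m + 2) * (m + 1)))) * (m ! * 2) := by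
        have : (3 : ℕ)! = 6 := rfl
        rw [this] at h
        linarith
      have h'' := Nat.eq_of_mul_eq_mul_right (by positivity) h'
      rcases m with _ | m
      · right; exact ⟨rfl, rfl⟩
      · exfalso
        have a1 : 3 * 2 ≤ (m + 1 + 2) * (m + 1 + 1) := Nat.mul_le_mul (by omega) (by omega)
        have a2 : 4 * (3 * 2) ≤ (m + 1 + 3) * ((m + 1 + 2) * (m + 1 + 1)) :=
          Nat.mul_le_mul (by omega) a1
        have a3 : 5 * (4 * (3 * 2)) ≤ (m + 1 + 4) * ((m + 1 + 3) * ((m + 1 + 2) * (m + 1 + 1))) :=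
          Nat.mul_le_mul (by omega) a2
        omega
  · exfalso
    obtain ⟨j, rfl⟩ : ∃ j, k = j + 1 := ⟨k - 1, by omega⟩
    have hj : 3 ≤ j := by omega
    have h1 := num_two_aux j hj
    have e : m + 2 * (j + 1) - 2 = m + 2 * j := by omega
    rw [e] at h
    have h2 : m ! * (2 * j)! ≤ (m + 2 * j)! :=
      Nat.le_of_dvd (Nat.factorial_pos _) (Nat.factorial_mul_factorial_dvd_factorial_add m (2 * j))
    have h3 : m ! * 2 ^ (j + 1) * (j + 1)! < (m + 2 * j)! * 2 := by
      calc m ! * 2 ^ (j + 1) * (j + 1)! = (m ! * 2) * (2 ^ j * (j + 1)!) := by ring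
        _ < (m ! * 2) * (2 * j)! := Nat.mul_lt_mul_of_pos_left h1 (by positivity)
        _ = (m ! * (2 * j)!) * 2 := by ring
        _ ≤ (m + 2 * j)! * 2 := Nat.mul_le_mul_right _ h2
    omega

end numeric

section part2

theorem card_centralizer_mulEquiv {G H : Type*} [Group G] [Group H] (φ : G ≃* H) (g : G) :
    Nat.card (Subgroup.centralizer {φ g}) = Nat.card (Subgroup.centralizer {g}) := by
  apply Nat.card_congr
  exact {
    toFun := fun x => ⟨φ.symm x, by
      have := x.2
      rw [Subgroup.mem_centralizer_singleton_iff] at this ⊢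
      apply φ.injective
      simp [this]⟩
    invFun := fun x => ⟨φ x, by
      have := x.2
      rw [Subgroup.mem_centralizer_singleton_iff] at this ⊢
      rw [← map_mul, ← map_mul, this]⟩
    left_inv := fun x => by simp
    right_inv := fun x => by simp }

variable {α β : Type*} [DecidableEq α] [DecidableEq β] [Fintype α] [Fintype β]

theorem card_centralizer_replicate_two (g : Perm α) (k : ℕ) (hk : 1 ≤ k)
    (hg : g.cycleType = Multiset.replicate k 2) :
    Nat.card (Subgroup.centralizer {g}) =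
      (Fintype.card α - 2 * k).factorial * 2 ^ k * k.factorial := by
  rw [nat_card_centralizer, hg]
  have h1 : (Multiset.replicate k 2).toFinset = {2} := by
    rw [Multiset.toFinset_replicate, if_neg (by omega)]
  simp [h1, Multiset.count_replicate_self, mul_comm]

theorem IsSwap.cycleType_eq {σ : Perm α} (hσ : σ.IsSwap) : σ.cycleType = Multiset.replicate 1 2 := by
  rw [hσ.isCycle.cycleType, card_support_eq_two.mpr hσ]
  rfl

theorem isSwap_of_cycleType_eq {σ : Perm α} (hσ : σ.cycleType = Multiset.replicate 1 2) :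
    σ.IsSwap := by
  rw [← card_support_eq_two, ← sum_cycleType, hσ]
  rfl

/-- the image of a swap under an isomorphism `Perm α ≃* Perm β` is a swap, or
`card α = 6` and the image is a product of three disjoint swaps. -/
theorem cycleType_map_swap (φ : Perm α ≃* Perm β) (hcard : Fintype.card α = Fintype.card β)
    {σ : Perm α} (hσ : σ.IsSwap) :
    (φ σ).IsSwap ∨ (Fintype.card α = 6 ∧ (φ σ).cycleType = Multiset.replicate 3 2) := by
  have ho : orderOf (φ σ) = 2 := by rw [MulEquiv.orderOf_eq, hσ.orderOf]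
  obtain ⟨k', hk'⟩ := cycleType_prime_order (σ := φ σ) (by rw [ho]; norm_num)
  rw [ho] at hk'
  have hkn : 2 * (k' + 1) ≤ Fintype.card β := by
    have := sum_cycleType_le (φ σ)
    rw [hk', Multiset.sum_replicate, smul_eq_mul] at this
    omega
  have c1 := card_centralizer_replicate_two _ (k' + 1) (by omega) hk'
  have c2 := card_centralizer_replicate_two _ 1 le_rfl (IsSwap.cycleType_eq hσ)
  rw [card_centralizer_mulEquiv φ σ, c2] at c1
  obtain ⟨m, hm⟩ : ∃ m, Fintype.card β = m + 2 * (k' + 1) := ⟨_, (Nat.sub_add_cancel hkn).symm⟩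
  rw [hcard, hm] at c1
  have e1 : m + 2 * (k' + 1) - 2 * (k' + 1) = m := by omega
  have e2 : m + 2 * (k' + 1) - 2 * 1 = m + 2 * (k' + 1) - 2 := by omega
  rw [e1, e2, pow_one, Nat.factorial_one, mul_one] at c1
  rcases num_two m (k' + 1) (by omega) c1.symm with h | ⟨h1, h2⟩
  · left
    apply isSwap_of_cycleType_eq
    rw [hk', h]
  · right
    refine ⟨by omega, ?_⟩
    rw [hk', h2]

end part2

section part3

variable {α : Type*} [DecidableEq α] [Fintype α]

/-- for `card α ≥ 5`, a subgroup of `Perm α` of index `> 2` has trivial normal core -/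
theorem normalCore_eq_bot_of_index (h5 : 5 ≤ Fintype.card α) (H : Subgroup (Perm α))
    (hH : 2 < H.index) : H.normalCore = ⊥ := by
  by_contra hne
  have hnt : Nontrivial H.normalCore := (Subgroup.nontrivial_iff_ne_bot _).mpr hne
  haveI : Nontrivial α := Fintype.one_lt_card_iff_nontrivial.mp (by omega)
  have hle : alternatingGroup α ≤ H.normalCore :=
    alternatingGroup_le_of_normal (by rwa [Nat.card_eq_fintype_card]) hnt
  have hle' : alternatingGroup α ≤ H := hle.trans (Subgroup.normalCore_le H)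
  have hdvd : H.index ∣ (alternatingGroup α).index := Subgroup.index_dvd_of_le hle'
  rw [alternatingGroup.index_eq_two] at hdvd
  have := Nat.le_of_dvd (by norm_num) hdvd
  omega

/-- the coset action `Perm α →* Perm (Perm α ⧸ H)` is bijective when `H` has index
`card α ≥ 5` -/
theorem toPermHom_quotient_bijective (h5 : 5 ≤ Fintype.card α) (H : Subgroup (Perm α))
    (hH : H.index = Fintype.card α) :
    Function.Bijective (MulAction.toPermHom (Perm α) (Perm α ⧸ H)) := by
  have hinj : Function.Injective (MulAction.toPermHom (Perm α) (Perm α ⧸ H)) := by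
    rw [← MonoidHom.ker_eq_bot_iff, ← Subgroup.normalCore_eq_ker]
    exact normalCore_eq_bot_of_index h5 H (by omega)
  haveI : Finite (Perm α ⧸ H) := inferInstance
  apply hinj.bijective_of_nat_card_le
  rw [Nat.card_perm, Nat.card_perm, ← Subgroup.index_eq_card, hH, Nat.card_eq_fintype_card]

end part3

section part4

variable {α : Type*} [DecidableEq α] [Fintype α]

theorem index_stabilizer_perm (x : α) :
    (MulAction.stabilizer (Perm α) x).index = Fintype.card α := by
  rw [MulAction.index_stabilizer_of_transitive, Nat.card_eq_fintype_card]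

/-- a subgroup of a point stabilizer of the same (finite) index is the point stabilizer -/
theorem eq_stabilizer_of_le (H : Subgroup (Perm α)) (x : α)
    (hle : H ≤ MulAction.stabilizer (Perm α) x) (hH : H.index = Fintype.card α) :
    H = MulAction.stabilizer (Perm α) x := by
  apply le_antisymm hle
  rw [← Subgroup.relIndex_eq_one]
  have h1 := Subgroup.relIndex_mul_index hle
  rw [index_stabilizer_perm, hH] at h1
  have hpos : 0 < Fintype.card α := Fintype.card_pos_iff.mpr ⟨x⟩
  exact Nat.eq_of_mul_eq_mul_right hpos (by rw [h1, one_mul])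

/-- if the coset action on `Perm α ⧸ H` is induced by a bijection `α ≃ Perm α ⧸ H`, then `H` is a
point stabilizer -/
theorem eq_stabilizer_of_permCongr (H : Subgroup (Perm α)) (e : α ≃ Perm α ⧸ H)
    (he : ∀ σ, MulAction.toPermHom (Perm α) (Perm α ⧸ H) σ = e.permCongr σ) :
    H = MulAction.stabilizer (Perm α) (e.symm ((1 : Perm α) : Perm α ⧸ H)) := by
  ext g
  rw [MulAction.mem_stabilizer_iff]
  conv_lhs => rw [← MulAction.stabilizer_quotient H, MulAction.mem_stabilizer_iff]
  have h1 : g • ((1 : Perm α) : Perm α ⧸ H) =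
      MulAction.toPermHom (Perm α) (Perm α ⧸ H) g ((1 : Perm α) : Perm α ⧸ H) := rfl
  rw [h1, he, Equiv.permCongr_apply, ← Equiv.eq_symm_apply]
  rfl

/-- Part 3+1: for `card α ≥ 5`, if the coset action of `Perm α` on the cosets of a subgroup `H` of
index `card α` maps swaps to swaps, then `H` is a point stabilizer. -/
theorem exists_eq_stabilizer_of_isSwap (h5 : 5 ≤ Fintype.card α) (H : Subgroup (Perm α))
    (hH : H.index = Fintype.card α) [Fintype (Perm α ⧸ H)] [DecidableEq (Perm α ⧸ H)]
    (hsw : ∀ σ : Perm α, σ.IsSwap → (MulAction.toPermHom (Perm α) (Perm α ⧸ H) σ).IsSwap) :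
    ∃ x : α, H = MulAction.stabilizer (Perm α) x := by
  have hcard : Fintype.card α = Fintype.card (Perm α ⧸ H) := by
    rw [← hH, Subgroup.index_eq_card, Nat.card_eq_fintype_card]
  obtain ⟨e, he⟩ := exists_equiv_of_swap_preserving (MulAction.toPermHom (Perm α) (Perm α ⧸ H))
    (toPermHom_quotient_bijective h5 H hH).1 hsw (by omega) hcard
  exact ⟨_, eq_stabilizer_of_permCongr H e he⟩

end part4

end Cfsg.Agent.Helper96
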