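import Mathlib
import Cfsg.Prelude.Def_Classical

set_option autoImplicit false

namespace Cfsg.Agent.Helper96.OSix

open Matrix Equiv

/-- index type -/
abbrev I6 := Fin 3 ⊕ Fin 3
/-- the field -/
abbrev K := ZMod 2
/-- the orthogonal space -/
abbrev V := I6 → K
/-- the permutation module -/
abbrev W := Fin 8 → K

/-- the quadratic form -/
abbrev Q : V → K := Cfsg.quadFormPlus 3 K

/-- a hyperbolic basis of (even weight vectors)/(all-ones) -/
def Sb : I6 → W
  | Sum.inl 0 => ![1,1,1,1,0,0,0,0]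
  | Sum.inl 1 => ![1,0,0,1,1,1,0,0]
  | Sum.inl 2 => ![0,0,1,1,1,0,1,0]
  | Sum.inr 0 => ![1,1,1,0,1,0,0,0]
  | Sum.inr 1 => ![0,1,0,1,1,1,0,0]
  | Sum.inr 2 => ![1,1,0,0,0,1,1,0]

/-- the dual basis -/
def Db (c : I6) : W := Sb (Sum.swap c)

/-- projection `W → V` -/
def P (y : W) : V := fun c => y ⬝ᵥ Db c

/-- lift `V → W` -/
def L (v : V) : W := fun k => ∑ c, v c * Sb c k

/-- weight of a vector -/
def wtN (y : W) : ℕ := (Finset.univ.filter (fun k => y k = 1)).card

theorem P_L : ∀ v : V, P (L v) = v := by decide +kernel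

theorem sum_L : ∀ v : V, ∑ k, L v k = 0 := by decide +kernel

theorem L_P : ∀ y : W, ∑ k, y k = 0 → L (P y) = y ∨ L (P y) = y + 1 := by decide +kernel

theorem P_add_one : ∀ y : W, P (y + 1) = P y := by decide +kernel

theorem Q_P : ∀ y : W, ∑ k, y k = 0 → Q (P y) = if wtN y % 4 = 2 then 1 else 0 := by
  decide +kernel

/-- the permutation action on `W` -/
def act (σ : Perm (Fin 8)) (y : W) : W := fun k => y (σ⁻¹ k)

/-- the matrix of a permutation -/
def M (σ : Perm (Fin 8)) : Matrix I6 I6 K := fun r c => P (act σ (Sb c)) r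

/-- the bilinear form, as a dual vector -/
def Bd (u : V) : V := fun c => u (Sum.swap c)

/-- the reflection in `u` -/
def refl (u : V) : Matrix I6 I6 K := 1 + vecMulVec u (Bd u)

/-- the image of the weight-two vector `{i, j}` -/
def pairVec (i j : Fin 8) : V := P (Pi.single i 1 + Pi.single j 1)

theorem Q_add : ∀ x y : V, Q (x + y) = Q x + Q y + Bd y ⬝ᵥ x := by decide +kernel

theorem M_swap : ∀ i j : Fin 8, i ≠ j → M (swap i j) = refl (pairVec i j) := by decide +kernel

theorem Q_pairVec : ∀ i j : Fin 8, i ≠ j → Q (pairVec i j) = 1 := by decide +kernel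

theorem exists_pairVec : ∀ u : V, Q u = 1 → ∃ i j : Fin 8, i ≠ j ∧ u = pairVec i j := by
  decide +kernel

theorem exists_Bd_eq_one : ∀ u : V, Q u = 1 → ∃ v : V, Bd u ⬝ᵥ v = 1 := by decide +kernel

theorem exists_add_eq_single : ∀ c : I6, ∃ u w : V, Q u = 1 ∧ Q w = 1 ∧ u + w = Pi.single c 1 := by
  decide +kernel

theorem M_threeCycle_ne_one : M (swap 0 1 * swap 1 2) ≠ 1 := by decide +kernel

end Cfsg.Agent.Helper96.OSix
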