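import Mathlib
import Cfsg.Prelude.Def_Classical
import Cfsg.Agent.Helper96.AutSym
import Cfsg.Agent.Helper96.OSixData

set_option autoImplicit false

namespace Cfsg.Agent.Helper96.OSix

open Matrix Equiv

theorem act_one (y : W) : act 1 y = y := rfl

theorem act_mul (σ τ : Perm (Fin 8)) (y : W) : act (σ * τ) y = act σ (act τ y) := by
  funext k
  simp [act, _root_.mul_inv_rev, Perm.mul_apply]

theorem act_add_one (σ : Perm (Fin 8)) (y : W) : act σ (y + 1) = act σ y + 1 := rfl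

theorem sum_act (σ : Perm (Fin 8)) (y : W) : ∑ k, act σ y k = ∑ k, y k :=
  Equiv.sum_comp σ⁻¹ y

theorem wtN_act (σ : Perm (Fin 8)) (y : W) : wtN (act σ y) = wtN y := by
  unfold wtN act
  apply Finset.card_equiv σ⁻¹
  intro k
  simp

theorem M_mulVec (σ : Perm (Fin 8)) (v : V) : M σ *ᵥ v = P (act σ (L v)) := by
  funext r
  simp only [M, P, L, act, mulVec, dotProduct]
  simp only [Finset.sum_mul]
  rw [Finset.sum_comm]
  apply Finset.sum_congr rfl
  intro c _
  apply Finset.sum_congr rfl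
  intro k _
  ring

/-- key: `P ∘ act σ ∘ L ∘ P = P ∘ act σ` on even weight vectors -/
theorem P_act_L_P (σ : Perm (Fin 8)) (y : W) (hy : ∑ k, y k = 0) :
    P (act σ (L (P y))) = P (act σ y) := by
  rcases L_P y hy with h | h
  · rw [h]
  · rw [h, act_add_one, P_add_one]

theorem M_one : M 1 = 1 := by
  ext r c
  have h := congrFun (M_mulVec 1 (Pi.single c 1)) r
  rw [mulVec_single_one, act_one, P_L] at h
  simp only [Matrix.col_apply] at h
  rw [h, Matrix.one_apply, Pi.single_apply]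

theorem M_mul (σ τ : Perm (Fin 8)) : M (σ * τ) = M σ * M τ := by
  ext r c
  have h1 := congrFun (M_mulVec (σ * τ) (Pi.single c 1)) r
  have h2 : (M σ * M τ) *ᵥ (Pi.single c 1) = P (act (σ * τ) (L (Pi.single c 1))) := by
    rw [← mulVec_mulVec, M_mulVec τ, M_mulVec σ, P_act_L_P, act_mul]
    rw [sum_act]
    exact sum_L _
  rw [mulVec_single_one] at h1 h2
  have h2' := congrFun h2 r
  simp only [Matrix.col_apply] at h1 h2'
  rw [h1, h2']

theorem Q_M_mulVec (σ : Perm (Fin 8)) (v : V) : Q (M σ *ᵥ v) = Q v := by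
  rw [M_mulVec, Q_P _ (by rw [sum_act]; exact sum_L v), wtN_act, ← Q_P _ (sum_L v), P_L]

/-- the group `O⁺₆(2)` -/
abbrev O := Cfsg.isometryGroup K Q

theorem mem_O (g : GL I6 K) : g ∈ O ↔ ∀ u : V, Q ((g : Matrix I6 I6 K) *ᵥ u) = Q u :=
  ⟨fun h u => h u u, fun h u _ => h u⟩

/-- `M` as a monoid hom into matrices -/
def Ψm : Perm (Fin 8) →* Matrix I6 I6 K where
  toFun := M
  map_one' := M_one
  map_mul' := M_mul

/-- `M` as a hom into `O⁺₆(2)` -/
noncomputable def Ψ : Perm (Fin 8) →* O :=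
  (Ψm.toHomUnits).codRestrict O (fun σ => (mem_O _).mpr (fun u => Q_M_mulVec σ u))

theorem Ψ_coe (σ : Perm (Fin 8)) : (((Ψ σ : O) : GL I6 K) : Matrix I6 I6 K) = M σ := rfl

theorem Ψ_injective : Function.Injective Ψ := by
  rw [← MonoidHom.ker_eq_bot_iff]
  by_contra hne
  have hnt : Nontrivial Ψ.ker := (Subgroup.nontrivial_iff_ne_bot _).mpr hne
  have hle : alternatingGroup (Fin 8) ≤ Ψ.ker :=
    Equiv.Perm.alternatingGroup_le_of_normal (by simp) hnt
  have h3 : (swap (0 : Fin 8) 1 * swap 1 2) ∈ alternatingGroup (Fin 8) := by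
    rw [Equiv.Perm.mem_alternatingGroup]
    decide
  have h1 : Ψ (swap (0 : Fin 8) 1 * swap 1 2) = 1 := hle h3
  apply M_threeCycle_ne_one
  rw [← Ψ_coe, h1]
  rfl

/-- the symmetric bilinear form -/
def Bf (x y : V) : K := Bd y ⬝ᵥ x

theorem Bf_eq (x y : V) : Bf x y = Q (x + y) - Q x - Q y := by
  rw [Q_add]; unfold Bf; ring

theorem refl_mulVec (u v : V) : refl u *ᵥ v = v + Bf v u • u := by
  unfold refl Bf
  rw [add_mulVec, one_mulVec, vecMulVec_mulVec, op_smul_eq_smul]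

/-- elements of `O` preserve `Bf` -/
theorem Bf_mulVec {A : Matrix I6 I6 K} (hA : ∀ u : V, Q (A *ᵥ u) = Q u) (x y : V) :
    Bf (A *ᵥ x) (A *ᵥ y) = Bf x y := by
  rw [Bf_eq, Bf_eq, ← mulVec_add, hA, hA, hA]

/-- conjugating a reflection by an isometry -/
theorem conj_refl {A A' : Matrix I6 I6 K} (hA : ∀ u : V, Q (A *ᵥ u) = Q u)
    (h1 : A * A' = 1) (u : V) : A * refl u * A' = refl (A *ᵥ u) := by
  have hcol : ∀ v : V, (A * refl u * A') *ᵥ v = refl (A *ᵥ u) *ᵥ v := by
    intro v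
    rw [← mulVec_mulVec, ← mulVec_mulVec, refl_mulVec, refl_mulVec, mulVec_add, mulVec_smul,
      mulVec_mulVec, h1, one_mulVec]
    congr 2
    rw [← Bf_mulVec hA, mulVec_mulVec, h1, one_mulVec]
  ext r c
  have := congrFun (hcol (Pi.single c 1)) r
  rw [mulVec_single_one, mulVec_single_one] at this
  simpa using this

/-- conjugation by an isometry permutes the images of swaps -/
theorem exists_swap_conj {A A' : Matrix I6 I6 K} (hA : ∀ u : V, Q (A *ᵥ u) = Q u)
    (h1 : A * A' = 1) {x y : Fin 8} (hxy : x ≠ y) :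
    ∃ x' y' : Fin 8, x' ≠ y' ∧ M (swap x' y') = A * M (swap x y) * A' := by
  rw [M_swap x y hxy, conj_refl hA h1]
  obtain ⟨x', y', hne, h⟩ := exists_pairVec (A *ᵥ pairVec x y) (by rw [hA, Q_pairVec x y hxy])
  exact ⟨x', y', hne, by rw [M_swap x' y' hne, h]⟩

theorem M_injective : Function.Injective M := by
  intro σ τ h
  apply Ψ_injective
  apply Subtype.ext
  apply Units.ext
  exact h

theorem exists_conj {A A' : Matrix I6 I6 K} (hA : ∀ u : V, Q (A *ᵥ u) = Q u)
    (h1 : A * A' = 1) (h2 : A' * A = 1) (τ : Perm (Fin 8)) :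
    ∃ τ' : Perm (Fin 8), M τ' = A * M τ * A' := by
  induction τ using Equiv.Perm.swap_induction_on with
  | one => exact ⟨1, by rw [M_one, Matrix.mul_one, h1]⟩
  | swap_mul f x y hxy ih =>
    obtain ⟨f', hf'⟩ := ih
    obtain ⟨x', y', _, hs⟩ := exists_swap_conj hA h1 hxy
    refine ⟨swap x' y' * f', ?_⟩
    rw [M_mul, M_mul, hs, hf']
    calc A * M (swap x y) * A' * (A * M f * A')
        = A * M (swap x y) * (A' * A) * M f * A' := by simp only [Matrix.mul_assoc]
      _ = A * (M (swap x y) * M f) * A' := by rw [h2]; simp only [Matrix.mul_assoc, Matrix.mul_one]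

theorem Q_zero : Q (0 : V) = 0 := by
  simp [Q, Cfsg.quadFormPlus]

/-- an isometry commuting with the reflection in a nonsingular `u` fixes `u` -/
theorem fix_of_comm_refl {C : Matrix I6 I6 K} (hC : ∀ u : V, Q (C *ᵥ u) = Q u) {u : V}
    (hu : Q u = 1) (hcomm : C * refl u = refl u * C) : C *ᵥ u = u := by
  obtain ⟨v, hv⟩ := exists_Bd_eq_one u hu
  have hv' : Bf v u = 1 := hv
  have h1 : C *ᵥ (refl u *ᵥ v) = refl u *ᵥ (C *ᵥ v) := by
    rw [mulVec_mulVec, mulVec_mulVec, hcomm]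
  rw [refl_mulVec, refl_mulVec, hv', one_smul, mulVec_add] at h1
  have h2 : C *ᵥ u = Bf (C *ᵥ v) u • u := add_left_cancel h1
  have hcases : ∀ a : K, a = 0 ∨ a = 1 := by decide
  rcases hcases (Bf (C *ᵥ v) u) with h0 | h0
  · exfalso
    rw [h0, zero_smul] at h2
    have h3 := hC u
    rw [h2, hu, Q_zero] at h3
    exact zero_ne_one h3
  · rw [h0, one_smul] at h2
    exact h2

/-- a matrix fixing all nonsingular vectors is the identity -/
theorem eq_one_of_fix {C : Matrix I6 I6 K} (hfix : ∀ u : V, Q u = 1 → C *ᵥ u = u) : C = 1 := by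
  ext r c
  obtain ⟨u, w, hu, hw, huw⟩ := exists_add_eq_single c
  have h1 : C *ᵥ (u + w) = u + w := by rw [mulVec_add, hfix u hu, hfix w hw]
  rw [huw, mulVec_single_one] at h1
  have h2 := congrFun h1 r
  simp only [Matrix.col_apply] at h2
  rw [h2, Matrix.one_apply, Pi.single_apply]

/-- an isometry commuting with all `M τ` is the identity -/
theorem eq_one_of_comm {C : Matrix I6 I6 K} (hC : ∀ u : V, Q (C *ᵥ u) = Q u)
    (hcomm : ∀ τ, C * M τ = M τ * C) : C = 1 := by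
  apply eq_one_of_fix
  intro u hu
  obtain ⟨x, y, hxy, rfl⟩ := exists_pairVec u hu
  apply fix_of_comm_refl hC hu
  rw [← M_swap x y hxy]
  exact hcomm _

/-- the automorphism of `Perm (Fin 8)` induced by an isometry -/
theorem exists_equiv_conj {A A' : Matrix I6 I6 K} (hA : ∀ u : V, Q (A *ᵥ u) = Q u)
    (h1 : A * A' = 1) (h2 : A' * A = 1) :
    ∃ e : Perm (Fin 8), ∀ τ, A * M τ * A' = M (e * τ * e⁻¹) := by
  choose φ hφ using exists_conj hA h1 h2
  have hφmul : ∀ σ τ, φ (σ * τ) = φ σ * φ τ := by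
    intro σ τ
    apply M_injective
    rw [hφ, M_mul, M_mul, hφ, hφ]
    calc A * (M σ * M τ) * A' = A * M σ * 1 * M τ * A' := by
          simp only [Matrix.mul_assoc, Matrix.one_mul]
      _ = A * M σ * A' * (A * M τ * A') := by rw [← h2]; simp only [Matrix.mul_assoc]
  let φh : Perm (Fin 8) →* Perm (Fin 8) := MonoidHom.mk' φ hφmul
  have hφinj : Function.Injective φh := by
    intro σ τ h
    apply M_injective
    have h' : M (φ σ) = M (φ τ) := congrArg M h
    rw [hφ, hφ] at h'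
    calc M σ = (A' * A) * M σ * (A' * A) := by rw [h2, Matrix.one_mul, Matrix.mul_one]
      _ = A' * (A * M σ * A') * A := by simp only [Matrix.mul_assoc]
      _ = A' * (A * M τ * A') * A := by rw [h']
      _ = (A' * A) * M τ * (A' * A) := by simp only [Matrix.mul_assoc]
      _ = M τ := by rw [h2, Matrix.one_mul, Matrix.mul_one]
  have hφsw : ∀ σ : Perm (Fin 8), σ.IsSwap → (φh σ).IsSwap := by
    rintro σ ⟨x, y, hxy, rfl⟩
    obtain ⟨x', y', hne, hs⟩ := exists_swap_conj hA h1 hxy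
    refine ⟨x', y', hne, ?_⟩
    apply M_injective
    change M (φ (swap x y)) = _
    rw [hφ, hs]
  obtain ⟨e, he⟩ := exists_equiv_of_swap_preserving φh hφinj hφsw (by simp) rfl
  refine ⟨e, fun τ => ?_⟩
  rw [← hφ]
  congr 1
  have h3 : φ τ = e.permCongr τ := he τ
  rw [h3]
  ext k
  simp [Perm.mul_apply]

/-- every isometry is the matrix of a permutation -/
theorem exists_M_eq {A A' : Matrix I6 I6 K} (hA : ∀ u : V, Q (A *ᵥ u) = Q u)
    (h1 : A * A' = 1) (h2 : A' * A = 1) : ∃ σ : Perm (Fin 8), M σ = A := by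
  obtain ⟨e, he⟩ := exists_equiv_conj hA h1 h2
  have hMe : M e⁻¹ * M e = 1 := by rw [← M_mul, inv_mul_cancel, M_one]
  have hMe' : M e * M e⁻¹ = 1 := by rw [← M_mul, mul_inv_cancel, M_one]
  have hC : ∀ u : V, Q ((M e⁻¹ * A) *ᵥ u) = Q u := by
    intro u
    rw [← mulVec_mulVec, Q_M_mulVec, hA]
  have hcomm : ∀ τ, (M e⁻¹ * A) * M τ = M τ * (M e⁻¹ * A) := by
    intro τ
    have h := he τ
    rw [M_mul, M_mul] at h
    have h3 : A * M τ = M e * M τ * M e⁻¹ * A := by
      calc A * M τ = A * M τ * (A' * A) := by rw [h2, Matrix.mul_one]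
        _ = (A * M τ * A') * A := by simp only [Matrix.mul_assoc]
        _ = M e * M τ * M e⁻¹ * A := by rw [h]
    calc (M e⁻¹ * A) * M τ = M e⁻¹ * (A * M τ) := by rw [Matrix.mul_assoc]
      _ = M e⁻¹ * (M e * M τ * M e⁻¹ * A) := by rw [h3]
      _ = (M e⁻¹ * M e) * M τ * (M e⁻¹ * A) := by simp only [Matrix.mul_assoc]
      _ = M τ * (M e⁻¹ * A) := by rw [hMe, Matrix.one_mul]
  have hCone : M e⁻¹ * A = 1 := eq_one_of_comm hC hcomm
  refine ⟨e, ?_⟩
  calc M e = M e * (M e⁻¹ * A) := by rw [hCone, Matrix.mul_one]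
    _ = (M e * M e⁻¹) * A := by rw [Matrix.mul_assoc]
    _ = A := by rw [hMe', Matrix.one_mul]

theorem Ψ_surjective : Function.Surjective Ψ := by
  rintro ⟨g, hg⟩
  have hA := (mem_O g).mp hg
  obtain ⟨σ, hσ⟩ := exists_M_eq (A := (g : Matrix I6 I6 K)) (A' := ((g⁻¹ : GL I6 K) : Matrix I6 I6 K)) hA
    (by rw [← Units.val_mul, mul_inv_cancel]; rfl) (by rw [← Units.val_mul, inv_mul_cancel]; rfl)
  refine ⟨σ, ?_⟩
  apply Subtype.ext
  apply Units.ext
  exact hσ

/-- `O⁺₆(2) ≅ S₈` over `ZMod 2` -/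
noncomputable def mulEquivPerm : O ≃* Perm (Fin 8) :=
  (MulEquiv.ofBijective Ψ ⟨Ψ_injective, Ψ_surjective⟩).symm

end Cfsg.Agent.Helper96.OSix
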