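import Mathlib
import Cfsg.Prelude.Def_Classical
import Cfsg.Agent.Helper96.OSix
import Cfsg.Agent.Helper96.Klein

set_option autoImplicit false

namespace Cfsg.Agent.Helper96.Klein

open Matrix

/-- the field with two elements -/
abbrev K := ZMod 2

theorem quadFormPlus_C2 (A : Matrix (Fin 4) (Fin 4) K) (x : J6 → K) :
    Cfsg.quadFormPlus 3 K (C2 A *ᵥ x) = D A * Cfsg.quadFormPlus 3 K x :=
  Q_C2 A x

theorem exists_quadFormPlus_eq_one : ∃ x : J6 → K, Cfsg.quadFormPlus 3 K x = 1 := by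
  decide +kernel

theorem D_eq_one {A A' : Matrix (Fin 4) (Fin 4) K} (h : A' * A = 1) : D A = 1 := by
  obtain ⟨x, hx⟩ := exists_quadFormPlus_eq_one
  have h1 : Cfsg.quadFormPlus 3 K (C2 (A' * A) *ᵥ x) = D A' * (D A * 1) := by
    rw [C2_mul, ← mulVec_mulVec, quadFormPlus_C2, quadFormPlus_C2, hx]
  rw [h, C2_one, one_mulVec, hx] at h1
  have hcases : ∀ a b : K, 1 = b * (a * 1) → a = 1 := by decide
  exact hcases _ _ h1

/-- `C2` as a monoid hom -/
def C2m : Matrix (Fin 4) (Fin 4) K →* Matrix J6 J6 K where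
  toFun := C2
  map_one' := C2_one
  map_mul' := C2_mul

/-- Plücker coordinates of `a ∧ b` -/
def wedge (a b : Fin 4 → K) : J6 → K := fun I =>
  a (pr I).1 * b (pr I).2 - a (pr I).2 * b (pr I).1

theorem wedge_support : ∀ J : J6, ∀ a b : Fin 4 → K, wedge a b = Pi.single J 1 →
    ∀ k, k ≠ (pr J).1 → k ≠ (pr J).2 → a k = 0 ∧ b k = 0 := by
  decide +kernel

theorem exists_pair : ∀ j k : Fin 4, k ≠ j →
    ∃ J : J6, ((pr J).1 = j ∨ (pr J).2 = j) ∧ k ≠ (pr J).1 ∧ k ≠ (pr J).2 := by
  decide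

theorem exists_pair' : ∀ j : Fin 4, ∃ J : J6, (pr J).1 = j ∨ (pr J).2 = j := by
  decide

theorem pr_ne : ∀ J : J6, (pr J).1 ≠ (pr J).2 := by
  decide

theorem C2_col (A : Matrix (Fin 4) (Fin 4) K) (J : J6) :
    (fun I => C2 A I J) = wedge (fun i => A i (pr J).1) (fun i => A i (pr J).2) := by
  funext I
  simp only [C2, wedge]
  ring

theorem C2_eq_one (A : Matrix (Fin 4) (Fin 4) K) (h : C2 A = 1) : A = 1 := by
  have hoff : ∀ j k : Fin 4, k ≠ j → A k j = 0 := by
    intro j k hkj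
    obtain ⟨J, hJ, h1, h2⟩ := exists_pair j k hkj
    have hw : wedge (fun i => A i (pr J).1) (fun i => A i (pr J).2) = Pi.single J 1 := by
      rw [← C2_col, h]
      funext I
      rw [Matrix.one_apply, Pi.single_apply]
    have h3 := wedge_support J _ _ hw k h1 h2
    rcases hJ with hJ | hJ
    · rw [← hJ]; exact h3.1
    · rw [← hJ]; exact h3.2
  have hmul : ∀ a b : K, a * b - 0 * 0 = 1 → a = 1 ∧ b = 1 := by decide
  have hdiag : ∀ j : Fin 4, A j j = 1 := by
    intro j
    obtain ⟨J, hJ⟩ := exists_pair' j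
    have h1 : C2 A J J = 1 := by rw [h, Matrix.one_apply_eq]
    have hne := pr_ne J
    unfold C2 at h1
    rw [hoff _ _ hne, hoff _ _ hne.symm] at h1
    have h2 := hmul _ _ h1
    rcases hJ with hJ | hJ
    · rw [← hJ]; exact h2.1
    · rw [← hJ]; exact h2.2
  ext i j
  by_cases hij : i = j
  · rw [hij, hdiag, Matrix.one_apply_eq]
  · rw [hoff j i hij, Matrix.one_apply_ne hij]

/-- the Klein correspondence `GL₄(2) → O⁺₆(2)` -/
noncomputable def kleinHom : GL (Fin 4) K →* OSix.O :=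
  (Units.map C2m).codRestrict OSix.O (fun g => (OSix.mem_O _).mpr (fun u => by
    have h1 : (((Units.map C2m g : GL J6 K)) : Matrix J6 J6 K) = C2 (g : Matrix (Fin 4) (Fin 4) K) :=
      rfl
    have h2 : ((g⁻¹ : GL (Fin 4) K) : Matrix (Fin 4) (Fin 4) K) * (g : Matrix (Fin 4) (Fin 4) K) = 1 := by
      rw [← Units.val_mul, inv_mul_cancel]; rfl
    rw [h1]
    change Cfsg.quadFormPlus 3 K _ = Cfsg.quadFormPlus 3 K _
    rw [quadFormPlus_C2, D_eq_one h2, one_mul]))

theorem kleinHom_injective : Function.Injective kleinHom := by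
  rw [injective_iff_map_eq_one]
  intro g hg
  apply Units.ext
  apply C2_eq_one
  have h := congrArg (fun x : OSix.O => ((x : GL J6 K) : Matrix J6 J6 K)) hg
  exact h

/-- the embedding `GL₄(2) → S₈` -/
noncomputable def toPerm : GL (Fin 4) K →* Equiv.Perm (Fin 8) :=
  OSix.mulEquivPerm.toMonoidHom.comp kleinHom

theorem toPerm_injective : Function.Injective toPerm :=
  OSix.mulEquivPerm.injective.comp kleinHom_injective

theorem card_GL : Nat.card (GL (Fin 4) K) = 20160 := by
  rw [Matrix.card_GL_field (𝔽 := K) 4]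
  simp [Fin.prod_univ_four]

theorem range_toPerm : toPerm.range = alternatingGroup (Fin 8) := by
  apply Equiv.Perm.eq_alternatingGroup_of_index_eq_two
  have h1 : Nat.card toPerm.range = 20160 := by
    rw [← card_GL]
    exact (Nat.card_congr (MonoidHom.ofInjective toPerm_injective).toEquiv).symm
  have h2 := toPerm.range.index_mul_card
  rw [h1, Nat.card_eq_fintype_card, Fintype.card_perm, Fintype.card_fin] at h2
  have h3 : (40320 : ℕ) = 2 * 20160 := by norm_num
  have h4 : Nat.factorial 8 = 40320 := by decide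
  rw [h4, h3] at h2
  exact Nat.eq_of_mul_eq_mul_right (by norm_num) h2

/-- `GL₄(2) ≅ A₈` -/
noncomputable def glMulEquiv : GL (Fin 4) K ≃* alternatingGroup (Fin 8) :=
  (MonoidHom.ofInjective toPerm_injective).trans (MulEquiv.subgroupCongr range_toPerm)

end Cfsg.Agent.Helper96.Klein
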