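import Mathlib
import Cfsg.Agent.Helper37.OutPslA

/-!
# The Frobenius automorphism generates the automorphism group of a finite field
-/

set_option autoImplicit false

namespace Cfsg.Agent.Helper96.OutChev

variable {F : Type*} [Field F] [Fintype F] (p : ℕ) [Fact p.Prime] [CharP F p]

theorem frob_pow_apply (k : ℕ) (t : F) : ((frobeniusEquiv F p) ^ k) t = t ^ (p ^ k) := by
  induction k generalizing t with
  | zero => simp
  | succ k ih =>
    rw [pow_succ, RingAut.mul_apply, ih, frobeniusEquiv_apply, frobenius_def, ← pow_mul, pow_succ]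
    congr 1
    ring

theorem frob_pow_card {f : ℕ} (hF : Fintype.card F = p ^ f) : (frobeniusEquiv F p) ^ f = 1 := by
  ext t
  rw [frob_pow_apply, ← hF, FiniteField.pow_card]
  rfl

theorem frob_pow_eq_one_iff {f : ℕ} (hF : Fintype.card F = p ^ f) (k : ℕ) :
    (frobeniusEquiv F p) ^ k = 1 ↔ f ∣ k := by
  classical
  have hp : 2 ≤ p := (Fact.out : p.Prime).two_le
  constructor
  · intro h
    have hr : (frobeniusEquiv F p) ^ (k % f) = 1 := by
      have h1 : (frobeniusEquiv F p) ^ k = ((frobeniusEquiv F p) ^ f) ^ (k / f) * (frobeniusEquiv F p) ^ (k % f) := by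
        rw [← pow_mul, ← pow_add, Nat.div_add_mod]
      rw [h1, frob_pow_card p hF, one_pow, one_mul] at h
      exact h
    by_contra hnd
    have hf0 : 0 < f := by
      rcases Nat.eq_zero_or_pos f with h0 | h0
      · subst h0; exact absurd (zero_dvd_iff.mpr (by
          have : k % 0 = k := Nat.mod_zero k
          rw [this] at hr
          -- `frob^k = 1` with `card F = 1` is impossible
          exfalso
          have : 1 < Fintype.card F := Fintype.one_lt_card
          rw [hF, pow_zero] at this
          omega)) hnd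
      · exact h0
    have hr0 : 0 < k % f := Nat.pos_of_ne_zero (fun h0 => hnd (Nat.dvd_of_mod_eq_zero h0))
    have hrf : k % f < f := Nat.mod_lt _ hf0
    -- a generator of the multiplicative group
    obtain ⟨g, hg⟩ := IsCyclic.exists_generator (α := Fˣ)
    have hord : orderOf g = p ^ f - 1 := by
      rw [orderOf_eq_card_of_forall_mem_zpowers hg, Nat.card_eq_fintype_card, Fintype.card_units, hF]
    have h2 : ((g : F)) ^ (p ^ (k % f)) = g := by
      have := congrArg (fun σ : F ≃+* F => σ (g : F)) hr
      simp only [frob_pow_apply] at this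
      exact this
    have h3 : g ^ (p ^ (k % f) - 1) = 1 := by
      apply Units.ext
      push_cast
      have hpos : 1 ≤ p ^ (k % f) := Nat.one_le_pow _ _ (by omega)
      have : (g : F) ^ (p ^ (k % f) - 1) * g = g := by
        rw [← pow_succ, Nat.sub_add_cancel hpos, h2]
      have hg0 : (g : F) ≠ 0 := Units.ne_zero g
      field_simp at this
      exact this
    have h4 := orderOf_dvd_of_pow_eq_one h3
    rw [hord] at h4
    have h5 : p ^ (k % f) < p ^ f := Nat.pow_lt_pow_right (by omega) hrf
    have h6 : 1 < p ^ (k % f) := Nat.one_lt_pow (by omega) (by omega)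
    have := Nat.le_of_dvd (by omega) h4
    omega
  · rintro ⟨m, rfl⟩
    rw [pow_mul, frob_pow_card p hF, one_pow]

theorem frob_orderOf {f : ℕ} (hF : Fintype.card F = p ^ f) : orderOf (frobeniusEquiv F p) = f := by
  apply Nat.dvd_antisymm
  · exact orderOf_dvd_of_pow_eq_one (frob_pow_card p hF)
  · exact (frob_pow_eq_one_iff p hF _).mp (pow_orderOf_eq_one _)

theorem frob_generates {f : ℕ} (hF : Fintype.card F = p ^ f) (σ : F ≃+* F) :
    ∃ k : ℕ, σ = (frobeniusEquiv F p) ^ k := by
  have hf : 1 ≤ f := by
    rcases Nat.eq_zero_or_pos f with h0 | h0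
    · subst h0
      have : 1 < Fintype.card F := Fintype.one_lt_card
      rw [hF, pow_zero] at this
      omega
    · exact h0
  obtain ⟨hcard, -⟩ := Cfsg.Agent.Helper37.OutPsl.card_ringAut (F := F) (p := p) hF hf
  haveI : Finite (F ≃+* F) := Nat.finite_of_card_ne_zero (by rw [hcard]; omega)
  have htop : Subgroup.zpowers (frobeniusEquiv F p) = ⊤ := by
    apply Subgroup.eq_top_of_card_eq
    rw [Nat.card_zpowers, frob_orderOf p hF, hcard]
  have hmem : σ ∈ Subgroup.zpowers (frobeniusEquiv F p) := by rw [htop]; trivial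
  rw [← mem_powers_iff_mem_zpowers] at hmem
  obtain ⟨k, hk⟩ := hmem
  exact ⟨k, hk.symm⟩

end Cfsg.Agent.Helper96.OutChev
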