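import Cfsg.Agent.Helper96.OutChevA
import Cfsg.Agent.Helper36.RootSep
import Cfsg.Agent.S1037

/-!
# Outer automorphisms of Chevalley groups: automorphisms that are not inner

An inner automorphism preserving `U` and `V` is conjugation by an element of `H`, hence scales every
root subgroup.  So non-trivial field automorphisms, and automorphisms moving a fundamental root
subgroup to another one while preserving `U` and `V`, are not inner.
-/

set_option autoImplicit false

namespace Cfsg.Agent.Helper96.OutChev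

open Cfsg Cfsg.Lie

variable {F : Type*} [Field F] (D : ChevalleyDatum)
  (hD : D ∈ [chevG2, chevB2, chevD4, chevF4, chevE6, chevE7, chevE8])

/-- `θ` maps `U` into `U` -/
def PresU (θ : ↥(D.group F) ≃* ↥(D.group F)) : Prop :=
  ∀ u : ↥(D.group F), (u : GL D.Idx F) ∈ D.posUnipotent F → (θ u : GL D.Idx F) ∈ D.posUnipotent F

/-- `θ` maps `V` into `V` -/
def PresV (θ : ↥(D.group F) ≃* ↥(D.group F)) : Prop :=
  ∀ v : ↥(D.group F), (v : GL D.Idx F) ∈ D.negUnipotent F → (θ v : GL D.Idx F) ∈ D.negUnipotent F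

include hD in
theorem mem_pos_iff (u : ↥(D.group F)) : (u : GL D.Idx F) ∈ D.posUnipotent F ↔
    u ∈ Subgroup.closure {y : ↥(D.group F) | ∃ (r : ℕ) (t : F), D.IsPosRoot r ∧
      ((y : GL D.Idx F) : Matrix D.Idx D.Idx F) = D.x F r t} := by
  constructor
  · intro hu
    have hle : D.posUnipotent F ≤ (Subgroup.closure {y : ↥(D.group F) | ∃ (r : ℕ) (t : F),
        D.IsPosRoot r ∧ ((y : GL D.Idx F) : Matrix D.Idx D.Idx F) = D.x F r t}).map
          (D.group F).subtype := by
      unfold ChevalleyDatum.posUnipotent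
      rw [Subgroup.closure_le]
      rintro g ⟨r, t, hr, hg⟩
      refine ⟨xg D hD r t, Subgroup.subset_closure ⟨r, t, hr, xg_val D hD r t⟩, ?_⟩
      apply Units.ext
      rw [hg]
      exact xg_val D hD r t
    obtain ⟨u', hu', hu'u⟩ := hle hu
    have : u' = u := Subtype.ext hu'u
    rwa [this] at hu'
  · intro hu
    have hle : Subgroup.closure {y : ↥(D.group F) | ∃ (r : ℕ) (t : F), D.IsPosRoot r ∧
        ((y : GL D.Idx F) : Matrix D.Idx D.Idx F) = D.x F r t} ≤
          (D.posUnipotent F).comap (D.group F).subtype := by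
      rw [Subgroup.closure_le]
      rintro y ⟨r, t, hr, hy⟩
      exact Subgroup.subset_closure ⟨r, t, hr, hy⟩
    exact hle hu

include hD in
theorem mem_neg_iff (u : ↥(D.group F)) : (u : GL D.Idx F) ∈ D.negUnipotent F ↔
    u ∈ Subgroup.closure {y : ↥(D.group F) | ∃ (r : ℕ) (t : F), D.IsNegRoot r ∧
      ((y : GL D.Idx F) : Matrix D.Idx D.Idx F) = D.x F r t} := by
  constructor
  · intro hu
    have hle : D.negUnipotent F ≤ (Subgroup.closure {y : ↥(D.group F) | ∃ (r : ℕ) (t : F),
        D.IsNegRoot r ∧ ((y : GL D.Idx F) : Matrix D.Idx D.Idx F) = D.x F r t}).map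
          (D.group F).subtype := by
      unfold ChevalleyDatum.negUnipotent
      rw [Subgroup.closure_le]
      rintro g ⟨r, t, hr, hg⟩
      refine ⟨xg D hD r t, Subgroup.subset_closure ⟨r, t, hr, xg_val D hD r t⟩, ?_⟩
      apply Units.ext
      rw [hg]
      exact xg_val D hD r t
    obtain ⟨u', hu', hu'u⟩ := hle hu
    have : u' = u := Subtype.ext hu'u
    rwa [this] at hu'
  · intro hu
    have hle : Subgroup.closure {y : ↥(D.group F) | ∃ (r : ℕ) (t : F), D.IsNegRoot r ∧
        ((y : GL D.Idx F) : Matrix D.Idx D.Idx F) = D.x F r t} ≤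
          (D.negUnipotent F).comap (D.group F).subtype := by
      rw [Subgroup.closure_le]
      rintro y ⟨r, t, hr, hy⟩
      exact Subgroup.subset_closure ⟨r, t, hr, hy⟩
    exact hle hu

include hD in
/-- an automorphism sending positive root elements to positive root elements preserves `U` -/
theorem presU_of_roots (θ : ↥(D.group F) ≃* ↥(D.group F))
    (h : ∀ (r : ℕ) (t : F), D.IsPosRoot r → ∃ (r' : ℕ) (t' : F), D.IsPosRoot r' ∧
      ((θ (xg D hD r t) : GL D.Idx F) : Matrix D.Idx D.Idx F) = D.x F r' t') : PresU D θ := by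
  intro u hu
  rw [mem_pos_iff D hD] at hu ⊢
  have hle : Subgroup.closure {y : ↥(D.group F) | ∃ (r : ℕ) (t : F), D.IsPosRoot r ∧
      ((y : GL D.Idx F) : Matrix D.Idx D.Idx F) = D.x F r t} ≤
        (Subgroup.closure {y : ↥(D.group F) | ∃ (r : ℕ) (t : F), D.IsPosRoot r ∧
      ((y : GL D.Idx F) : Matrix D.Idx D.Idx F) = D.x F r t}).comap θ.toMonoidHom := by
    rw [Subgroup.closure_le]
    rintro y ⟨r, t, hr, hy⟩
    rw [eq_xg D hD y r t hy]
    obtain ⟨r', t', hr', h'⟩ := h r t hr
    exact Subgroup.subset_closure ⟨r', t', hr', h'⟩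
  exact hle hu

include hD in
/-- an automorphism sending negative root elements to negative root elements preserves `V` -/
theorem presV_of_roots (θ : ↥(D.group F) ≃* ↥(D.group F))
    (h : ∀ (r : ℕ) (t : F), D.IsNegRoot r → ∃ (r' : ℕ) (t' : F), D.IsNegRoot r' ∧
      ((θ (xg D hD r t) : GL D.Idx F) : Matrix D.Idx D.Idx F) = D.x F r' t') : PresV D θ := by
  intro u hu
  rw [mem_neg_iff D hD] at hu ⊢
  have hle : Subgroup.closure {y : ↥(D.group F) | ∃ (r : ℕ) (t : F), D.IsNegRoot r ∧
      ((y : GL D.Idx F) : Matrix D.Idx D.Idx F) = D.x F r t} ≤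
        (Subgroup.closure {y : ↥(D.group F) | ∃ (r : ℕ) (t : F), D.IsNegRoot r ∧
      ((y : GL D.Idx F) : Matrix D.Idx D.Idx F) = D.x F r t}).comap θ.toMonoidHom := by
    rw [Subgroup.closure_le]
    rintro y ⟨r, t, hr, hy⟩
    rw [eq_xg D hD y r t hy]
    obtain ⟨r', t', hr', h'⟩ := h r t hr
    exact Subgroup.subset_closure ⟨r', t', hr', h'⟩
  exact hle hu

/-- the two normaliser statements: `N_G(U) ≤ B` and `N_G(V) ≤ VH` -/
def NormHyp (F : Type*) [Field F] (D : ChevalleyDatum) : Prop :=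
  (∀ g : GL D.Idx F, g ∈ D.group F → (∀ u ∈ D.posUnipotent F, g * u * g⁻¹ ∈ D.posUnipotent F) →
    g ∈ D.borelSubgroup F) ∧
  (∀ g : GL D.Idx F, g ∈ D.group F → (∀ v ∈ D.negUnipotent F, g * v * g⁻¹ ∈ D.negUnipotent F) →
    g ∈ D.negUnipotent F ⊔ D.diagonalSubgroup F)

include hD in
/-- an inner automorphism preserving `U` and `V` scales the root subgroups -/
theorem scales_of_inner (hN : NormHyp F D) (θ : ↥(D.group F) ≃* ↥(D.group F)) (x : ↥(D.group F))
    (hx : ∀ y, θ y = x * y * x⁻¹) (hU : PresU D θ) (hV : PresV D θ) :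
    ∃ χ : ℕ → F, ∀ r < D.nroots, ∀ t : F, θ (xg D hD r t) = xg D hD r (χ r * t) := by
  have hxB : (x : GL D.Idx F) ∈ D.borelSubgroup F := by
    apply hN.1 _ x.2
    intro u hu
    have huG : u ∈ D.group F := by
      have : D.posUnipotent F ≤ D.group F := by
        unfold ChevalleyDatum.posUnipotent ChevalleyDatum.group
        rw [Subgroup.closure_le]
        rintro g ⟨r, t, hr, hg⟩
        have hr' : r < D.nroots := hr.1
        refine Subgroup.subset_closure ⟨⟨r, hr'⟩, t, ?_⟩
        rw [hg]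
        unfold ChevalleyDatum.x
        rw [dif_pos hr']
      exact this hu
    have := hU ⟨u, huG⟩ hu
    rw [hx] at this
    exact this
  have hxV : (x : GL D.Idx F) ∈ D.negUnipotent F ⊔ D.diagonalSubgroup F := by
    apply hN.2 _ x.2
    intro u hu
    have huG : u ∈ D.group F := by
      have : D.negUnipotent F ≤ D.group F := by
        unfold ChevalleyDatum.negUnipotent ChevalleyDatum.group
        rw [Subgroup.closure_le]
        rintro g ⟨r, t, hr, hg⟩
        have hr' : r < D.nroots := hr.1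
        refine Subgroup.subset_closure ⟨⟨r, hr'⟩, t, ?_⟩
        rw [hg]
        unfold ChevalleyDatum.x
        rw [dif_pos hr']
      exact this hu
    have := hV ⟨u, huG⟩ hu
    rw [hx] at this
    exact this
  have hxH : (x : GL D.Idx F) ∈ D.diagonalSubgroup F := by
    rw [← (Cfsg.Agent.S1037.result (F := F) D hD).2]
    exact ⟨hxB, hxV⟩
  obtain ⟨χ, -, -, hc⟩ := Cfsg.Agent.Helper18.diagonalSubgroup_char D hD _ hxH
  refine ⟨χ, fun r hr t => ?_⟩
  rw [hx]
  apply Subtype.ext
  have := hc r hr t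
  show (x : GL D.Idx F) * Cfsg.Agent.Helper18.xGL D F r t * (x : GL D.Idx F)⁻¹
    = Cfsg.Agent.Helper18.xGL D F r (χ r * t)
  rw [this]
  group

include hD in
/-- a field automorphism that is inner is trivial -/
theorem fieldAut_not_inner (hN : NormHyp F D) (σ : F ≃+* F) (x : ↥(D.group F))
    (hx : ∀ y, Cfsg.Agent.Helper36.ChevAut.fieldAut D
      (Cfsg.Agent.Helper40.ChevAdd.addOK_of_mem hD) σ y = x * y * x⁻¹) : σ = RingEquiv.refl F := by
  set hadd := Cfsg.Agent.Helper40.ChevAdd.addOK_of_mem hD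
  have hval : ∀ (r : ℕ) (t : F), ((Cfsg.Agent.Helper36.ChevAut.fieldAut D hadd σ (xg D hD r t) :
      GL D.Idx F) : Matrix D.Idx D.Idx F) = D.x F r (σ t) := fun r t =>
    Cfsg.Agent.Helper36.ChevAut.fieldAut_x D hadd σ _ r t (xg_val D hD r t)
  have hU : PresU D (Cfsg.Agent.Helper36.ChevAut.fieldAut D hadd σ) :=
    presU_of_roots D hD _ (fun r t hr => ⟨r, σ t, hr, hval r t⟩)
  have hV : PresV D (Cfsg.Agent.Helper36.ChevAut.fieldAut D hadd σ) :=
    presV_of_roots D hD _ (fun r t hr => ⟨r, σ t, hr, hval r t⟩)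
  obtain ⟨χ, hχ⟩ := scales_of_inner D hD hN _ x hx hU hV
  -- use the root `0`
  have h0 : 0 < D.nroots := by
    simp only [List.mem_cons, List.not_mem_nil, or_false] at hD
    rcases hD with rfl | rfl | rfl | rfl | rfl | rfl | rfl <;> decide
  have key : ∀ t : F, σ t = χ 0 * t := by
    intro t
    have h1 := hχ 0 h0 t
    have h2 := congrArg (fun z : ↥(D.group F) => ((z : GL D.Idx F) : Matrix D.Idx D.Idx F)) h1
    simp only [hval, xg_val] at h2
    exact x_injective D hD 0 h0 _ _ h2
  have h1 : χ 0 = 1 := by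
    have := key 1
    rw [map_one, mul_one] at this
    exact this.symm
  ext t
  rw [key t, h1, one_mul]
  rfl

include hD in
/-- an automorphism preserving `U` and `V` and moving the root subgroup of a positive root `r` to
the root subgroup of another root `s` is not inner -/
theorem not_inner_of_moves (hN : NormHyp F D) (θ : ↥(D.group F) ≃* ↥(D.group F))
    (hU : PresU D θ) (hV : PresV D θ) (r s : ℕ) (hr : D.IsPosRoot r) (hs : s < D.nroots)
    (hrs : r ≠ s)
    (hmove : ((θ (xg D hD r 1) : GL D.Idx F) : Matrix D.Idx D.Idx F) = D.x F s 1)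
    (x : ↥(D.group F)) (hx : ∀ y, θ y = x * y * x⁻¹) : False := by
  obtain ⟨χ, hχ⟩ := scales_of_inner D hD hN θ x hx hU hV
  have h1 := hχ r hr.1 1
  have h2 := congrArg (fun z : ↥(D.group F) => ((z : GL D.Idx F) : Matrix D.Idx D.Idx F)) h1
  simp only [hmove, xg_val] at h2
  -- `x_s(1) = x_r(χ r)` with `r ≠ s`
  have h3 := Cfsg.Agent.Helper36.RootSep.eq_zero_of_x_eq (F := F) D hD s r hs hr (Ne.symm hrs) 1
    (χ r * 1) h2
  exact one_ne_zero h3

end Cfsg.Agent.Helper96.OutChev
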