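import Cfsg.Agent.Helper96.StemBound

/-!
# More tools for bounding kernels of stem extensions

* derived subgroup of the preimage of an abelian subgroup generated by two elements;
* a surjection from `Multiplicative (ZMod n)` onto a kernel contained in a cyclic subgroup.
-/

set_option autoImplicit false

namespace Cfsg.Agent.Helper96.StemBound

open Subgroup
open scoped commutatorElement

universe u v

variable {Γ : Type u} {G : Type v} [Group Γ] [Group G]

/-- If the commutators of the elements of `S` lie in a central subgroup `D`, so do all commutators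
of elements of the subgroup generated by `S`. -/
theorem commutator_closure_le_of_central (S : Set Γ) (D : Subgroup Γ) (hD : D ≤ Subgroup.center Γ)
    (hS : ∀ a ∈ S, ∀ b ∈ S, ⁅a, b⁆ ∈ D) : ⁅closure S, closure S⁆ ≤ D := by
  have : D.Normal := by
    constructor
    intro n hn g
    have h := Subgroup.mem_center_iff.mp (hD hn) g
    have e : g * n * g⁻¹ = n := by rw [h]; group
    rw [e]; exact hn
  have hcomm : ∀ a ∈ (QuotientGroup.mk' D) '' S, ∀ b ∈ (QuotientGroup.mk' D) '' S,
      a * b = b * a := by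
    rintro _ ⟨a, ha, rfl⟩ _ ⟨b, hb, rfl⟩
    rw [← commutatorElement_eq_one_iff_mul_comm, ← map_commutatorElement]
    exact (QuotientGroup.eq_one_iff _).mpr (hS a ha b hb)
  have hc := Subgroup.isMulCommutative_closure hcomm
  have h1 : ⁅closure ((QuotientGroup.mk' D) '' S), closure ((QuotientGroup.mk' D) '' S)⁆ = ⊥ := by
    rw [Subgroup.commutator_eq_bot_iff_le_centralizer]
    intro a ha
    rw [Subgroup.mem_centralizer_iff]
    intro b hb
    have := hc.is_comm.comm ⟨b, hb⟩ ⟨a, ha⟩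
    exact congrArg Subtype.val this
  rw [← MonoidHom.map_closure, ← Subgroup.map_commutator, Subgroup.map_eq_bot_iff,
    QuotientGroup.ker_mk'] at h1
  exact h1

/-- The derived subgroup of the preimage of `{σ x ^ i * σ y ^ j}`, for commuting `σ x`, `σ y`,
is inside `⟨⁅x, y⁆⟩`. -/
theorem commutator_comap_le_zpowers_of_comm (σ : Γ →* G) (hσ : Cfsg.IsStemExtension σ) (x y : Γ)
    (P : Subgroup G) (hcomm : σ x * σ y = σ y * σ x)
    (hP : ∀ g ∈ P, ∃ i j : ℕ, g = σ x ^ i * σ y ^ j) :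
    ⁅P.comap σ, P.comap σ⁆ ≤ zpowers ⁅x, y⁆ := by
  have hd : ⁅x, y⁆ ∈ σ.ker := by
    rw [MonoidHom.mem_ker, map_commutatorElement, commutatorElement_eq_one_iff_mul_comm]
    exact hcomm
  have hD : zpowers ⁅x, y⁆ ≤ Subgroup.center Γ := by
    rw [Subgroup.zpowers_le]
    exact hσ.2.1 hd
  have hle : P.comap σ ≤ closure ({x, y} ∪ (σ.ker : Set Γ)) := by
    intro h hh
    obtain ⟨i, j, hij⟩ := hP (σ h) hh
    have hz : (x ^ i * y ^ j)⁻¹ * h ∈ σ.ker := by
      rw [MonoidHom.mem_ker, map_mul, map_inv, map_mul, map_pow, map_pow, ← hij, inv_mul_cancel]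
    have e : h = x ^ i * y ^ j * ((x ^ i * y ^ j)⁻¹ * h) := by group
    rw [e]
    refine mul_mem (mul_mem (pow_mem (subset_closure ?_) i) (pow_mem (subset_closure ?_) j))
      (subset_closure (Or.inr hz))
    · left; simp
    · left; simp
  refine le_trans (Subgroup.commutator_mono hle hle) ?_
  apply commutator_closure_le_of_central _ _ hD
  have hker : ∀ z ∈ σ.ker, ∀ g : Γ, ⁅z, g⁆ = 1 ∧ ⁅g, z⁆ = 1 := by
    intro z hz g
    have h1 := commElt_ker σ hσ hz g
    refine ⟨h1, ?_⟩
    rw [← commutatorElement_inv, h1, inv_one]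
  rintro a (ha | ha) b (hb | hb)
  · rcases ha with rfl | rfl <;> rcases hb with rfl | rfl
    · rw [commutatorElement_self]; exact one_mem _
    · exact Subgroup.mem_zpowers _
    · rw [← commutatorElement_inv b a]; exact inv_mem (Subgroup.mem_zpowers _)
    · rw [commutatorElement_self]; exact one_mem _
  · rw [(hker b hb a).2]; exact one_mem _
  · rw [(hker a ha b).1]; exact one_mem _
  · rw [(hker a ha b).1]; exact one_mem _

/-- `σ x ^ p = 1` and `σ x`, `σ y` commuting force `⁅x, y⁆ ^ p = 1`. -/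
theorem commElt_pow_eq_one_of_comm (σ : Γ →* G) (hσ : Cfsg.IsStemExtension σ) (x y : Γ)
    (hcomm : σ x * σ y = σ y * σ x) (p : ℕ) (hp : σ x ^ p = 1) : ⁅x, y⁆ ^ p = 1 := by
  apply commElt_pow_eq_one_of_pow σ hσ x y _ p hp
  rw [← hcomm, mul_inv_cancel_right]
  exact Subgroup.mem_zpowers _

/-- A subgroup inside `⟨z₀⟩` with `z₀ ^ n = 1` is a quotient of `Multiplicative (ZMod n)`. -/
theorem exists_surjective_of_le_zpowers (n : ℕ) (K : Subgroup Γ) (z₀ : Γ) (hz₀ : z₀ ∈ K)
    (hn : z₀ ^ n = 1) (hK : K ≤ zpowers z₀) :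
    ∃ π : Multiplicative (ZMod n) →* K, Function.Surjective π := by
  let f : ℤ →+ Additive K := zmultiplesHom _ (Additive.ofMul (⟨z₀, hz₀⟩ : K))
  have hf : f n = 0 := by
    show (n : ℤ) • Additive.ofMul (⟨z₀, hz₀⟩ : K) = 0
    rw [natCast_zsmul, ← ofMul_pow]
    have : (⟨z₀, hz₀⟩ : K) ^ n = 1 := by
      apply Subtype.ext
      rw [Subgroup.coe_pow]
      exact hn
    rw [this]; rfl
  refine ⟨AddMonoidHom.toMultiplicativeLeft (ZMod.lift n ⟨f, hf⟩), ?_⟩
  rintro ⟨z, hz⟩
  obtain ⟨k, hk⟩ := Subgroup.mem_zpowers_iff.mp (hK hz)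
  refine ⟨Multiplicative.ofAdd (k : ZMod n), ?_⟩
  show Additive.toMul ((ZMod.lift n ⟨f, hf⟩) (k : ZMod n)) = _
  rw [ZMod.lift_coe]
  apply Subtype.ext
  show ((Additive.toMul (k • Additive.ofMul (⟨z₀, hz₀⟩ : K)) : K) : Γ) = z
  rw [← ofMul_zpow, toMul_ofMul, Subgroup.coe_zpow]
  exact hk

end Cfsg.Agent.Helper96.StemBound
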