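import Mathlib
import Cfsg.Prelude.Def_Classical

set_option autoImplicit false

namespace Cfsg.Agent.Helper96

open Matrix

section IsomMap

variable {ι : Type} [Fintype ι] [DecidableEq ι] {R : Type*} {S : Type*} [Field R] [Field S]

theorem mem_isometryGroup_iff (Q : (ι → R) → R) (g : GL ι R) :
    g ∈ Cfsg.isometryGroup R Q ↔ ∀ u : ι → R, Q ((g : Matrix ι ι R) *ᵥ u) = Q u :=
  ⟨fun h u => h u u, fun h u _ => h u⟩

/-- the isomorphism `GL ι R ≃* GL ι S` induced by a ring isomorphism -/
noncomputable def glMapEquiv (e : R ≃+* S) : GL ι R ≃* GL ι S where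
  toFun := Matrix.GeneralLinearGroup.map (e : R →+* S)
  invFun := Matrix.GeneralLinearGroup.map (e.symm : S →+* R)
  left_inv g := by
    apply Units.ext
    ext i j
    simp [Matrix.GeneralLinearGroup.map_apply]
  right_inv g := by
    apply Units.ext
    ext i j
    simp [Matrix.GeneralLinearGroup.map_apply]
  map_mul' := map_mul _

theorem glMapEquiv_mulVec (e : R ≃+* S) (g : GL ι R) (u : ι → R) :
    ((glMapEquiv e g : GL ι S) : Matrix ι ι S) *ᵥ (fun i => e (u i)) =
      fun i => e (((g : Matrix ι ι R) *ᵥ u) i) := by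
  have h := RingHom.map_mulVec (e : R →+* S) (g : Matrix ι ι R) u
  funext i
  have hi := h i
  simp only [RingHom.coe_coe] at hi
  rw [hi]
  rfl

theorem glMapEquiv_mem (e : R ≃+* S) (QR : (ι → R) → R) (QS : (ι → S) → S)
    (hQ : ∀ w : ι → R, QS (fun i => e (w i)) = e (QR w)) (g : GL ι R)
    (hg : g ∈ Cfsg.isometryGroup R QR) : glMapEquiv e g ∈ Cfsg.isometryGroup S QS := by
  rw [mem_isometryGroup_iff] at hg ⊢
  intro u
  have hu : u = fun i => e (e.symm (u i)) := by
    funext i
    simp
  rw [hu, glMapEquiv_mulVec, hQ, hQ, hg]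

/-- a ring isomorphism compatible with the forms induces an isomorphism of isometry groups -/
noncomputable def isometryGroupMapEquiv (e : R ≃+* S) (QR : (ι → R) → R) (QS : (ι → S) → S)
    (hQ : ∀ w : ι → R, QS (fun i => e (w i)) = e (QR w)) :
    Cfsg.isometryGroup R QR ≃* Cfsg.isometryGroup S QS where
  toFun g := ⟨glMapEquiv e g.1, glMapEquiv_mem e QR QS hQ g.1 g.2⟩
  invFun g := ⟨(glMapEquiv e).symm g.1, by
    have hQ' : ∀ w : ι → S, QR (fun i => e.symm (w i)) = e.symm (QS w) := by
      intro w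
      apply e.injective
      rw [← hQ]
      simp
    exact glMapEquiv_mem e.symm QS QR hQ' g.1 g.2⟩
  left_inv g := by
    apply Subtype.ext
    simp
  right_inv g := by
    apply Subtype.ext
    simp
  map_mul' g h := by
    apply Subtype.ext
    simp

theorem quadFormPlus_map (e : R ≃+* S) (m : ℕ) (w : Fin m ⊕ Fin m → R) :
    Cfsg.quadFormPlus m S (fun i => e (w i)) = e (Cfsg.quadFormPlus m R w) := by
  simp [Cfsg.quadFormPlus, map_sum, map_mul]

/-- transport of the `+`-type orthogonal group along a ring isomorphism -/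
noncomputable def isometryGroupPlusMapEquiv (e : R ≃+* S) (m : ℕ) :
    Cfsg.isometryGroup R (Cfsg.quadFormPlus m R) ≃* Cfsg.isometryGroup S (Cfsg.quadFormPlus m S) :=
  isometryGroupMapEquiv e _ _ (quadFormPlus_map e m)

end IsomMap

end Cfsg.Agent.Helper96
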