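import Mathlib
import Cfsg.Prelude.Def_Classical
import Cfsg.Agent.Helper96.Klein
import Cfsg.Agent.Helper96.IsomMap

set_option autoImplicit false

namespace Cfsg.Agent.Helper96.Klein

open Matrix

section CRing

variable {R : Type*} [CommRing R]

theorem D_eq_det (A : Matrix (Fin 4) (Fin 4) R) : D A = A.det := by
  rw [Matrix.det_succ_row_zero]
  simp only [D, C2, Fintype.sum_sum_type, Fin.sum_univ_three, pr, Sum.swap_inl, Sum.swap_inr,
    Fin.sum_univ_four, Matrix.det_fin_three, Matrix.submatrix_apply, Fin.succAbove]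
  simp
  ring

/-- `C2` as a monoid hom -/
def C2hom : Matrix (Fin 4) (Fin 4) R →* Matrix J6 J6 R where
  toFun := C2
  map_one' := C2_one
  map_mul' := C2_mul

theorem pr_injective : ∀ I J : J6, pr I = pr J → I = J := by decide

theorem pr_swap_ne : ∀ I J : J6, ((pr I).2, (pr I).1) ≠ pr J := by decide

theorem exists_pr_eq : ∀ x y : Fin 4, x ≠ y → ∃ I : J6, pr I = (x, y) ∨ pr I = (y, x) := by decide

theorem exists_pr_avoid : ∀ j k : Fin 4, k ≠ j →
    ∃ J : J6, ((pr J).1 = j ∨ (pr J).2 = j) ∧ k ≠ (pr J).1 ∧ k ≠ (pr J).2 := by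
  decide

theorem pr_fst_ne_snd : ∀ J : J6, (pr J).1 ≠ (pr J).2 := by decide

/-- if `C2 A = 1`, the `2 × 2` minors of `A` in columns `pr J` vanish on rows `≠ ± pr J` -/
theorem minor_eq_zero {A : Matrix (Fin 4) (Fin 4) R} (h : C2 A = 1) (J : J6) (x y : Fin 4)
    (hne : ¬ ((x = (pr J).1 ∧ y = (pr J).2) ∨ (x = (pr J).2 ∧ y = (pr J).1))) :
    A x (pr J).1 * A y (pr J).2 - A x (pr J).2 * A y (pr J).1 = 0 := by
  by_cases hxy : x = y
  · rw [hxy]; ring
  obtain ⟨I, hI | hI⟩ := exists_pr_eq x y hxy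
  · have hIJ : I ≠ J := by
      rintro rfl
      apply hne
      left
      rw [hI]
      exact ⟨rfl, rfl⟩
    have h1 : C2 A I J = 0 := by rw [h, Matrix.one_apply_ne hIJ]
    unfold C2 at h1
    rw [hI] at h1
    exact h1
  · have hIJ : I ≠ J := by
      rintro rfl
      apply hne
      right
      rw [hI]
      exact ⟨rfl, rfl⟩
    have h1 : C2 A I J = 0 := by rw [h, Matrix.one_apply_ne hIJ]
    unfold C2 at h1
    rw [hI] at h1
    simp only at h1
    linear_combination -h1

theorem offdiag_of_C2_eq_one {A : Matrix (Fin 4) (Fin 4) R} (h : C2 A = 1) (j k : Fin 4)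
    (hkj : k ≠ j) : A k j = 0 := by
  obtain ⟨J, hJ, hk1, hk2⟩ := exists_pr_avoid j k hkj
  have hne := pr_fst_ne_snd J
  have hJJ : A (pr J).1 (pr J).1 * A (pr J).2 (pr J).2 - A (pr J).1 (pr J).2 * A (pr J).2 (pr J).1
      = 1 := by
    have h1 : C2 A J J = 1 := by rw [h, Matrix.one_apply_eq]
    exact h1
  have m1 := minor_eq_zero h J k (pr J).2 (by
    rintro (⟨h1, _⟩ | ⟨_, h2⟩)
    · exact hk1 h1
    · exact hne h2.symm)
  have m2 := minor_eq_zero h J k (pr J).1 (by
    rintro (⟨h1, _⟩ | ⟨h1, _⟩)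
    · exact hk1 h1
    · exact hk2 h1)
  rcases hJ with hJ | hJ
  · rw [← hJ]
    linear_combination (-(A k (pr J).1)) * hJJ + A (pr J).1 (pr J).1 * m1 - A (pr J).2 (pr J).1 * m2
  · rw [← hJ]
    linear_combination (-(A k (pr J).2)) * hJJ + A (pr J).1 (pr J).2 * m1 - A (pr J).2 (pr J).2 * m2

theorem diag_of_C2_eq_one {A : Matrix (Fin 4) (Fin 4) R} (h : C2 A = 1) (J : J6) :
    A (pr J).1 (pr J).1 * A (pr J).2 (pr J).2 = 1 := by
  have h1 : C2 A J J = 1 := by rw [h, Matrix.one_apply_eq]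
  unfold C2 at h1
  rw [offdiag_of_C2_eq_one h _ _ (pr_fst_ne_snd J), zero_mul, sub_zero] at h1
  exact h1

/-- `C2 A = 1` forces `A` to be a scalar `c` with `c² = 1` -/
theorem eq_scalar_of_C2_eq_one {A : Matrix (Fin 4) (Fin 4) R} (h : C2 A = 1) :
    ∃ c : R, c * c = 1 ∧ A = Matrix.scalar (Fin 4) c := by
  have h01 : A 0 0 * A 1 1 = 1 := diag_of_C2_eq_one h (Sum.inl 0)
  have h02 : A 0 0 * A 2 2 = 1 := diag_of_C2_eq_one h (Sum.inl 1)
  have h03 : A 0 0 * A 3 3 = 1 := diag_of_C2_eq_one h (Sum.inl 2)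
  have h12 : A 1 1 * A 2 2 = 1 := diag_of_C2_eq_one h (Sum.inr 2)
  have h31 : A 3 3 * A 1 1 = 1 := diag_of_C2_eq_one h (Sum.inr 1)
  have e1 : A 1 1 = A 0 0 := by linear_combination (-(A 1 1)) * h02 + (A 0 0) * h12
  have e2 : A 2 2 = A 0 0 := by linear_combination (-(A 2 2)) * h01 + (A 0 0) * h12
  have e3 : A 3 3 = A 0 0 := by linear_combination (-(A 3 3)) * h01 + (A 0 0) * h31
  refine ⟨A 0 0, by rw [e1] at h01; exact h01, ?_⟩
  ext i j
  by_cases hij : i = j
  · subst hij
    rw [Matrix.scalar_apply, Matrix.diagonal_apply_eq]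
    fin_cases i
    · rfl
    · exact e1
    · exact e2
    · exact e3
  · rw [Matrix.scalar_apply, Matrix.diagonal_apply_ne _ hij, offdiag_of_C2_eq_one h j i hij]

end CRing

section Field

variable {F : Type*} [Field F]

/-- the orthogonal group `O⁺₆(F)` -/
abbrev OF (F : Type*) [Field F] := Cfsg.isometryGroup F (Cfsg.quadFormPlus 3 F)

theorem quadFormPlus_C2_det (A : Matrix (Fin 4) (Fin 4) F) (x : J6 → F) :
    Cfsg.quadFormPlus 3 F (C2 A *ᵥ x) = A.det * Cfsg.quadFormPlus 3 F x := by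
  rw [← D_eq_det]
  exact Q_C2 A x

/-- the Klein correspondence `SL₄(F) → O⁺₆(F)` -/
noncomputable def slHom : Matrix.SpecialLinearGroup (Fin 4) F →* OF F :=
  ((Units.map (C2hom (R := F))).comp Matrix.SpecialLinearGroup.toGL).codRestrict (OF F)
    (fun g => by
      rw [Cfsg.Agent.Helper96.mem_isometryGroup_iff]
      intro u
      have h1 : ((((Units.map (C2hom (R := F))).comp Matrix.SpecialLinearGroup.toGL) g : GL J6 F) :
          Matrix J6 J6 F) = C2 (g : Matrix (Fin 4) (Fin 4) F) := rfl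
      rw [h1, quadFormPlus_C2_det, g.2, one_mul])

theorem slHom_coe (g : Matrix.SpecialLinearGroup (Fin 4) F) :
    (((slHom g : OF F) : GL J6 F) : Matrix J6 J6 F) = C2 (g : Matrix (Fin 4) (Fin 4) F) := rfl

theorem mem_ker_slHom (g : Matrix.SpecialLinearGroup (Fin 4) F) :
    g ∈ (slHom (F := F)).ker ↔ C2 (g : Matrix (Fin 4) (Fin 4) F) = 1 := by
  rw [MonoidHom.mem_ker]
  constructor
  · intro h
    rw [← slHom_coe, h]
    rfl
  · intro h
    apply Subtype.ext
    apply Units.ext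
    rw [slHom_coe, h]
    rfl

theorem ker_cases (g : Matrix.SpecialLinearGroup (Fin 4) F) (hg : g ∈ (slHom (F := F)).ker) :
    (g : Matrix (Fin 4) (Fin 4) F) = 1 ∨ (g : Matrix (Fin 4) (Fin 4) F) = -1 := by
  rw [mem_ker_slHom] at hg
  obtain ⟨c, hc, hA⟩ := eq_scalar_of_C2_eq_one hg
  have h1 : (c - 1) * (c + 1) = 0 := by linear_combination hc
  rcases mul_eq_zero.mp h1 with h | h
  · left
    rw [hA, sub_eq_zero.mp h, map_one]
  · right
    rw [hA, eq_neg_of_add_eq_zero_left h, map_neg, map_one]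

theorem ker_le_center : (slHom (F := F)).ker ≤ Subgroup.center (Matrix.SpecialLinearGroup (Fin 4) F) := by
  intro g hg
  rw [Subgroup.mem_center_iff]
  intro h
  apply Subtype.ext
  rw [Matrix.SpecialLinearGroup.coe_mul, Matrix.SpecialLinearGroup.coe_mul]
  rcases ker_cases g hg with h1 | h1
  · rw [h1, Matrix.mul_one, Matrix.one_mul]
  · rw [h1, Matrix.mul_neg, Matrix.neg_mul, Matrix.mul_one, Matrix.one_mul]

theorem card_ker [Finite F] :
    Nat.card (slHom (F := F)).ker = 1 ∨ Nat.card (slHom (F := F)).ker = 2 := by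
  classical
  have hfin : Finite (Matrix.SpecialLinearGroup (Fin 4) F) :=
    Finite.of_injective (fun g => (g : Matrix (Fin 4) (Fin 4) F)) Subtype.val_injective
  let f : (slHom (F := F)).ker → Bool := fun g =>
    if ((g : Matrix.SpecialLinearGroup (Fin 4) F) : Matrix (Fin 4) (Fin 4) F) = 1 then true else false
  have hf : Function.Injective f := by
    intro g g' h
    apply Subtype.ext
    apply Subtype.ext
    rcases ker_cases g.1 g.2 with h1 | h1 <;> rcases ker_cases g'.1 g'.2 with h2 | h2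
    · rw [h1, h2]
    · by_cases h3 : ((g' : Matrix.SpecialLinearGroup (Fin 4) F) : Matrix (Fin 4) (Fin 4) F) = 1
      · rw [h1, h3]
      · simp only [f, h1, h3, if_true, if_false] at h
        exact absurd h (by simp)
    · by_cases h3 : ((g : Matrix.SpecialLinearGroup (Fin 4) F) : Matrix (Fin 4) (Fin 4) F) = 1
      · rw [h2, h3]
      · simp only [f, h2, h3, if_true, if_false] at h
        exact absurd h (by simp)
    · rw [h1, h2]
  have h1 : Nat.card (slHom (F := F)).ker ≤ Nat.card Bool := Nat.card_le_card_of_injective f hf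
  have hb : Nat.card Bool = 2 := by rw [Nat.card_eq_fintype_card, Fintype.card_bool]
  rw [hb] at h1
  have h2 : 0 < Nat.card (slHom (F := F)).ker := Nat.card_pos
  omega

end Field

end Cfsg.Agent.Helper96.Klein
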