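import Mathlib
import Cfsg.Prelude.Def_Classical
import Cfsg.Agent.Helper96.KleinField

set_option autoImplicit false

namespace Cfsg.Agent.Helper96.KleinSp

open Matrix Cfsg.Agent.Helper96.Klein

/-- index type of the symplectic space -/
abbrev I4 := Fin 2 ⊕ Fin 2
/-- index type of the 5-dimensional orthogonal space -/
abbrev I5 := Unit ⊕ (Fin 2 ⊕ Fin 2)

/-- the ordering `e₁, f₁, e₂, f₂` of the symplectic basis -/
def io : Fin 4 → I4
  | 0 => Sum.inl 0
  | 1 => Sum.inr 0
  | 2 => Sum.inl 1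
  | 3 => Sum.inr 1

/-- inverse of `io` -/
def oi : I4 → Fin 4
  | Sum.inl 0 => 0
  | Sum.inr 0 => 1
  | Sum.inl 1 => 2
  | Sum.inr 1 => 3

/-- `io` as an equivalence -/
def ioEquiv : Fin 4 ≃ I4 where
  toFun := io
  invFun := oi
  left_inv := by decide
  right_inv := by decide

section Ring

variable {R : Type*} [CommRing R]

/-- reindexing to `Fin 4` -/
def re (A : Matrix I4 I4 R) : Matrix (Fin 4) (Fin 4) R := A.submatrix io io

theorem re_mul (A B : Matrix I4 I4 R) : re (A * B) = re A * re B := by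
  unfold re
  exact (Matrix.submatrix_mul_equiv A B io ioEquiv io).symm

theorem re_one : re (1 : Matrix I4 I4 R) = 1 := by
  unfold re
  exact Matrix.submatrix_one_equiv ioEquiv

/-- the invariant bivector -/
def om (R : Type*) [CommRing R] : J6 → R
  | Sum.inl 0 => 1
  | Sum.inr 0 => 1
  | _ => 0

theorem C2_mulVec_om (A : Matrix I4 I4 R) (hA : A ∈ Matrix.symplecticGroup (Fin 2) R) :
    C2 (re A) *ᵥ om R = om R := by
  rw [SymplecticGroup.mem_iff] at hA
  funext I
  have h := congrFun (congrFun hA (io (pr I).1)) (io (pr I).2)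
  rcases I with I | I <;> fin_cases I <;>
    simp [Matrix.mul_apply, Matrix.J, Matrix.fromBlocks, Fintype.sum_sum_type, Fin.sum_univ_two, io,
      pr, Matrix.of_apply] at h <;>
    simp [Matrix.mulVec, dotProduct, Fintype.sum_sum_type, Fin.sum_univ_three, om, C2, re, io, pr] <;>
    linear_combination (-1 : R) * h

theorem om_vecMul_C2 (A : Matrix I4 I4 R) (hA : A ∈ Matrix.symplecticGroup (Fin 2) R) :
    om R ᵥ* C2 (re A) = om R := by
  rw [SymplecticGroup.mem_iff'] at hA
  funext I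
  have h := congrFun (congrFun hA (io (pr I).1)) (io (pr I).2)
  rcases I with I | I <;> fin_cases I <;>
    simp [Matrix.mul_apply, Matrix.J, Matrix.fromBlocks, Fintype.sum_sum_type, Fin.sum_univ_two, io,
      pr, Matrix.of_apply] at h <;>
    simp [Matrix.vecMul, dotProduct, Fintype.sum_sum_type, Fin.sum_univ_three, om, C2, re, io, pr] <;>
    linear_combination (-1 : R) * h

/-- inclusion of `ω^⊥` (in the basis adapted to `quadFormOdd 2`) -/
def Tm (R : Type*) [CommRing R] : Matrix J6 I5 R := fun I c =>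
  match I, c with
  | Sum.inl 0, Sum.inl () => 1
  | Sum.inr 0, Sum.inl () => -1
  | Sum.inl 1, Sum.inr (Sum.inl 0) => 1
  | Sum.inl 2, Sum.inr (Sum.inl 1) => 1
  | Sum.inr 1, Sum.inr (Sum.inr 0) => -1
  | Sum.inr 2, Sum.inr (Sum.inr 1) => -1
  | _, _ => 0

/-- projection onto `ω^⊥` along `ω`, times 2 in the first coordinate -/
def Sm (c : R) : Matrix I5 J6 R := fun r I =>
  match r, I with
  | Sum.inl (), Sum.inl 0 => c
  | Sum.inl (), Sum.inr 0 => -c
  | Sum.inr (Sum.inl 0), Sum.inl 1 => 1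
  | Sum.inr (Sum.inl 1), Sum.inl 2 => 1
  | Sum.inr (Sum.inr 0), Sum.inr 1 => -1
  | Sum.inr (Sum.inr 1), Sum.inr 2 => -1
  | _, _ => 0

theorem Sm_mul_Tm (c : R) (hc : 2 * c = 1) : Sm c * Tm R = 1 := by
  ext r s
  rcases r with r | r | r <;> rcases s with s | s | s <;> (try fin_cases r) <;> (try fin_cases s) <;>
    simp [Matrix.mul_apply, Fintype.sum_sum_type, Fin.sum_univ_three, Sm, Tm, Matrix.one_apply] <;>
    linear_combination hc

theorem Tm_mul_Sm (c : R) (hc : 2 * c = 1) :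
    Tm R * Sm c = 1 - c • vecMulVec (om R) (om R) := by
  ext I J
  rcases I with I | I <;> rcases J with J | J <;> fin_cases I <;> fin_cases J <;>
    simp [Matrix.mul_apply, Fintype.sum_sum_type, Fin.sum_univ_two, Sm, Tm, Matrix.one_apply,
      vecMulVec_apply, om] <;>
    linear_combination hc

theorem om_vecMul_Tm : om R ᵥ* Tm R = 0 := by
  funext s
  rcases s with s | s | s <;> (try fin_cases s) <;>
    simp [Matrix.vecMul, dotProduct, Fintype.sum_sum_type, Fin.sum_univ_three, om, Tm]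

theorem quadFormPlus_Tm {F : Type*} [Field F] (y : I5 → F) :
    Cfsg.quadFormPlus 3 F (Tm F *ᵥ y) = - Cfsg.quadFormOdd 2 F y := by
  simp [Cfsg.quadFormPlus, Cfsg.quadFormOdd, Matrix.mulVec, dotProduct, Fintype.sum_sum_type,
    Fin.sum_univ_three, Fin.sum_univ_two, Tm]
  ring

theorem quadFormPlus_om {F : Type*} [Field F] : Cfsg.quadFormPlus 3 F (om F) = 1 := by
  simp [Cfsg.quadFormPlus, Fin.sum_univ_three, om]

end Ring

section Field

variable {F : Type*} [Field F]

/-- the action of a symplectic matrix on `ω^⊥`, as a `5 × 5` matrix -/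
def rho (c : F) (A : Matrix I4 I4 F) : Matrix I5 I5 F := Sm c * C2 (re A) * Tm F

theorem W_mul_C2 (A : Matrix I4 I4 F) (hA : A ∈ Matrix.symplecticGroup (Fin 2) F) :
    vecMulVec (om F) (om F) * C2 (re A) = vecMulVec (om F) (om F) := by
  rw [Matrix.vecMulVec_mul, om_vecMul_C2 A hA]

theorem C2_mul_W (A : Matrix I4 I4 F) (hA : A ∈ Matrix.symplecticGroup (Fin 2) F) :
    C2 (re A) * vecMulVec (om F) (om F) = vecMulVec (om F) (om F) := by
  rw [Matrix.mul_vecMulVec, C2_mulVec_om A hA]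

theorem W_mul_Tm : vecMulVec (om F) (om F) * Tm F = 0 := by
  rw [Matrix.vecMulVec_mul, om_vecMul_Tm]
  ext i j
  simp [Matrix.vecMulVec_apply]

/-- `T ρ(A) = C2(A) T` -/
theorem Tm_mul_rho {c : F} (hc : 2 * c = 1) (A : Matrix I4 I4 F)
    (hA : A ∈ Matrix.symplecticGroup (Fin 2) F) :
    Tm F * rho c A = C2 (re A) * Tm F := by
  unfold rho
  rw [← Matrix.mul_assoc, ← Matrix.mul_assoc, Tm_mul_Sm c hc, Matrix.sub_mul, Matrix.sub_mul,
    Matrix.one_mul, Matrix.smul_mul, Matrix.smul_mul, W_mul_C2 A hA, W_mul_Tm, smul_zero, sub_zero]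

theorem rho_one {c : F} (hc : 2 * c = 1) : rho c (1 : Matrix I4 I4 F) = 1 := by
  unfold rho
  rw [re_one, C2_one, Matrix.mul_one, Sm_mul_Tm c hc]

theorem rho_mul {c : F} (hc : 2 * c = 1) (A B : Matrix I4 I4 F)
    (hB : B ∈ Matrix.symplecticGroup (Fin 2) F) : rho c (A * B) = rho c A * rho c B := by
  have h := Tm_mul_rho hc B hB
  calc rho c (A * B) = Sm c * C2 (re A) * (C2 (re B) * Tm F) := by
        unfold rho
        rw [re_mul, C2_mul]
        simp only [Matrix.mul_assoc]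
    _ = Sm c * C2 (re A) * (Tm F * rho c B) := by rw [h]
    _ = rho c A * rho c B := by
        unfold rho
        simp only [Matrix.mul_assoc]

theorem det_re_eq_one (A : Matrix I4 I4 F) (hA : A ∈ Matrix.symplecticGroup (Fin 2) F) :
    (re A).det = 1 := by
  have h := quadFormPlus_C2_det (re A) (om F)
  rw [C2_mulVec_om A hA, quadFormPlus_om, mul_one] at h
  exact h.symm

theorem quadFormOdd_rho {c : F} (hc : 2 * c = 1) (A : Matrix I4 I4 F)
    (hA : A ∈ Matrix.symplecticGroup (Fin 2) F) (y : I5 → F) :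
    Cfsg.quadFormOdd 2 F (rho c A *ᵥ y) = Cfsg.quadFormOdd 2 F y := by
  have h1 : Tm F *ᵥ (rho c A *ᵥ y) = C2 (re A) *ᵥ (Tm F *ᵥ y) := by
    rw [Matrix.mulVec_mulVec, Matrix.mulVec_mulVec, Tm_mul_rho hc A hA]
  have h2 := quadFormPlus_Tm (rho c A *ᵥ y)
  rw [h1, quadFormPlus_C2_det, det_re_eq_one A hA, one_mul, quadFormPlus_Tm] at h2
  exact (neg_injective h2).symm

/-- `ρ(A) = 1` forces `C2(A) = 1` -/
theorem C2_eq_one_of_rho {c : F} (hc : 2 * c = 1) (A : Matrix I4 I4 F)
    (hA : A ∈ Matrix.symplecticGroup (Fin 2) F) (h : rho c A = 1) : C2 (re A) = 1 := by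
  have h1 := Tm_mul_rho hc A hA
  rw [h, Matrix.mul_one] at h1
  have h2 : (1 : Matrix J6 J6 F) = Tm F * Sm c + c • vecMulVec (om F) (om F) := by
    rw [Tm_mul_Sm c hc]
    abel
  calc C2 (re A) = C2 (re A) * (Tm F * Sm c + c • vecMulVec (om F) (om F)) := by rw [← h2, Matrix.mul_one]
    _ = (C2 (re A) * Tm F) * Sm c + c • (C2 (re A) * vecMulVec (om F) (om F)) := by
        rw [Matrix.mul_add, Matrix.mul_smul, Matrix.mul_assoc]
    _ = Tm F * Sm c + c • vecMulVec (om F) (om F) := by rw [← h1, C2_mul_W A hA]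
    _ = 1 := h2.symm

end Field

end Cfsg.Agent.Helper96.KleinSp
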