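import Mathlib
import Cfsg.Prelude.Def_Classical
import Cfsg.Agent.Helper96.KleinSp
import Cfsg.Agent.Helper96.OmegaIso
import Cfsg.Agent.S0286
import Cfsg.Agent.S0245
import Cfsg.Agent.S0269
import Cfsg.Agent.Helper37.OddCard

set_option autoImplicit false

namespace Cfsg.Agent.Helper96.KleinSp

open Matrix Cfsg.Agent.Helper96.Klein

/-- a subgroup all of whose elements are `± 1` (in some faithful matrix-like model) has order 1 or 2 -/
theorem card_eq_one_or_two_of_forall {G : Type*} [Group G] (K : Subgroup G) {M : Type*} [Neg M]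
    [One M] (f : G → M) (hf : Function.Injective f) (h : ∀ g ∈ K, f g = 1 ∨ f g = -1) :
    Nat.card K = 1 ∨ Nat.card K = 2 := by
  classical
  let φ : K → Bool := fun g => if f (g : G) = 1 then true else false
  have hφ : Function.Injective φ := by
    intro g g' hgg
    apply Subtype.ext
    apply hf
    rcases h g.1 g.2 with h1 | h1 <;> rcases h g'.1 g'.2 with h2 | h2
    · rw [h1, h2]
    · by_cases h3 : f (g' : G) = 1
      · rw [h1, h3]
      · simp only [φ, h1, h3, if_true, if_false] at hgg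
        exact absurd hgg (by simp)
    · by_cases h3 : f (g : G) = 1
      · rw [h2, h3]
      · simp only [φ, h2, h3, if_true, if_false] at hgg
        exact absurd hgg (by simp)
    · rw [h1, h2]
  have hfin : Finite K := Finite.of_injective φ hφ
  have h1 : Nat.card K ≤ Nat.card Bool := Nat.card_le_card_of_injective φ hφ
  have hb : Nat.card Bool = 2 := by rw [Nat.card_eq_fintype_card, Fintype.card_bool]
  rw [hb] at h1
  have h2 : 0 < Nat.card K := Nat.card_pos
  omega

section Group

variable {F : Type*} [Field F]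

/-- the orthogonal group `O₅(F)` -/
abbrev O5 (F : Type*) [Field F] := Cfsg.isometryGroup F (Cfsg.quadFormOdd 2 F)

/-- `ρ` as a monoid hom on `Sp₄(F)` -/
noncomputable def rhoHom (h2 : (2 : F) ≠ 0) : Matrix.symplecticGroup (Fin 2) F →* Matrix I5 I5 F where
  toFun A := rho (2 : F)⁻¹ (A : Matrix I4 I4 F)
  map_one' := rho_one (mul_inv_cancel₀ h2)
  map_mul' A B := rho_mul (mul_inv_cancel₀ h2) A.1 B.1 B.2

/-- the hom `Sp₄(F) → O₅(F)` -/
noncomputable def spHom (h2 : (2 : F) ≠ 0) : Matrix.symplecticGroup (Fin 2) F →* O5 F :=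
  ((rhoHom h2).toHomUnits).codRestrict (O5 F) (fun A =>
    (Cfsg.Agent.Helper96.mem_isometryGroup_iff _ _).mpr (fun u =>
      quadFormOdd_rho (mul_inv_cancel₀ h2) A.1 A.2 u))

theorem spHom_coe (h2 : (2 : F) ≠ 0) (A : Matrix.symplecticGroup (Fin 2) F) :
    (((spHom h2 A : O5 F) : GL I5 F) : Matrix I5 I5 F) = rho (2 : F)⁻¹ (A : Matrix I4 I4 F) := rfl

theorem re_injective {R : Type*} [CommRing R] : Function.Injective (re : Matrix I4 I4 R → _) := by
  intro A B h
  ext i j
  have := congrFun (congrFun h (oi i)) (oi j)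
  simp only [re, Matrix.submatrix_apply] at this
  have hi : io (oi i) = i := ioEquiv.right_inv i
  have hj : io (oi j) = j := ioEquiv.right_inv j
  rw [hi, hj] at this
  exact this

theorem io_inj : ∀ i j : Fin 4, io i = io j ↔ i = j := by decide

theorem ker_cases (h2 : (2 : F) ≠ 0) (A : Matrix.symplecticGroup (Fin 2) F)
    (hA : A ∈ (spHom h2).ker) : (A : Matrix I4 I4 F) = 1 ∨ (A : Matrix I4 I4 F) = -1 := by
  have h1 : rho (2 : F)⁻¹ (A : Matrix I4 I4 F) = 1 := by
    rw [← spHom_coe h2, MonoidHom.mem_ker.mp hA]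
    rfl
  have h3 := C2_eq_one_of_rho (mul_inv_cancel₀ h2) A.1 A.2 h1
  obtain ⟨c, hc, hA'⟩ := eq_scalar_of_C2_eq_one h3
  have h4 : (c - 1) * (c + 1) = 0 := by linear_combination hc
  rcases mul_eq_zero.mp h4 with h | h
  · left
    apply re_injective
    rw [hA', sub_eq_zero.mp h, map_one, re_one]
  · right
    apply re_injective
    rw [hA', eq_neg_of_add_eq_zero_left h, map_neg, map_one]
    ext i j
    simp [re, Matrix.one_apply, io_inj]

theorem ker_le_center (h2 : (2 : F) ≠ 0) :
    (spHom h2).ker ≤ Subgroup.center (Matrix.symplecticGroup (Fin 2) F) := by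
  intro g hg
  rw [Subgroup.mem_center_iff]
  intro h
  apply Subtype.ext
  change (h : Matrix I4 I4 F) * (g : Matrix I4 I4 F) = (g : Matrix I4 I4 F) * (h : Matrix I4 I4 F)
  rcases ker_cases h2 g hg with h1 | h1
  · rw [h1, Matrix.mul_one, Matrix.one_mul]
  · rw [h1, Matrix.mul_neg, Matrix.neg_mul, Matrix.mul_one, Matrix.one_mul]

theorem card_ker (h2 : (2 : F) ≠ 0) :
    Nat.card (spHom h2).ker = 1 ∨ Nat.card (spHom h2).ker = 2 :=
  card_eq_one_or_two_of_forall (spHom h2).ker
    (fun g : Matrix.symplecticGroup (Fin 2) F => (g : Matrix I4 I4 F)) Subtype.val_injective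
    (fun g hg => ker_cases h2 g hg)

variable [Fintype F]

theorem card_O5_eq (hodd : Odd (Fintype.card F)) :
    Nat.card (O5 F) = 2 * Nat.card (Matrix.symplecticGroup (Fin 2) F) := by
  rw [Cfsg.Agent.S0286.result (F := F) rfl hodd 2, Cfsg.Agent.S0245.result (F := F) rfl 2]
  ring

theorem finite_Sp : Finite (Matrix.symplecticGroup (Fin 2) F) :=
  Finite.of_injective (fun g => (g : Matrix I4 I4 F)) Subtype.val_injective

theorem finite_O5 : Finite (O5 F) :=
  Finite.of_injective (fun g => (((g : O5 F) : GL I5 F) : Matrix I5 I5 F))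
    (fun _ _ h => Subtype.ext (Units.ext h))

/-- `PΩ₅(q) ≅ PSp₄(q)` for `q` odd -/
theorem nonempty_mulEquiv (hodd : Odd (Fintype.card F)) :
    Nonempty (Cfsg.POmega F (Cfsg.quadFormOdd 2 F) ≃* Cfsg.PSp 2 F) := by
  have h2 : (2 : F) ≠ 0 := Cfsg.Agent.Helper37.two_ne_zero_of_odd_card hodd
  have hfs : Finite (Matrix.symplecticGroup (Fin 2) F) := finite_Sp
  have hfo : Finite (O5 F) := finite_O5
  have h3 : 3 ≤ Fintype.card F := by
    have h1 : 1 < Fintype.card F := Fintype.one_lt_card
    rcases hodd with ⟨k, hk⟩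
    omega
  have hperf : commutator (Matrix.symplecticGroup (Fin 2) F) = ⊤ :=
    Cfsg.Agent.S0269.result 2 (Or.inr (Or.inl ⟨rfl, h3⟩))
  have hidx := Cfsg.Agent.Helper96.index_range_of_card (spHom h2) (card_O5_eq hodd) (card_ker h2)
  exact Cfsg.Agent.Helper96.nonempty_mulEquiv_of_perfect_of_index (spHom h2) hperf
    (ker_le_center h2) hidx

end Group

end Cfsg.Agent.Helper96.KleinSp
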