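import Mathlib

/-!
# Commutator calculus for a homomorphism with central kernel
-/

set_option autoImplicit false

namespace Cfsg.Agent.Helper96.AltStem

open scoped commutatorElement

variable {Γ P : Type*} [Group Γ] [Group P] (ρ : Γ →* P) (hc : ρ.ker ≤ Subgroup.center Γ)

include hc

theorem ker_comm' {z : Γ} (hz : z ∈ ρ.ker) (g : Γ) : g * z = z * g :=
  Subgroup.mem_center_iff.mp (hc hz) g

theorem conj_ker {z : Γ} (hz : z ∈ ρ.ker) (g : Γ) : g * z * g⁻¹ = z := by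
  rw [ker_comm' ρ hc hz g, mul_inv_cancel_right]

/-- conjugation depends only on the image of the conjugating element -/
theorem conj_congr {s s' : Γ} (hs : ρ s = ρ s') (a : Γ) : s * a * s⁻¹ = s' * a * s'⁻¹ := by
  have hz : s⁻¹ * s' ∈ ρ.ker := by rw [MonoidHom.mem_ker, map_mul, map_inv, hs, inv_mul_cancel]
  have h1 := ker_comm' ρ hc hz a
  have e1 : s' = s * (s⁻¹ * s') := by group
  rw [e1]
  generalize s⁻¹ * s' = z at h1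
  calc s * a * s⁻¹ = s * (a * z * z⁻¹) * s⁻¹ := by group
    _ = s * (z * a * z⁻¹) * s⁻¹ := by rw [h1]
    _ = s * z * a * (s * z)⁻¹ := by group

/-- commutators depend only on the images -/
theorem comm_congr {s s' x x' : Γ} (hs : ρ s = ρ s') (hx : ρ x = ρ x') : ⁅s, x⁆ = ⁅s', x'⁆ := by
  have hw : x⁻¹ * x' ∈ ρ.ker := by rw [MonoidHom.mem_ker, map_mul, map_inv, hx, inv_mul_cancel]
  have e2 : x' = x * (x⁻¹ * x') := by group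
  have h2 := conj_ker ρ hc hw s'
  rw [commutatorElement_def, commutatorElement_def, conj_congr ρ hc hs x, e2]
  generalize x⁻¹ * x' = w at h2
  calc s' * x * s'⁻¹ * x⁻¹ = s' * x * s'⁻¹ * w * w⁻¹ * x⁻¹ := by group
    _ = s' * x * s'⁻¹ * (s' * w * s'⁻¹) * w⁻¹ * x⁻¹ := by rw [h2]
    _ = s' * (x * w) * s'⁻¹ * (x * w)⁻¹ := by group

theorem comm_mem_ker {c x : Γ} (h : ρ c * ρ x = ρ x * ρ c) : ⁅c, x⁆ ∈ ρ.ker := by
  rw [MonoidHom.mem_ker, map_commutatorElement, commutatorElement_eq_one_iff_mul_comm]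
  exact h

/-- left multiplicativity -/
theorem comm_mul_left (s : Γ) {c x : Γ} (h : ρ c * ρ x = ρ x * ρ c) :
    ⁅s * c, x⁆ = ⁅s, x⁆ * ⁅c, x⁆ := by
  have h1 := conj_ker ρ hc (comm_mem_ker ρ hc h) s
  have h2 := ker_comm' ρ hc (comm_mem_ker ρ hc h) ⁅s, x⁆
  rw [h2]
  calc ⁅s * c, x⁆ = s * ⁅c, x⁆ * s⁻¹ * ⁅s, x⁆ := by
        simp only [commutatorElement_def]; group
    _ = ⁅c, x⁆ * ⁅s, x⁆ := by rw [h1]

/-- right multiplicativity -/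
theorem comm_mul_right (c x : Γ) {y : Γ} (h : ρ c * ρ y = ρ y * ρ c) :
    ⁅c, x * y⁆ = ⁅c, x⁆ * ⁅c, y⁆ := by
  have h1 := conj_ker ρ hc (comm_mem_ker ρ hc h) x
  calc ⁅c, x * y⁆ = ⁅c, x⁆ * (x * ⁅c, y⁆ * x⁻¹) := by
        simp only [commutatorElement_def]; group
    _ = ⁅c, x⁆ * ⁅c, y⁆ := by rw [h1]

theorem comm_pow_left {c x : Γ} (h : ρ c * ρ x = ρ x * ρ c) (k : ℕ) :
    ⁅c ^ k, x⁆ = ⁅c, x⁆ ^ k := by
  induction k with
  | zero => simp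
  | succ k ih => rw [pow_succ, pow_succ, comm_mul_left ρ hc (c ^ k) h, ih]

theorem comm_pow_right {c x : Γ} (h : ρ c * ρ x = ρ x * ρ c) (k : ℕ) :
    ⁅c, x ^ k⁆ = ⁅c, x⁆ ^ k := by
  induction k with
  | zero => simp
  | succ k ih => rw [pow_succ, pow_succ, comm_mul_right ρ hc c (x ^ k) h, ih]

theorem comm_eq_one_of_mem_ker_left {z : Γ} (hz : z ∈ ρ.ker) (x : Γ) : ⁅z, x⁆ = 1 := by
  rw [commutatorElement_eq_one_iff_mul_comm]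
  exact (ker_comm' ρ hc hz x).symm

theorem comm_eq_one_of_mem_ker_right {z : Γ} (hz : z ∈ ρ.ker) (x : Γ) : ⁅x, z⁆ = 1 := by
  rw [commutatorElement_eq_one_iff_mul_comm]
  exact ker_comm' ρ hc hz x

/-- orders: the commutator of lifts of commuting elements is killed by the order of either -/
theorem comm_pow_eq_one_left {c x : Γ} (h : ρ c * ρ x = ρ x * ρ c) {k : ℕ} (hk : ρ c ^ k = 1) :
    ⁅c, x⁆ ^ k = 1 := by
  rw [← comm_pow_left ρ hc h]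
  apply comm_eq_one_of_mem_ker_left ρ hc
  rw [MonoidHom.mem_ker, map_pow, hk]

theorem comm_pow_eq_one_right {c x : Γ} (h : ρ c * ρ x = ρ x * ρ c) {k : ℕ} (hk : ρ x ^ k = 1) :
    ⁅c, x⁆ ^ k = 1 := by
  rw [← comm_pow_right ρ hc h]
  apply comm_eq_one_of_mem_ker_right ρ hc
  rw [MonoidHom.mem_ker, map_pow, hk]

/-- lifts of commuting elements of coprime orders commute -/
theorem comm_eq_one_of_coprime {c x : Γ} (h : ρ c * ρ x = ρ x * ρ c) {k l : ℕ}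
    (hk : ρ c ^ k = 1) (hl : ρ x ^ l = 1) (hkl : Nat.Coprime k l) : ⁅c, x⁆ = 1 := by
  have h1 := comm_pow_eq_one_left ρ hc h hk
  have h2 := comm_pow_eq_one_right ρ hc h hl
  have h3 : orderOf ⁅c, x⁆ ∣ Nat.gcd k l :=
    Nat.dvd_gcd (orderOf_dvd_of_pow_eq_one h1) (orderOf_dvd_of_pow_eq_one h2)
  rw [hkl.gcd_eq_one, Nat.dvd_one] at h3
  exact orderOf_eq_one_iff.mp h3

/-- conjugation invariance -/
theorem conj_comm (g s x : Γ) : g * ⁅s, x⁆ * g⁻¹ = ⁅g * s * g⁻¹, g * x * g⁻¹⁆ := by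
  simp only [commutatorElement_def]; group

/-- the twist lemma: if `g` inverts `x` and centralizes `y` (in the image), `x`, `y` commute in the
image and `x` has odd order there, then lifts of `x` and `y` commute. -/
theorem comm_eq_one_of_twist {x y g : Γ} (h : ρ x * ρ y = ρ y * ρ x)
    (hgx : ρ g * ρ x * (ρ g)⁻¹ = (ρ x)⁻¹) (hgy : ρ g * ρ y * (ρ g)⁻¹ = ρ y) {p : ℕ} (hp : Odd p)
    (hxp : ρ x ^ p = 1) : ⁅x, y⁆ = 1 := by
  have hd := comm_mem_ker ρ hc h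
  have h1 : g * ⁅x, y⁆ * g⁻¹ = ⁅x, y⁆ := conj_ker ρ hc hd g
  have h2 : ⁅g * x * g⁻¹, g * y * g⁻¹⁆ = ⁅x⁻¹, y⁆ := by
    apply comm_congr ρ hc
    · rw [map_mul, map_mul, map_inv, hgx, map_inv]
    · rw [map_mul, map_mul, map_inv, hgy]
  have h3 : ⁅x⁻¹, y⁆ * ⁅x, y⁆ = 1 := by
    rw [← comm_mul_left ρ hc x⁻¹ h, inv_mul_cancel]
    simp
  have h4 : ⁅x, y⁆ * ⁅x, y⁆ = 1 := by
    nth_rewrite 1 [← h1]
    rw [conj_comm ρ hc, h2, h3]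
  have h5 := comm_pow_eq_one_left ρ hc h hxp
  obtain ⟨k, rfl⟩ := hp
  rw [pow_succ, pow_mul, pow_two, h4, one_pow, one_mul] at h5
  exact h5

/-- the inverter lemma -/
theorem inverter {s x : Γ} (hsx : ρ s * ρ x * (ρ s)⁻¹ = (ρ x)⁻¹) :
    s * ⁅s, x⁆ * s⁻¹ = ⁅s, x⁆⁻¹ ∧ ⁅s, x⁻¹⁆ = ⁅s, x⁆⁻¹ := by
  have hz : s * x * s⁻¹ * x ∈ ρ.ker := by
    rw [MonoidHom.mem_ker, map_mul, map_mul, map_mul, map_inv, hsx, inv_mul_cancel]
  have h1 := ker_comm' ρ hc hz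
  have e : s * x * s⁻¹ = (s * x * s⁻¹ * x) * x⁻¹ := by group
  generalize s * x * s⁻¹ * x = ζ at h1 e
  have d : ⁅s, x⁆ = ζ * x⁻¹ * x⁻¹ := by rw [commutatorElement_def, e]
  have h2 : s * x⁻¹ * s⁻¹ = x * ζ⁻¹ := by
    have : s * x⁻¹ * s⁻¹ = (s * x * s⁻¹)⁻¹ := by group
    rw [this, e]; group
  constructor
  · rw [d]
    calc s * (ζ * x⁻¹ * x⁻¹) * s⁻¹ = (s * ζ) * (s⁻¹ * (s * x⁻¹ * s⁻¹) * (s * x⁻¹ * s⁻¹) * s) * s⁻¹ := by
          group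
      _ = (ζ * s) * (s⁻¹ * (x * ζ⁻¹) * (x * ζ⁻¹) * s) * s⁻¹ := by rw [h2, h1 s]
      _ = ζ * x * (ζ⁻¹ * x) * ζ⁻¹ := by group
      _ = ζ * x * (x * ζ⁻¹) * ζ⁻¹ := by
          have : ζ⁻¹ * x = x * ζ⁻¹ := by
            have := h1 x
            calc ζ⁻¹ * x = ζ⁻¹ * (x * ζ) * ζ⁻¹ := by group
              _ = ζ⁻¹ * (ζ * x) * ζ⁻¹ := by rw [this]
              _ = x * ζ⁻¹ := by group
          rw [this]
      _ = (ζ * x) * x * ζ⁻¹ * ζ⁻¹ := by group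
      _ = (x * ζ) * x * ζ⁻¹ * ζ⁻¹ := by rw [h1 x]
      _ = x * (ζ * x) * ζ⁻¹ * ζ⁻¹ := by group
      _ = x * (x * ζ) * ζ⁻¹ * ζ⁻¹ := by rw [h1 x]
      _ = (ζ * x⁻¹ * x⁻¹)⁻¹ := by simp [mul_assoc]
  · rw [d, commutatorElement_def, inv_inv, h2]
    calc x * ζ⁻¹ * x = x * (ζ⁻¹ * x) := by group
      _ = x * (x * ζ⁻¹) := by
          have : ζ⁻¹ * x = x * ζ⁻¹ := by
            have := h1 x
            calc ζ⁻¹ * x = ζ⁻¹ * (x * ζ) * ζ⁻¹ := by group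
              _ = ζ⁻¹ * (ζ * x) * ζ⁻¹ := by rw [this]
              _ = x * ζ⁻¹ := by group
          rw [this]
      _ = (ζ * x⁻¹ * x⁻¹)⁻¹ := by simp [mul_assoc]

/-- the canonical lift `⁅s, x⁆ ^ 4` of an element `x` of order three inverted by `s` -/
theorem inverter_lift {s x : Γ} (hsx : ρ s * ρ x * (ρ s)⁻¹ = (ρ x)⁻¹) (h3 : ρ x ^ 3 = 1) :
    ρ ⁅s, x⁆ = ρ x ∧ (⁅s, x⁆ ^ 4) ^ 3 = 1 ∧ ρ (⁅s, x⁆ ^ 4) = ρ x := by
  have hd : ρ ⁅s, x⁆ = ρ x := by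
    rw [map_commutatorElement, commutatorElement_def, hsx]
    have : (ρ x)⁻¹ * (ρ x)⁻¹ = ((ρ x) ^ 3)⁻¹ * ρ x := by group
    rw [this, h3, inv_one, one_mul]
  have hk : ⁅s, x⁆ ^ 3 ∈ ρ.ker := by rw [MonoidHom.mem_ker, map_pow, hd, h3]
  have h1 := conj_ker ρ hc hk s
  rw [← conj_pow, (inverter ρ hc hsx).1, inv_pow] at h1
  have h6 : ⁅s, x⁆ ^ 6 = 1 := by
    have : ⁅s, x⁆ ^ 6 = ⁅s, x⁆ ^ 3 * ⁅s, x⁆ ^ 3 := by rw [← pow_add]
    rw [this]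
    nth_rewrite 1 [← h1]
    rw [inv_mul_cancel]
  refine ⟨hd, ?_, ?_⟩
  · rw [← pow_mul]
    have : 4 * 3 = 6 * 2 := rfl
    rw [this, pow_mul, h6, one_pow]
  · rw [map_pow, hd]
    have : ρ x ^ 4 = ρ x ^ 3 * ρ x := by rw [pow_succ]
    rw [this, h3, one_mul]

end Cfsg.Agent.Helper96.AltStem
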