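import Cfsg.Agent.Helper27.HexMonoGF4

/-!
# The triple cover `3.A₆` as the group of monomial automorphisms of the hexacode
-/

set_option autoImplicit false

namespace Cfsg.Agent.Helper96.HexGroup

open Cfsg Cfsg.Agent.Helper27 Subgroup
open scoped commutatorElement

abbrev U := GF4ˣ
abbrev D := Fin 6 → U

theorem hw : (GF4.w : GF4) ^ 2 + GF4.w + 1 = 0 := by decide

/-- permutations acting on scalings -/
def φ : Equiv.Perm (Fin 6) →* MulAut D where
  toFun σ :=
    { toFun := fun d i => d (σ.symm i)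
      invFun := fun d i => d (σ i)
      left_inv := fun d => by funext i; simp
      right_inv := fun d => by funext i; simp
      map_mul' := fun _ _ => rfl }
  map_one' := rfl
  map_mul' := fun _ _ => rfl

theorem φ_apply (σ : Equiv.Perm (Fin 6)) (d : D) (i : Fin 6) : φ σ d i = d (σ.symm i) := rfl

/-- the monomial group `3 ≀ S₆` -/
abbrev Mon := D ⋊[φ] Equiv.Perm (Fin 6)

instance finiteMon : Finite Mon := Finite.of_equiv _ SemidirectProduct.equivProd.symm

/-- the monomial automorphisms of the hexacode -/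
def T : Subgroup Mon where
  carrier := {m | HexPres GF4 GF4.w m.right m.left}
  mul_mem' := by
    intro a b ha hb
    exact HexPres.comp ha hb
  one_mem' := hexPres_one GF4.w
  inv_mem' := by
    intro a ha
    have h := HexPres.inv ha
    have e : (a⁻¹).left = fun i => (a.left (a.right i))⁻¹ := by
      funext i
      rw [SemidirectProduct.inv_left]
      rfl
    show HexPres GF4 GF4.w (a⁻¹).right (a⁻¹).left
    rw [e]
    exact h

theorem mem_T (m : Mon) : m ∈ T ↔ HexPres GF4 GF4.w m.right m.left := Iff.rfl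

/-- the underlying permutation -/
def τ : T →* Equiv.Perm (Fin 6) := SemidirectProduct.rightHom.comp T.subtype

theorem τ_apply (m : T) : τ m = m.1.right := rfl

theorem range_τ : τ.range = alternatingGroup (Fin 6) := by
  rw [← hexPerm_eq_alternatingGroup GF4.card_eq GF4.w hw]
  ext σ
  constructor
  · rintro ⟨m, rfl⟩
    exact ⟨m.1.left, m.2⟩
  · rintro ⟨c, hc⟩
    exact ⟨⟨⟨c, σ⟩, hc⟩, rfl⟩

theorem left_const_of_mem_ker {m : T} (hm : m ∈ τ.ker) : ∀ i j, m.1.left i = m.1.left j := by
  have h1 : m.1.right = 1 := hm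
  have h2 : HexPres GF4 GF4.w m.1.right m.1.left := m.2
  rw [h1] at h2
  exact hexPres_diag GF4.card_eq GF4.w hw _ h2

theorem ker_τ_le_center : τ.ker ≤ Subgroup.center T := by
  intro m hm
  rw [Subgroup.mem_center_iff]
  intro q
  have h1 : m.1.right = 1 := hm
  have hc := left_const_of_mem_ker hm
  apply Subtype.ext
  apply SemidirectProduct.ext
  · show (q.1 * m.1).left = (m.1 * q.1).left
    rw [SemidirectProduct.mul_left, SemidirectProduct.mul_left, h1, map_one]
    funext i
    show q.1.left i * m.1.left (q.1.right.symm i) = m.1.left i * q.1.left i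
    rw [hc (q.1.right.symm i) i, mul_comm]
  · show (q.1 * m.1).right = (m.1 * q.1).right
    rw [SemidirectProduct.mul_right, SemidirectProduct.mul_right, h1, mul_one, one_mul]

/-! ### two elements with a scalar commutator -/

def uw : U := Units.mk0 GF4.w (by decide)
def uw2 : U := Units.mk0 GF4.w2 (by decide)

def σ₁ : Equiv.Perm (Fin 6) := Equiv.swap 0 1 * Equiv.swap 1 2
def σ₂ : Equiv.Perm (Fin 6) := Equiv.swap 3 4 * Equiv.swap 4 5

def c₁ : D := ![1, 1, 1, 1, uw2, uw]
def c₂ : D := ![1, uw, uw2, uw2, uw2, uw2]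

def X0 : Mon := ⟨c₁, σ₁⟩
def Y0 : Mon := ⟨c₂, σ₂⟩

theorem X0_mem : X0 ∈ T := by
  rw [mem_T, hexPres_iff_monoChk hw]
  decide +kernel

theorem Y0_mem : Y0 ∈ T := by
  rw [mem_T, hexPres_iff_monoChk hw]
  decide +kernel

def X : T := ⟨X0, X0_mem⟩
def Y : T := ⟨Y0, Y0_mem⟩

/-- the scalar `w²` -/
def Z0 : Mon := ⟨fun _ => uw2, 1⟩

theorem comm_XY0 : ⁅X0, Y0⁆ = Z0 := by
  apply SemidirectProduct.ext
  · funext i
    revert i
    decide +kernel
  · decide +kernel

theorem comm_XY : (⁅X, Y⁆ : T).1 = Z0 := by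
  show ⁅X0, Y0⁆ = Z0
  exact comm_XY0

theorem comm_mem_ker : ⁅X, Y⁆ ∈ τ.ker := by
  rw [MonoidHom.mem_ker, τ_apply, comm_XY]
  rfl

theorem comm_pow : ⁅X, Y⁆ ^ 3 = 1 := by
  apply Subtype.ext
  rw [Subgroup.coe_pow, comm_XY]
  decide +kernel

theorem comm_ne : ⁅X, Y⁆ ≠ 1 := by
  intro h
  have h2 : (⁅X, Y⁆ : T).1.left 0 = ((1 : T) : Mon).left 0 := by rw [h]
  rw [comm_XY] at h2
  revert h2
  decide +kernel

theorem units_cases : ∀ v : U, v = 1 ∨ v = uw2 ∨ v = uw2 ^ 2 := by decide +kernel

theorem ker_τ_le_zpowers : τ.ker ≤ zpowers ⁅X, Y⁆ := by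
  intro m hm
  have h1 : m.1.right = 1 := hm
  have hc := left_const_of_mem_ker hm
  have key : ∀ k : ℕ, m.1.left 0 = uw2 ^ k → m = ⁅X, Y⁆ ^ k := by
    intro k hk
    apply Subtype.ext
    rw [Subgroup.coe_pow, comm_XY]
    have hZ : ∀ k : ℕ, Z0 ^ k = ⟨fun _ => uw2 ^ k, 1⟩ := by
      intro k
      induction k with
      | zero => rfl
      | succ k ih =>
        rw [pow_succ, ih]
        apply SemidirectProduct.ext
        · funext i
          show uw2 ^ k * uw2 = uw2 ^ (k + 1)
          rw [pow_succ]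
        · rfl
    rw [hZ]
    apply SemidirectProduct.ext
    · funext i
      show m.1.left i = uw2 ^ k
      rw [hc i 0, hk]
    · exact h1
  rcases units_cases (m.1.left 0) with h | h | h
  · rw [key 0 (by rw [h, pow_zero])]
    exact Subgroup.npow_mem_zpowers _ _
  · rw [key 1 (by rw [h, pow_one])]
    exact Subgroup.npow_mem_zpowers _ _
  · rw [key 2 h]
    exact Subgroup.npow_mem_zpowers _ _

end Cfsg.Agent.Helper96.HexGroup
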