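import Cfsg.Agent.Helper96.StemBoundC
import Cfsg.Agent.Helper7.M11Out

/-!
# Stem extensions of `M₁₁` are trivial

Explicit elements of `M₁₁` (as tables on the 24 points, checked against helper7's list of the 7920
tables of `fixG M12 [0]`): a semidihedral Sylow 2-subgroup, an elementary abelian Sylow 3-subgroup
with an element inverting one generator and centralising the other, elements of order 5 and 11.
-/

set_option autoImplicit false

namespace Cfsg.Agent.Helper96.StemMEleven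

open Cfsg Cfsg.Agent.Helper7 Subgroup
open scoped commutatorElement

abbrev G := ↥(fixG M12 [0])

def rT : List ℕ := [0, 1, 12, 6, 13, 11, 18, 5, 9, 3, 15, 14, 2, 8, 10, 23, 4, 20, 16, 17, 22, 7, 19, 21]
def sT : List ℕ := [0, 1, 12, 8, 18, 15, 6, 11, 3, 16, 23, 7, 2, 13, 14, 5, 9, 17, 4, 20, 19, 21, 22, 10]
def xT : List ℕ := [0, 1, 2, 18, 6, 15, 8, 10, 4, 12, 17, 23, 16, 3, 14, 19, 9, 7, 13, 5, 20, 21, 11, 22]
def yT : List ℕ := [0, 1, 2, 4, 12, 15, 16, 7, 9, 13, 10, 22, 3, 8, 21, 19, 18, 17, 6, 5, 14, 20, 23, 11]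
def gT : List ℕ := [0, 2, 1, 6, 16, 23, 12, 17, 9, 13, 10, 5, 18, 8, 21, 11, 3, 7, 4, 22, 14, 20, 15, 19]
def g5T : List ℕ := [0, 1, 12, 6, 9, 20, 16, 23, 2, 8, 17, 7, 4, 18, 21, 15, 13, 11, 3, 5, 14, 19, 22, 10]
def g11T : List ℕ := [0, 3, 13, 8, 12, 5, 9, 22, 6, 18, 14, 19, 2, 16, 21, 10, 1, 15, 4, 23, 7, 20, 11, 17]

theorem tabs_mem : [rT, sT, xT, yT, gT, g5T, g11T].all (fun l => m11Tabs.contains l) = true := by
  decide +kernel

theorem mem_of_all {l : List ℕ} (h : l ∈ [rT, sT, xT, yT, gT, g5T, g11T]) : l ∈ m11Tabs := by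
  have := List.all_eq_true.mp tabs_mem l h
  exact List.contains_iff_mem.mp this

/-- the element of `M₁₁` with a given table -/
noncomputable def elt (l : List ℕ) (h : l ∈ m11Tabs) : G :=
  ⟨(tabled_m11Tabs l h).choose, (tabled_m11Tabs l h).choose_spec.1⟩

theorem elt_isTable (l : List ℕ) (h : l ∈ m11Tabs) : IsTable l (elt l h).1 :=
  (tabled_m11Tabs l h).choose_spec.2

noncomputable def rb : G := elt rT (mem_of_all (by simp))
noncomputable def sb : G := elt sT (mem_of_all (by simp))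
noncomputable def xb : G := elt xT (mem_of_all (by simp))
noncomputable def yb : G := elt yT (mem_of_all (by simp))
noncomputable def gb : G := elt gT (mem_of_all (by simp))
noncomputable def g5 : G := elt g5T (mem_of_all (by simp))
noncomputable def g11 : G := elt g11T (mem_of_all (by simp))

theorem rb_tab : IsTable rT rb.1 := elt_isTable _ _
theorem sb_tab : IsTable sT sb.1 := elt_isTable _ _
theorem xb_tab : IsTable xT xb.1 := elt_isTable _ _
theorem yb_tab : IsTable yT yb.1 := elt_isTable _ _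
theorem gb_tab : IsTable gT gb.1 := elt_isTable _ _
theorem g5_tab : IsTable g5T g5.1 := elt_isTable _ _
theorem g11_tab : IsTable g11T g11.1 := elt_isTable _ _

theorem eq_of_tables {a b : G} {l l' : List ℕ} (ha : IsTable l a.1) (hb : IsTable l' b.1)
    (h : l = l') : a = b := by
  subst h
  exact Subtype.ext (ha.inj hb)

theorem tables_eq {a b : G} {l l' : List ℕ} (ha : IsTable l a.1) (hb : IsTable l' b.1)
    (h : a = b) : l = l' := by
  subst h
  rw [ha.eq_map, hb.eq_map]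

theorem pow_tab {a : G} {l : List ℕ} (ha : IsTable l a.1) (n : ℕ) : IsTable (powT l n) (a ^ n).1 := by
  rw [Subgroup.coe_pow]; exact ha.pow n

theorem mul_tab {a b : G} {l l' : List ℕ} (ha : IsTable l a.1) (hb : IsTable l' b.1) :
    IsTable (compT l l') (a * b).1 := by
  rw [Subgroup.coe_mul]; exact ha.mul hb

theorem inv_tab {a : G} {l : List ℕ} (ha : IsTable l a.1) : IsTable (invT l) (a⁻¹).1 := by
  rw [Subgroup.coe_inv]; exact ha.inv

theorem one_tab : IsTable idT (1 : G).1 := isTable_one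

/-! ### subgroups given by families of tables -/

section Fam

variable {ι : Type} [Fintype ι] (el : ι → G) (tab : ι → List ℕ)

/-- the subgroup whose elements are listed by a family closed under the group operations -/
def famSubgroup (htab : ∀ i, IsTable (tab i) (el i).1)
    (hmul : ∀ i j, ∃ k, compT (tab i) (tab j) = tab k) (hone : ∃ i, tab i = idT)
    (hinv : ∀ i, ∃ k, invT (tab i) = tab k) : Subgroup G where
  carrier := Set.range el
  mul_mem' := by
    rintro a b ⟨i, rfl⟩ ⟨j, rfl⟩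
    obtain ⟨k, hk⟩ := hmul i j
    exact ⟨k, eq_of_tables (htab k) (mul_tab (htab i) (htab j)) hk.symm⟩
  one_mem' := by
    obtain ⟨i, hi⟩ := hone
    exact ⟨i, eq_of_tables (htab i) one_tab hi⟩
  inv_mem' := by
    rintro a ⟨i, rfl⟩
    obtain ⟨k, hk⟩ := hinv i
    exact ⟨k, eq_of_tables (htab k) (inv_tab (htab i)) hk.symm⟩

theorem card_famSubgroup (htab : ∀ i, IsTable (tab i) (el i).1)
    (hmul : ∀ i j, ∃ k, compT (tab i) (tab j) = tab k) (hone : ∃ i, tab i = idT)
    (hinv : ∀ i, ∃ k, invT (tab i) = tab k) (hinj : ∀ i j, tab i = tab j → i = j) :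
    Nat.card (famSubgroup el tab htab hmul hone hinv) = Fintype.card ι := by
  have h : Nat.card (famSubgroup el tab htab hmul hone hinv) = Nat.card (Set.range el) := rfl
  rw [h, Nat.card_range_of_injective, Nat.card_eq_fintype_card]
  intro i j hij
  exact hinj i j (tables_eq (htab i) (htab j) hij)

end Fam

/-! ### the semidihedral Sylow 2-subgroup -/

noncomputable def elQ (p : Fin 2 × Fin 8) : G := sb ^ (p.1 : ℕ) * rb ^ (p.2 : ℕ)
def tabQ (p : Fin 2 × Fin 8) : List ℕ := compT (powT sT p.1) (powT rT p.2)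

theorem htabQ (p : Fin 2 × Fin 8) : IsTable (tabQ p) (elQ p).1 :=
  mul_tab (pow_tab sb_tab _) (pow_tab rb_tab _)

theorem hmulQ : ∀ p q : Fin 2 × Fin 8, ∃ t, compT (tabQ p) (tabQ q) = tabQ t := by decide +kernel
theorem honeQ : ∃ p : Fin 2 × Fin 8, tabQ p = idT := by decide +kernel
theorem hinvQ : ∀ p : Fin 2 × Fin 8, ∃ t, invT (tabQ p) = tabQ t := by decide +kernel
theorem hinjQ : ∀ p q : Fin 2 × Fin 8, tabQ p = tabQ q → p = q := by decide +kernel

noncomputable def Q : Subgroup G := famSubgroup elQ tabQ htabQ hmulQ honeQ hinvQ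

theorem card_Q : Nat.card Q = 16 := by
  rw [Q, card_famSubgroup elQ tabQ htabQ hmulQ honeQ hinvQ hinjQ]
  simp

theorem conj_rb : sb * rb * sb⁻¹ = rb ^ 3 :=
  eq_of_tables (mul_tab (mul_tab sb_tab rb_tab) (inv_tab sb_tab)) (pow_tab rb_tab 3)
    (by decide +kernel)

theorem sr_sq : (sb * rb ^ 1) ^ 2 = rb ^ 4 :=
  eq_of_tables (pow_tab (mul_tab sb_tab (pow_tab rb_tab 1)) 2) (pow_tab rb_tab 4)
    (by decide +kernel)

theorem comm_rs : ⁅rb, sb⁆ = rb ^ 6 := by
  rw [commutatorElement_def]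
  exact eq_of_tables (mul_tab (mul_tab (mul_tab rb_tab sb_tab) (inv_tab rb_tab)) (inv_tab sb_tab))
    (pow_tab rb_tab 6) (by decide +kernel)

theorem rb_pow : rb ^ 8 = 1 := eq_of_tables (pow_tab rb_tab 8) one_tab (by decide +kernel)

theorem rb_pow_ne : ∀ k : Fin 8, (k : ℕ) ≠ 0 → powT rT k ≠ idT := by decide +kernel

theorem orderOf_rb : orderOf rb = 8 := by
  apply (orderOf_eq_iff (by norm_num)).mpr
  refine ⟨rb_pow, fun m hm hm0 h => ?_⟩
  exact rb_pow_ne ⟨m, hm⟩ (by simpa using hm0.ne') (tables_eq (pow_tab rb_tab m) one_tab h)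

theorem orderOf_comm_rs : orderOf ⁅rb, sb⁆ = 4 := by
  rw [comm_rs, orderOf_pow' rb (by norm_num), orderOf_rb]
  rfl

/-! ### the elementary abelian Sylow 3-subgroup -/

noncomputable def elE (p : Fin 3 × Fin 3) : G := xb ^ (p.1 : ℕ) * yb ^ (p.2 : ℕ)
def tabE (p : Fin 3 × Fin 3) : List ℕ := compT (powT xT p.1) (powT yT p.2)

theorem htabE (p : Fin 3 × Fin 3) : IsTable (tabE p) (elE p).1 :=
  mul_tab (pow_tab xb_tab _) (pow_tab yb_tab _)

theorem hmulE : ∀ p q : Fin 3 × Fin 3, ∃ t, compT (tabE p) (tabE q) = tabE t := by decide +kernel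
theorem honeE : ∃ p : Fin 3 × Fin 3, tabE p = idT := by decide +kernel
theorem hinvE : ∀ p : Fin 3 × Fin 3, ∃ t, invT (tabE p) = tabE t := by decide +kernel
theorem hinjE : ∀ p q : Fin 3 × Fin 3, tabE p = tabE q → p = q := by decide +kernel

noncomputable def E : Subgroup G := famSubgroup elE tabE htabE hmulE honeE hinvE

theorem card_E : Nat.card E = 9 := by
  rw [E, card_famSubgroup elE tabE htabE hmulE honeE hinvE hinjE]
  simp

theorem xy_comm : xb * yb = yb * xb :=
  eq_of_tables (mul_tab xb_tab yb_tab) (mul_tab yb_tab xb_tab) (by decide +kernel)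

theorem xb_pow : xb ^ 3 = 1 := eq_of_tables (pow_tab xb_tab 3) one_tab (by decide +kernel)

theorem twist_x : gb * xb * gb⁻¹ = xb⁻¹ :=
  eq_of_tables (mul_tab (mul_tab gb_tab xb_tab) (inv_tab gb_tab)) (inv_tab xb_tab)
    (by decide +kernel)

theorem twist_y : gb * yb * gb⁻¹ = yb :=
  eq_of_tables (mul_tab (mul_tab gb_tab yb_tab) (inv_tab gb_tab)) yb_tab (by decide +kernel)

/-! ### elements of order 5 and 11 -/

theorem g5_pow : g5 ^ 5 = 1 := eq_of_tables (pow_tab g5_tab 5) one_tab (by decide +kernel)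
theorem g5_ne : g5 ≠ 1 := fun h => by
  have := tables_eq g5_tab one_tab h
  revert this
  decide +kernel
theorem g11_pow : g11 ^ 11 = 1 := eq_of_tables (pow_tab g11_tab 11) one_tab (by decide +kernel)
theorem g11_ne : g11 ≠ 1 := fun h => by
  have := tables_eq g11_tab one_tab h
  revert this
  decide +kernel

theorem card_G : Nat.card G = 7920 := card_fixG_m12_1

theorem index_Q : Q.index = 495 := by
  have h := Subgroup.index_mul_card Q
  rw [card_G, card_Q] at h
  omega

theorem index_E : E.index = 880 := by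
  have h := Subgroup.index_mul_card E
  rw [card_G, card_E] at h
  omega

theorem index_g5 : (zpowers g5).index = 1584 := by
  have h := Subgroup.index_mul_card (zpowers g5)
  have : Fact (Nat.Prime 5) := ⟨by norm_num⟩
  have ho : orderOf g5 = 5 := orderOf_eq_prime g5_pow g5_ne
  rw [Nat.card_zpowers, ho, card_G] at h
  omega

theorem index_g11 : (zpowers g11).index = 720 := by
  have h := Subgroup.index_mul_card (zpowers g11)
  have : Fact (Nat.Prime 11) := ⟨by norm_num⟩
  have ho : orderOf g11 = 11 := orderOf_eq_prime g11_pow g11_ne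
  rw [Nat.card_zpowers, ho, card_G] at h
  omega

/-- Every finite stem extension of `M₁₁` is an isomorphism. -/
theorem ker_eq_bot {Γ : Type*} [Group Γ] [Finite Γ] (σ : Γ →* G)
    (hσ : Cfsg.IsStemExtension σ) : σ.ker = ⊥ := by
  obtain ⟨r, hr⟩ := hσ.1 rb
  obtain ⟨s, hs⟩ := hσ.1 sb
  obtain ⟨x, hx⟩ := hσ.1 xb
  obtain ⟨y, hy⟩ := hσ.1 yb
  obtain ⟨g, hg⟩ := hσ.1 gb
  -- the 2-part
  have hnorm : σ s * σ r * (σ s)⁻¹ ∈ zpowers (σ r) := by
    rw [hr, hs, conj_rb]
    exact Subgroup.npow_mem_zpowers _ 3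
  have hQf : ∀ a ∈ Q, a ∈ zpowers (σ r) ∨ (σ s)⁻¹ * a ∈ zpowers (σ r) := by
    intro a ha
    rw [hr, hs]
    obtain ⟨⟨e, k⟩, rfl⟩ := ha
    have he : ∀ e : Fin 2, e = 0 ∨ e = 1 := by decide
    rcases he e with rfl | rfl
    · left
      show sb ^ 0 * rb ^ (k : ℕ) ∈ _
      rw [pow_zero, one_mul]; exact Subgroup.npow_mem_zpowers _ _
    · right
      show sb⁻¹ * (sb ^ 1 * rb ^ (k : ℕ)) ∈ _
      rw [pow_one, inv_mul_cancel_left]; exact Subgroup.npow_mem_zpowers _ _
  have hleQ := StemBound.commutator_comap_le_zpowers σ hσ r s Q hQf hnorm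
  have hc4 : ⁅r, s⁆ ^ 4 = 1 :=
    StemBound.commElt_pow_eq_one_of_sq σ hσ r s hnorm 1 4 (by rw [hr, hs, sr_sq])
  have hσc : σ ⁅r, s⁆ = ⁅rb, sb⁆ := by rw [map_commutatorElement, hr, hs]
  have hordc : orderOf (σ ⁅r, s⁆) = 4 := by rw [hσc, orderOf_comm_rs]
  -- the 3-part
  have hcomm : σ x * σ y = σ y * σ x := by rw [hx, hy, xy_comm]
  have hEf : ∀ a ∈ E, ∃ i j : ℕ, a = σ x ^ i * σ y ^ j := by
    rintro a ⟨⟨i, j⟩, rfl⟩
    exact ⟨i, j, by rw [hx, hy]; rfl⟩
  have hleE := StemBound.commutator_comap_le_zpowers_of_comm σ hσ x y E hcomm hEf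
  have hd1 : ⁅x, y⁆ = 1 :=
    StemBound.commElt_eq_one_of_twist σ hσ x y g hcomm (by rw [hg, hx, twist_x])
      (by rw [hg, hy, twist_y]) 3 (by decide) (by rw [hx, xb_pow])
  rw [eq_bot_iff]
  intro z hz
  rw [Subgroup.mem_bot]
  have h495 : z ^ 495 = 1 := by
    have h1 := hleQ (index_Q ▸ StemBound.ker_pow_index_mem σ hσ Q hz)
    have h2 := StemBound.mem_zpowers_pow_of_mem_ker σ ⁅r, s⁆ (pow_mem hz 495) h1
    rw [hordc, hc4, Subgroup.zpowers_one_eq_bot, Subgroup.mem_bot] at h2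
    exact h2
  have h880 : z ^ 880 = 1 := by
    have h1 := hleE (index_E ▸ StemBound.ker_pow_index_mem σ hσ E hz)
    rw [hd1, Subgroup.zpowers_one_eq_bot, Subgroup.mem_bot] at h1
    exact h1
  have h1584 : z ^ 1584 = 1 := index_g5 ▸ StemBound.ker_pow_index_zpowers σ hσ g5 hz
  have h720 : z ^ 720 = 1 := index_g11 ▸ StemBound.ker_pow_index_zpowers σ hσ g11 hz
  have ha : z ^ 55 = 1 := by
    have := (pow_gcd_eq_one (a := z) (m := 495) (n := 880)).mpr ⟨h495, h880⟩
    simpa using this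
  have hb : z ^ 144 = 1 := by
    have := (pow_gcd_eq_one (a := z) (m := 1584) (n := 720)).mpr ⟨h1584, h720⟩
    simpa using this
  have := (pow_gcd_eq_one (a := z) (m := 55) (n := 144)).mpr ⟨ha, hb⟩
  simpa using this

end Cfsg.Agent.Helper96.StemMEleven
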