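import Mathlib
import Cfsg.Agent.Helper96.AltStemA

/-!
# Three-cycles and double transpositions: the permutation identities used for canonical lifts
-/

set_option autoImplicit false

namespace Cfsg.Agent.Helper96.AltStem

open Equiv Equiv.Perm

variable {α : Type*} [DecidableEq α]

/-- the 3-cycle `a → b → c → a` -/
def c3 (a b c : α) : Perm α := swap a b * swap b c

/-- the double transposition `(a b)(u v)` -/
def dt (a b u v : α) : Perm α := swap a b * swap u v

theorem conj_c3 (g : Perm α) (a b c : α) : g * c3 a b c * g⁻¹ = c3 (g a) (g b) (g c) := by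
  unfold c3
  rw [swap_apply_apply, swap_apply_apply]
  group

theorem conj_dt (g : Perm α) (a b u v : α) : g * dt a b u v * g⁻¹ = dt (g a) (g b) (g u) (g v) := by
  unfold dt
  rw [swap_apply_apply, swap_apply_apply]
  group

theorem dt_comm_left (a b u v : α) : dt b a u v = dt a b u v := by
  unfold dt; rw [swap_comm]

theorem c3_pow_three {a b c : α} (h : [a, b, c].Nodup) : c3 a b c ^ 3 = 1 := by
  unfold c3
  ext x
  simp only [pow_succ, pow_zero, one_mul, Perm.mul_apply, Perm.one_apply, swap_apply_def]
  grind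

theorem c3_inv {a b c : α} (h : [a, b, c].Nodup) : c3 b a c = (c3 a b c)⁻¹ := by
  unfold c3
  rw [eq_inv_iff_mul_eq_one]
  ext x
  simp only [Perm.mul_apply, Perm.one_apply, swap_apply_def]
  grind

theorem dt_apply_left {a b u v : α} (h : [a, b, u, v].Nodup) : dt a b u v a = b := by
  unfold dt
  simp only [Perm.mul_apply, swap_apply_def]
  grind

theorem dt_apply_right {a b u v : α} (h : [a, b, u, v].Nodup) : dt a b u v b = a := by
  unfold dt
  simp only [Perm.mul_apply, swap_apply_def]
  grind

theorem dt_apply_left' {a b u v : α} (h : [a, b, u, v].Nodup) : dt a b u v u = v := by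
  unfold dt
  simp only [Perm.mul_apply, swap_apply_def]
  grind

theorem dt_apply_right' {a b u v : α} (h : [a, b, u, v].Nodup) : dt a b u v v = u := by
  unfold dt
  simp only [Perm.mul_apply, swap_apply_def]
  grind

theorem dt_apply_of_ne {a b u v c : α} (h1 : c ≠ a) (h2 : c ≠ b) (h3 : c ≠ u) (h4 : c ≠ v) :
    dt a b u v c = c := by
  unfold dt
  simp only [Perm.mul_apply, swap_apply_def]
  grind

/-- `(a b)(u v)` inverts `(a b c)` -/
theorem dt_conj_c3 {a b c u v : α} (h : [a, b, c, u, v].Nodup) :
    dt a b u v * c3 a b c * (dt a b u v)⁻¹ = (c3 a b c)⁻¹ := by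
  have h1 : [a, b, u, v].Nodup := by simp only [List.nodup_cons, List.mem_cons] at h ⊢; grind
  have h2 : [a, b, c].Nodup := by simp only [List.nodup_cons, List.mem_cons] at h ⊢; grind
  rw [conj_c3, dt_apply_left h1, dt_apply_right h1, dt_apply_of_ne, c3_inv h2]
  all_goals simp only [List.nodup_cons, List.mem_cons] at h; grind

theorem c3_mul_c3_sq {a b c d : α} (h : [a, b, c, d].Nodup) : (c3 a b c * c3 a b d) ^ 2 = 1 := by
  unfold c3
  ext x
  simp only [pow_succ, pow_zero, one_mul, Perm.mul_apply, Perm.one_apply, swap_apply_def]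
  grind

theorem dt_sq {a b u v : α} (h : [a, b, u, v].Nodup) : dt a b u v ^ 2 = 1 := by
  unfold dt
  ext x
  simp only [pow_succ, pow_zero, one_mul, Perm.mul_apply, Perm.one_apply, swap_apply_def]
  grind

/-- permutations with disjoint "supports" commute -/
theorem dt_comm_c3 {a b c u v u' v' : α} (h : ∀ x ∈ [u, v, u', v'], x ≠ a ∧ x ≠ b ∧ x ≠ c) :
    (swap u v * swap u' v') * c3 a b c = c3 a b c * (swap u v * swap u' v') := by
  unfold c3
  ext x
  simp only [Perm.mul_apply, swap_apply_def]
  simp only [List.mem_cons, List.not_mem_nil, or_false, forall_eq_or_imp, forall_eq] at h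
  grind

theorem dt_inv_mul_dt {a b u v u' v' : α} (h : ∀ x ∈ [u, v, u', v'], x ≠ a ∧ x ≠ b) :
    (dt a b u v)⁻¹ * dt a b u' v' = swap u v * swap u' v' := by
  unfold dt
  rw [inv_mul_eq_iff_eq_mul]
  ext x
  simp only [Perm.mul_apply, swap_apply_def]
  simp only [List.mem_cons, List.not_mem_nil, or_false, forall_eq_or_imp, forall_eq] at h
  grind

section sign

variable [Fintype α]

theorem c3_mem_alt {a b c : α} (h : [a, b, c].Nodup) : c3 a b c ∈ alternatingGroup α := by
  have hab : a ≠ b := by simp only [List.nodup_cons, List.mem_cons] at h; grind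
  have hbc : b ≠ c := by simp only [List.nodup_cons, List.mem_cons] at h; grind
  rw [Perm.mem_alternatingGroup]
  unfold c3
  rw [Perm.sign_mul, Perm.sign_swap hab, Perm.sign_swap hbc]
  rfl

theorem dt_mem_alt {a b u v : α} (hab : a ≠ b) (huv : u ≠ v) : dt a b u v ∈ alternatingGroup α := by
  rw [Perm.mem_alternatingGroup]
  unfold dt
  rw [Perm.sign_mul, Perm.sign_swap hab, Perm.sign_swap huv]
  rfl

end sign

end Cfsg.Agent.Helper96.AltStem
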