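import Mathlib
import Cfsg.Agent.Helper96.AltStemB

/-!
# Canonical lifts of three-cycles in a central extension of the alternating group
-/

set_option autoImplicit false

namespace Cfsg.Agent.Helper96.AltStem

open Equiv Equiv.Perm
open scoped commutatorElement

variable {α : Type*} [DecidableEq α] [Fintype α] {Γ : Type*} [Group Γ] (ρ : Γ →* Perm α)

open Classical in
/-- a chosen preimage -/
noncomputable def lift (g : Perm α) : Γ :=
  if h : g ∈ ρ.range then Classical.choose h else 1

/-- the commutator of lifts of `(a b)(u v)` and `(a b c)` -/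
noncomputable def Lc (a b c u v : α) : Γ := ⁅lift ρ (dt a b u v), lift ρ (c3 a b c)⁆

theorem exists_two_notMem (hcard : 8 ≤ Fintype.card α) (S : Finset α) (hS : S.card ≤ 6) :
    ∃ w w', w ≠ w' ∧ w ∉ S ∧ w' ∉ S := by
  have h1 : 1 < Sᶜ.card := by
    rw [Finset.card_compl]; omega
  obtain ⟨w, hw, w', hw', hne⟩ := Finset.one_lt_card.mp h1
  exact ⟨w, w', hne, Finset.mem_compl.mp hw, Finset.mem_compl.mp hw'⟩

variable (hr : ρ.range = alternatingGroup α) (hc : ρ.ker ≤ Subgroup.center Γ)

include hr in
theorem map_lift {g : Perm α} (hg : g ∈ alternatingGroup α) : ρ (lift ρ g) = g := by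
  have h : g ∈ ρ.range := by rw [hr]; exact hg
  unfold lift
  rw [dif_pos h]
  exact Classical.choose_spec h

include hr hc

theorem Lc_eq {a b c u v : α} (h : [a, b, c, u, v].Nodup) {s x : Γ} (hs : ρ s = dt a b u v)
    (hx : ρ x = c3 a b c) : Lc ρ a b c u v = ⁅s, x⁆ := by
  have hab : a ≠ b := by simp only [List.nodup_cons, List.mem_cons] at h; grind
  have huv : u ≠ v := by simp only [List.nodup_cons, List.mem_cons] at h; grind
  have h3 : [a, b, c].Nodup := by simp only [List.nodup_cons, List.mem_cons] at h ⊢; grind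
  unfold Lc
  apply comm_congr ρ hc
  · rw [map_lift ρ hr (dt_mem_alt hab huv), hs]
  · rw [map_lift ρ hr (c3_mem_alt h3), hx]

theorem Lc_inverts {a b c u v : α} (h : [a, b, c, u, v].Nodup) :
    ρ (lift ρ (dt a b u v)) * ρ (lift ρ (c3 a b c)) * (ρ (lift ρ (dt a b u v)))⁻¹ =
      (ρ (lift ρ (c3 a b c)))⁻¹ := by
  have hab : a ≠ b := by simp only [List.nodup_cons, List.mem_cons] at h; grind
  have huv : u ≠ v := by simp only [List.nodup_cons, List.mem_cons] at h; grind
  have h3 : [a, b, c].Nodup := by simp only [List.nodup_cons, List.mem_cons] at h ⊢; grind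
  rw [map_lift ρ hr (dt_mem_alt hab huv), map_lift ρ hr (c3_mem_alt h3)]
  exact dt_conj_c3 h

theorem Lc_spec {a b c u v : α} (h : [a, b, c, u, v].Nodup) :
    ρ (Lc ρ a b c u v) = c3 a b c ∧ (Lc ρ a b c u v ^ 4) ^ 3 = 1 ∧
      ρ (Lc ρ a b c u v ^ 4) = c3 a b c := by
  have h3 : [a, b, c].Nodup := by simp only [List.nodup_cons, List.mem_cons] at h ⊢; grind
  have hx := map_lift ρ hr (c3_mem_alt h3)
  have h1 := inverter_lift ρ hc (Lc_inverts ρ hr hc h) (by rw [hx]; exact c3_pow_three h3)
  rw [hx] at h1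
  exact h1

theorem conj_Lc {a b c u v : α} (h : [a, b, c, u, v].Nodup) (γ : Γ) :
    γ * Lc ρ a b c u v * γ⁻¹ = Lc ρ (ρ γ a) (ρ γ b) (ρ γ c) (ρ γ u) (ρ γ v) := by
  have hab : a ≠ b := by simp only [List.nodup_cons, List.mem_cons] at h; grind
  have huv : u ≠ v := by simp only [List.nodup_cons, List.mem_cons] at h; grind
  have h3 : [a, b, c].Nodup := by simp only [List.nodup_cons, List.mem_cons] at h ⊢; grind
  have h' : [ρ γ a, ρ γ b, ρ γ c, ρ γ u, ρ γ v].Nodup := by
    have := List.Nodup.map (ρ γ).injective h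
    simpa using this
  unfold Lc
  rw [conj_comm ρ hc]
  symm
  apply Lc_eq ρ hr hc h'
  · rw [map_mul, map_mul, map_inv, map_lift ρ hr (dt_mem_alt hab huv), conj_dt]
  · rw [map_mul, map_mul, map_inv, map_lift ρ hr (c3_mem_alt h3), conj_c3]

theorem Lc_swap {a b c u v : α} (h : [a, b, c, u, v].Nodup) :
    Lc ρ b a c u v = (Lc ρ a b c u v)⁻¹ := by
  have hab : a ≠ b := by simp only [List.nodup_cons, List.mem_cons] at h; grind
  have huv : u ≠ v := by simp only [List.nodup_cons, List.mem_cons] at h; grind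
  have h3 : [a, b, c].Nodup := by simp only [List.nodup_cons, List.mem_cons] at h ⊢; grind
  have h' : [b, a, c, u, v].Nodup := by simp only [List.nodup_cons, List.mem_cons] at h ⊢; grind
  have e := (inverter ρ hc (Lc_inverts ρ hr hc h)).2
  unfold Lc at e ⊢
  rw [← e]
  apply Lc_eq ρ hr hc h'
  · rw [map_lift ρ hr (dt_mem_alt hab huv), dt_comm_left]
  · rw [map_inv, map_lift ρ hr (c3_mem_alt h3), c3_inv h3]

/-- lifts of a 3-cycle and of a disjoint double transposition commute -/
theorem comm_triv2 {a b c u v u' v' : α} (h : [a, b, c, u, v, u', v'].Nodup) {γ x : Γ}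
    (hγ : ρ γ = swap u v * swap u' v') (hx : ρ x = c3 a b c) : ⁅γ, x⁆ = 1 := by
  have h3 : [a, b, c].Nodup := by simp only [List.nodup_cons, List.mem_cons] at h ⊢; grind
  have h4 : [u, v, u', v'].Nodup := by simp only [List.nodup_cons, List.mem_cons] at h ⊢; grind
  have hcomm : ρ γ * ρ x = ρ x * ρ γ := by
    rw [hγ, hx]
    apply dt_comm_c3
    simp only [List.nodup_cons, List.mem_cons, List.not_mem_nil, or_false] at h ⊢
    grind
  have h2 : ρ γ ^ 2 = 1 := by
    rw [hγ]
    exact dt_sq h4
  have h3' : ρ x ^ 3 = 1 := by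
    rw [hx]
    exact c3_pow_three h3
  exact comm_eq_one_of_coprime ρ hc hcomm h2 h3' (by norm_num)

/-- lifts of disjoint 3-cycles commute (degree at least 8) -/
theorem comm_triv3 (hcard : 8 ≤ Fintype.card α) {a b c p q r : α} (h : [a, b, c, p, q, r].Nodup)
    {γ x : Γ} (hγ : ρ γ = c3 p q r) (hx : ρ x = c3 a b c) : ⁅γ, x⁆ = 1 := by
  have h3 : [a, b, c].Nodup := by simp only [List.nodup_cons, List.mem_cons] at h ⊢; grind
  obtain ⟨w, w', hww, hw, hw'⟩ := exists_two_notMem hcard {a, b, c, p, q, r} (by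
    refine (Finset.card_le_six (a := a) (b := b) (c := c) (d := p) (e := q) (f := r)))
  simp only [Finset.mem_insert, Finset.mem_singleton, not_or] at hw hw'
  have h5 : [a, b, c, w, w'].Nodup := by
    simp only [List.nodup_cons, List.mem_cons, List.not_mem_nil, or_false] at h ⊢
    grind
  have hab : a ≠ b := by simp only [List.nodup_cons, List.mem_cons] at h; grind
  have hg := map_lift ρ hr (dt_mem_alt hab hww)
  have hcomm : ρ x * ρ γ = ρ γ * ρ x := by
    rw [hγ, hx]
    unfold c3
    ext y
    simp only [Perm.mul_apply, swap_apply_def]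
    simp only [List.nodup_cons, List.mem_cons, List.not_mem_nil, or_false] at h
    grind
  have h1 : ⁅x, γ⁆ = 1 := by
    apply comm_eq_one_of_twist ρ hc (g := lift ρ (dt a b w w')) hcomm _ _ (by decide : Odd 3)
    · rw [hx]; exact c3_pow_three h3
    · rw [hg, hx]; exact dt_conj_c3 h5
    · rw [hg, hγ, conj_c3]
      simp only [List.nodup_cons, List.mem_cons, List.not_mem_nil, or_false] at h
      rw [dt_apply_of_ne, dt_apply_of_ne, dt_apply_of_ne] <;> grind
  rw [← commutatorElement_inv, h1, inv_one]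

/-- lifts of `(u v)(u' v')` commute with lifts of the disjoint 3-cycle `(a b c)` -/
theorem comm_triv (hcard : 8 ≤ Fintype.card α) {a b c u v u' v' : α} (h : [a, b, c, u, v].Nodup)
    (h' : [a, b, c, u', v'].Nodup) {γ x : Γ} (hγ : ρ γ = swap u v * swap u' v')
    (hx : ρ x = c3 a b c) : ⁅γ, x⁆ = 1 := by
  simp only [List.nodup_cons, List.mem_cons, List.not_mem_nil, or_false] at h h'
  rcases eq_or_ne u u' with rfl | h1
  · rcases eq_or_ne v v' with rfl | h2
    · apply comm_eq_one_of_mem_ker_left ρ hc
      rw [MonoidHom.mem_ker, hγ, swap_mul_self]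
    · rw [swap_comm u v] at hγ
      apply comm_triv3 ρ hr hc hcard (p := v) (q := u) (r := v') _ hγ hx
      simp only [List.nodup_cons, List.mem_cons, List.not_mem_nil, or_false]
      grind
  · rcases eq_or_ne v v' with rfl | h2
    · rw [swap_comm u' v] at hγ
      apply comm_triv3 ρ hr hc hcard (p := u) (q := v) (r := u') _ hγ hx
      simp only [List.nodup_cons, List.mem_cons, List.not_mem_nil, or_false]
      grind
    · rcases eq_or_ne u v' with rfl | h3
      · rcases eq_or_ne v u' with rfl | h4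
        · apply comm_eq_one_of_mem_ker_left ρ hc
          rw [MonoidHom.mem_ker, hγ, swap_comm v u, swap_mul_self]
        · rw [swap_comm u v, swap_comm u' u] at hγ
          apply comm_triv3 ρ hr hc hcard (p := v) (q := u) (r := u') _ hγ hx
          simp only [List.nodup_cons, List.mem_cons, List.not_mem_nil, or_false]
          grind
      · rcases eq_or_ne v u' with rfl | h4
        · apply comm_triv3 ρ hr hc hcard (p := u) (q := v) (r := v') _ hγ hx
          simp only [List.nodup_cons, List.mem_cons, List.not_mem_nil, or_false]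
          grind
        · apply comm_triv2 ρ hr hc (u := u) (v := v) (u' := u') (v' := v') _ hγ hx
          simp only [List.nodup_cons, List.mem_cons, List.not_mem_nil, or_false]
          grind

/-- the commutator `Lc` does not depend on the auxiliary points -/
theorem Lc_indep (hcard : 8 ≤ Fintype.card α) {a b c u v u' v' : α} (h : [a, b, c, u, v].Nodup)
    (h' : [a, b, c, u', v'].Nodup) : Lc ρ a b c u v = Lc ρ a b c u' v' := by
  have hab : a ≠ b := by simp only [List.nodup_cons, List.mem_cons] at h; grind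
  have huv : u ≠ v := by simp only [List.nodup_cons, List.mem_cons] at h; grind
  have huv' : u' ≠ v' := by simp only [List.nodup_cons, List.mem_cons] at h'; grind
  have h3 : [a, b, c].Nodup := by simp only [List.nodup_cons, List.mem_cons] at h ⊢; grind
  set s := lift ρ (dt a b u v) with hs
  set s' := lift ρ (dt a b u' v') with hs'
  set x := lift ρ (c3 a b c) with hx
  have hρs : ρ s = dt a b u v := map_lift ρ hr (dt_mem_alt hab huv)
  have hρs' : ρ s' = dt a b u' v' := map_lift ρ hr (dt_mem_alt hab huv')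
  have hρx : ρ x = c3 a b c := map_lift ρ hr (c3_mem_alt h3)
  have hρc : ρ (s⁻¹ * s') = swap u v * swap u' v' := by
    rw [map_mul, map_inv, hρs, hρs']
    apply dt_inv_mul_dt
    simp only [List.nodup_cons, List.mem_cons, List.not_mem_nil, or_false] at h h' ⊢
    grind
  have hcomm : ρ (s⁻¹ * s') * ρ x = ρ x * ρ (s⁻¹ * s') := by
    rw [hρc, hρx]
    apply dt_comm_c3
    simp only [List.nodup_cons, List.mem_cons, List.not_mem_nil, or_false] at h h' ⊢
    grind
  have e : s' = s * (s⁻¹ * s') := by group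
  show ⁅s, x⁆ = ⁅s', x⁆
  rw [e, comm_mul_left ρ hc s hcomm, comm_triv ρ hr hc hcard h h' hρc hρx, mul_one]

end Cfsg.Agent.Helper96.AltStem
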