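import Mathlib
import Cfsg.Agent.Helper96.AltStemC
import Cfsg.Agent.Helper38.AltStemH

/-!
# The canonical lifts of the 3-cycles `(p0 p1 a)` and their relations
-/

set_option autoImplicit false

namespace Cfsg.Agent.Helper96.AltStem

open Equiv Equiv.Perm
open scoped commutatorElement

variable {α : Type*} [DecidableEq α] [Fintype α] {Γ : Type*} [Group Γ] (ρ : Γ →* Perm α)

open Classical in
/-- the canonical lift of the 3-cycle `(p0 p1 a)` -/
noncomputable def Yc (p0 p1 a : α) : Γ :=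
  if h : ∃ u v, [p0, p1, a, u, v].Nodup then
    (Lc ρ p0 p1 a (Classical.choose h) (Classical.choose (Classical.choose_spec h))) ^ 4
  else 1

variable (hr : ρ.range = alternatingGroup α) (hc : ρ.ker ≤ Subgroup.center Γ)
  (hcard : 8 ≤ Fintype.card α)

include hr hc hcard

theorem Yc_eq {p0 p1 a u v : α} (h : [p0, p1, a, u, v].Nodup) :
    Yc ρ p0 p1 a = Lc ρ p0 p1 a u v ^ 4 := by
  have hex : ∃ u v, [p0, p1, a, u, v].Nodup := ⟨u, v, h⟩
  unfold Yc
  rw [dif_pos hex]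
  congr 1
  exact Lc_indep ρ hr hc hcard (Classical.choose_spec (Classical.choose_spec hex)) h

theorem exists_aux {p0 p1 a : α} (h : [p0, p1, a].Nodup) : ∃ u v, [p0, p1, a, u, v].Nodup := by
  obtain ⟨w, w', hww, hw, hw'⟩ := exists_two_notMem hcard {p0, p1, a} (by
    exact (Finset.card_le_three (a := p0) (b := p1) (c := a)).trans (by norm_num))
  simp only [Finset.mem_insert, Finset.mem_singleton, not_or] at hw hw'
  refine ⟨w, w', ?_⟩
  simp only [List.nodup_cons, List.mem_cons, List.not_mem_nil, or_false] at h ⊢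
  grind

theorem Yc_spec {p0 p1 a : α} (h : [p0, p1, a].Nodup) :
    ρ (Yc ρ p0 p1 a) = c3 p0 p1 a ∧ Yc ρ p0 p1 a ^ 3 = 1 := by
  obtain ⟨u, v, huv⟩ := exists_aux ρ hr hc hcard h
  rw [Yc_eq ρ hr hc hcard huv]
  have := Lc_spec ρ hr hc huv
  exact ⟨this.2.2, this.2.1⟩

theorem conj_Yc {p0 p1 a : α} (h : [p0, p1, a].Nodup) (γ : Γ) (h0 : ρ γ p0 = p0)
    (h1 : ρ γ p1 = p1) : γ * Yc ρ p0 p1 a * γ⁻¹ = Yc ρ p0 p1 (ρ γ a) := by
  obtain ⟨u, v, huv⟩ := exists_aux ρ hr hc hcard h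
  have h' : [p0, p1, ρ γ a, ρ γ u, ρ γ v].Nodup := by
    have := List.Nodup.map (ρ γ).injective huv
    simpa [h0, h1] using this
  rw [Yc_eq ρ hr hc hcard huv, Yc_eq ρ hr hc hcard h', ← conj_pow, conj_Lc ρ hr hc huv, h0, h1]

theorem conj_Yc_swap {p0 p1 a : α} (h : [p0, p1, a].Nodup) (γ : Γ) (h0 : ρ γ p0 = p1)
    (h1 : ρ γ p1 = p0) : γ * Yc ρ p0 p1 a * γ⁻¹ = (Yc ρ p0 p1 (ρ γ a))⁻¹ := by
  obtain ⟨u, v, huv⟩ := exists_aux ρ hr hc hcard h
  have h' : [p1, p0, ρ γ a, ρ γ u, ρ γ v].Nodup := by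
    have := List.Nodup.map (ρ γ).injective huv
    simpa [h0, h1] using this
  have h'' : [p0, p1, ρ γ a, ρ γ u, ρ γ v].Nodup := by
    simp only [List.nodup_cons, List.mem_cons, List.not_mem_nil, or_false] at h' ⊢
    grind
  rw [Yc_eq ρ hr hc hcard huv, Yc_eq ρ hr hc hcard h'', ← conj_pow, conj_Lc ρ hr hc huv, h0, h1,
    Lc_swap ρ hr hc h'', inv_pow]

/-- the pair element -/
theorem pair_mem_ker {p0 p1 a d : α} (h : [p0, p1, a, d].Nodup) :
    (Yc ρ p0 p1 a * Yc ρ p0 p1 d) ^ 2 ∈ ρ.ker := by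
  have ha : [p0, p1, a].Nodup := by
    simp only [List.nodup_cons, List.mem_cons, List.not_mem_nil, or_false] at h ⊢; grind
  have hd : [p0, p1, d].Nodup := by
    simp only [List.nodup_cons, List.mem_cons, List.not_mem_nil, or_false] at h ⊢; grind
  rw [MonoidHom.mem_ker, map_pow, map_mul, (Yc_spec ρ hr hc hcard ha).1,
    (Yc_spec ρ hr hc hcard hd).1]
  exact c3_mul_c3_sq h

theorem pair_eq {p0 p1 a d a' d' : α} (h : [p0, p1, a, d].Nodup) (h' : [p0, p1, a', d'].Nodup) :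
    (Yc ρ p0 p1 a * Yc ρ p0 p1 d) ^ 2 = (Yc ρ p0 p1 a' * Yc ρ p0 p1 d') ^ 2 := by
  have ha : [p0, p1, a].Nodup := by
    simp only [List.nodup_cons, List.mem_cons, List.not_mem_nil, or_false] at h ⊢; grind
  have hd : [p0, p1, d].Nodup := by
    simp only [List.nodup_cons, List.mem_cons, List.not_mem_nil, or_false] at h ⊢; grind
  obtain ⟨g, hg, g0, g1, ga, gd⟩ := Cfsg.Agent.Helper38.AltStem.exists_alt_map (by omega) h h'
  obtain ⟨γ, rfl⟩ : g ∈ ρ.range := by rw [hr]; exact hg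
  have e1 := conj_Yc ρ hr hc hcard ha γ g0 g1
  have e2 := conj_Yc ρ hr hc hcard hd γ g0 g1
  rw [ga] at e1
  rw [gd] at e2
  rw [← e1, ← e2, conj_mul, conj_pow, conj_ker ρ hc (pair_mem_ker ρ hr hc hcard h)]

theorem pair_sq {p0 p1 a d : α} (h : [p0, p1, a, d].Nodup) :
    ((Yc ρ p0 p1 a * Yc ρ p0 p1 d) ^ 2) ^ 2 = 1 := by
  have ha : [p0, p1, a].Nodup := by
    simp only [List.nodup_cons, List.mem_cons, List.not_mem_nil, or_false] at h ⊢; grind
  have hd : [p0, p1, d].Nodup := by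
    simp only [List.nodup_cons, List.mem_cons, List.not_mem_nil, or_false] at h ⊢; grind
  have h01 : p0 ≠ p1 := by
    simp only [List.nodup_cons, List.mem_cons, List.not_mem_nil, or_false] at h; grind
  have had : a ≠ d := by
    simp only [List.nodup_cons, List.mem_cons, List.not_mem_nil, or_false] at h; grind
  set γ := lift ρ (dt p0 p1 a d) with hγ
  have hργ : ρ γ = dt p0 p1 a d := map_lift ρ hr (dt_mem_alt h01 had)
  have e1 := conj_Yc_swap ρ hr hc hcard ha γ (by rw [hργ]; exact dt_apply_left h)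
    (by rw [hργ]; exact dt_apply_right h)
  have e2 := conj_Yc_swap ρ hr hc hcard hd γ (by rw [hργ]; exact dt_apply_left h)
    (by rw [hργ]; exact dt_apply_right h)
  rw [hργ, dt_apply_left' h] at e1
  rw [hργ, dt_apply_right' h] at e2
  have hk := conj_ker ρ hc (pair_mem_ker ρ hr hc hcard h) γ
  rw [← conj_pow, ← conj_mul, e1, e2, ← mul_inv_rev, inv_pow] at hk
  rw [pow_two]
  nth_rewrite 1 [← hk]
  exact inv_mul_cancel _

end Cfsg.Agent.Helper96.AltStem
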