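import Mathlib
import Cfsg.Agent.Helper96.AltStemD
import Cfsg.Agent.Helper80.AltStemA
import Cfsg.Agent.Helper38.AltStemE

/-!
# Stem extensions of `A_n`, `n ≥ 8`, have kernel of order at most two
-/

set_option autoImplicit false

namespace Cfsg.Agent.Helper96.AltStem

open Equiv Equiv.Perm
open scoped commutatorElement

variable {α : Type*} [DecidableEq α] [Fintype α] {Γ : Type*} [Group Γ] (ρ : Γ →* Perm α)

theorem exists_four (hcard : 4 ≤ Fintype.card α) : ∃ p0 p1 a d : α, [p0, p1, a, d].Nodup := by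
  let e := (Fintype.equivFin α).symm
  refine ⟨e ⟨0, by omega⟩, e ⟨1, by omega⟩, e ⟨2, by omega⟩, e ⟨3, by omega⟩, ?_⟩
  have h : ([⟨0, by omega⟩, ⟨1, by omega⟩, ⟨2, by omega⟩, ⟨3, by omega⟩] :
      List (Fin (Fintype.card α))).Nodup := by
    simp [Fin.ext_iff]
  have := List.Nodup.map e.injective h
  simpa using this

variable (hr : ρ.range = alternatingGroup α) (hc : ρ.ker ≤ Subgroup.center Γ)
  (hcard : 8 ≤ Fintype.card α)

include hr hc hcard

/-- the canonical lifts generate -/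
theorem closure_Yc_eq_top (hd : ρ.ker ≤ commutator Γ) {p0 p1 : α} (h01 : p0 ≠ p1) :
    Subgroup.closure {γ : Γ | ∃ a, a ≠ p0 ∧ a ≠ p1 ∧ γ = Yc ρ p0 p1 a} = ⊤ := by
  set S : Set Γ := {γ : Γ | ∃ a, a ≠ p0 ∧ a ≠ p1 ∧ γ = Yc ρ p0 p1 a} with hS
  set Δ := Subgroup.closure S with hΔ
  have himg : ρ '' S = {g : Perm α | ∃ a : α, a ≠ p0 ∧ a ≠ p1 ∧ g = swap p0 p1 * swap p1 a} := by
    ext g
    constructor
    · rintro ⟨_, ⟨a, ha0, ha1, rfl⟩, rfl⟩
      refine ⟨a, ha0, ha1, ?_⟩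
      have h3 : [p0, p1, a].Nodup := by
        simp only [List.nodup_cons, List.mem_cons, List.not_mem_nil, or_false]; grind
      exact (Yc_spec ρ hr hc hcard h3).1
    · rintro ⟨a, ha0, ha1, rfl⟩
      refine ⟨Yc ρ p0 p1 a, ⟨a, ha0, ha1, rfl⟩, ?_⟩
      have h3 : [p0, p1, a].Nodup := by
        simp only [List.nodup_cons, List.mem_cons, List.not_mem_nil, or_false]; grind
      exact (Yc_spec ρ hr hc hcard h3).1
  have hmap : Δ.map ρ = alternatingGroup α := by
    rw [hΔ, MonoidHom.map_closure, himg]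
    exact Cfsg.Agent.Helper38.AltStem.closure_c3_eq_alternating p0 p1 h01
  have hex : ∀ γ : Γ, ∃ δ ∈ Δ, ρ δ = ρ γ := by
    intro γ
    have : ρ γ ∈ Δ.map ρ := by
      rw [hmap, ← hr]
      exact ⟨γ, rfl⟩
    obtain ⟨δ, hδ, h⟩ := this
    exact ⟨δ, hδ, h⟩
  have hcomm : commutator Γ ≤ Δ := by
    rw [commutator_def, Subgroup.commutator_le]
    intro g₁ _ g₂ _
    obtain ⟨δ₁, hδ₁, h₁⟩ := hex g₁
    obtain ⟨δ₂, hδ₂, h₂⟩ := hex g₂
    rw [comm_congr ρ hc h₁.symm h₂.symm]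
    rw [commutatorElement_def]
    exact Δ.mul_mem (Δ.mul_mem (Δ.mul_mem hδ₁ hδ₂) (Δ.inv_mem hδ₁)) (Δ.inv_mem hδ₂)
  rw [eq_top_iff]
  intro γ _
  obtain ⟨δ, hδ, h⟩ := hex γ
  have hk : δ⁻¹ * γ ∈ ρ.ker := by
    rw [MonoidHom.mem_ker, map_mul, map_inv, h, inv_mul_cancel]
  have : γ = δ * (δ⁻¹ * γ) := by group
  rw [this]
  exact Δ.mul_mem hδ (hcomm (hd hk))

omit hr hc hcard in
theorem card_subtype_ne_ne {p0 p1 : α} (h01 : p0 ≠ p1) :
    Fintype.card {a : α // a ≠ p0 ∧ a ≠ p1} = Fintype.card α - 2 := by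
  rw [Fintype.card_subtype]
  have : (Finset.univ.filter (fun a : α => a ≠ p0 ∧ a ≠ p1)) = (Finset.univ.erase p0).erase p1 := by
    ext a
    simp [and_comm]
  rw [this, Finset.card_erase_of_mem (by simp [h01.symm]), Finset.card_erase_of_mem (by simp),
    Finset.card_univ]
  omega

/-- **Main theorem**: a stem extension of `A_n`, `n ≥ 8`, has kernel of order at most two. -/
theorem card_ker_le_two [Finite Γ] (hd : ρ.ker ≤ commutator Γ) : Nat.card ρ.ker ≤ 2 := by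
  classical
  obtain ⟨p0, p1, a0, d0, h4⟩ := exists_four (α := α) (by omega)
  have h01 : p0 ≠ p1 := by
    simp only [List.nodup_cons, List.mem_cons, List.not_mem_nil, or_false] at h4; grind
  set b := (Yc ρ p0 p1 a0 * Yc ρ p0 p1 d0) ^ 2 with hb
  have hbk : b ∈ ρ.ker := pair_mem_ker ρ hr hc hcard h4
  have hb2 : b ^ 2 = 1 := pair_sq ρ hr hc hcard h4
  have hpair : ∀ a d, [p0, p1, a, d].Nodup → (Yc ρ p0 p1 a * Yc ρ p0 p1 d) ^ 2 = b :=
    fun a d h => pair_eq ρ hr hc hcard h h4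
  set N := Subgroup.zpowers b with hN
  have hNk : N ≤ ρ.ker := by
    rw [hN, Subgroup.zpowers_le]; exact hbk
  haveI hNn : N.Normal := by
    constructor
    intro n hn g
    rw [conj_ker ρ hc (hNk hn) g]
    exact hn
  set m := Fintype.card α - 2 with hm
  let f : Fin m ≃ {a : α // a ≠ p0 ∧ a ≠ p1} :=
    (Fintype.equivFinOfCardEq (card_subtype_ne_ne h01)).symm
  let X : ℕ → Γ ⧸ N := fun i =>
    if h : i < m then QuotientGroup.mk' N (Yc ρ p0 p1 (f ⟨i, h⟩).1) else 1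
  have hX : ∀ i (h : i < m), X i = QuotientGroup.mk' N (Yc ρ p0 p1 (f ⟨i, h⟩).1) := by
    intro i h
    simp only [X, dif_pos h]
  have h3 : ∀ i, i < m → X i ^ 3 = 1 := by
    intro i hi
    rw [hX i hi, ← map_pow]
    have h3' : [p0, p1, (f ⟨i, hi⟩).1].Nodup := by
      have := (f ⟨i, hi⟩).2
      simp only [List.nodup_cons, List.mem_cons, List.not_mem_nil, or_false]; grind
    rw [(Yc_spec ρ hr hc hcard h3').2, map_one]
  have h2 : ∀ i j, i < m → j < m → i ≠ j → (X i * X j) ^ 2 = 1 := by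
    intro i j hi hj hij
    rw [hX i hi, hX j hj, ← map_mul, ← map_pow]
    have hne : (f ⟨i, hi⟩).1 ≠ (f ⟨j, hj⟩).1 := by
      intro h
      apply hij
      have := f.injective (Subtype.ext h)
      exact Fin.mk.inj_iff.mp this
    have h4' : [p0, p1, (f ⟨i, hi⟩).1, (f ⟨j, hj⟩).1].Nodup := by
      have h1 := (f ⟨i, hi⟩).2
      have h2 := (f ⟨j, hj⟩).2
      simp only [List.nodup_cons, List.mem_cons, List.not_mem_nil, or_false]; grind
    rw [hpair _ _ h4']
    exact (QuotientGroup.eq_one_iff b).mpr (Subgroup.mem_zpowers b)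
  have hcl : Subgroup.closure (X '' Set.Iio m) = ⊤ := by
    have htop := closure_Yc_eq_top ρ hr hc hcard hd h01
    have h1 : (Subgroup.closure {γ : Γ | ∃ a, a ≠ p0 ∧ a ≠ p1 ∧ γ = Yc ρ p0 p1 a}).map
        (QuotientGroup.mk' N) = ⊤ := by
      rw [htop]
      exact Subgroup.map_top_of_surjective _ (QuotientGroup.mk'_surjective N)
    rw [MonoidHom.map_closure] at h1
    rw [eq_top_iff, ← h1]
    apply Subgroup.closure_mono
    rintro _ ⟨_, ⟨a, ha0, ha1, rfl⟩, rfl⟩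
    refine ⟨(f.symm ⟨a, ha0, ha1⟩).val, (f.symm ⟨a, ha0, ha1⟩).isLt, ?_⟩
    rw [hX _ (f.symm ⟨a, ha0, ha1⟩).isLt]
    simp
  obtain ⟨_, hbound⟩ := Cfsg.Agent.Helper80.AltStemA.card_closure_le X m h3 h2
  rw [hcl, Subgroup.card_top] at hbound
  have hm2 : m + 2 = Fintype.card α := by omega
  rw [hm2] at hbound
  -- counting
  have hNcard : Nat.card N ≤ 2 := by
    rw [hN, Nat.card_zpowers]
    exact orderOf_le_of_pow_eq_one (by norm_num) hb2
  have e1 := Subgroup.card_eq_card_quotient_mul_card_subgroup N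
  have e2 := Subgroup.card_eq_card_quotient_mul_card_subgroup ρ.ker
  have e3 : Nat.card (Γ ⧸ ρ.ker) = Nat.card (alternatingGroup α) := by
    rw [Nat.card_congr (QuotientGroup.quotientKerEquivRange ρ).toEquiv, hr]
  haveI : Nontrivial α := Fintype.one_lt_card_iff_nontrivial.mp (by omega)
  have e4 : 2 * Nat.card (alternatingGroup α) = (Fintype.card α).factorial := by
    rw [two_mul_nat_card_alternatingGroup, Nat.card_perm, Nat.card_eq_fintype_card]
  have hpos : 0 < Nat.card (alternatingGroup α) := Nat.card_pos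
  rw [e3] at e2
  have hQpos : 0 < Nat.card (Γ ⧸ N) := Nat.card_pos
  -- |A| * |ker| = |Q| * |N| ≤ |Q| * 2 ≤ n! = 2 |A|
  have h5 : Nat.card (alternatingGroup α) * Nat.card ρ.ker ≤ Nat.card (alternatingGroup α) * 2 := by
    calc Nat.card (alternatingGroup α) * Nat.card ρ.ker = Nat.card (Γ ⧸ N) * Nat.card N := by
          rw [← e2, e1]
      _ ≤ Nat.card (Γ ⧸ N) * 2 := Nat.mul_le_mul_left _ hNcard
      _ ≤ (Fintype.card α).factorial := hbound
      _ = Nat.card (alternatingGroup α) * 2 := by rw [← e4, mul_comm]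
  exact Nat.le_of_mul_le_mul_left h5 hpos

end Cfsg.Agent.Helper96.AltStem
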