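import Mathlib

/-!
Helper96: if every generator of `G` lies in `N · ⟨f⟩` where `f` normalises `N`, then `⁅G, G⁆ ≤ N`.
-/

set_option autoImplicit false

namespace Cfsg.Agent.Helper96

open Subgroup
open scoped commutatorElement

theorem commutator_closure_le_of_normalizer {X : Type*} [Group X] (N : Subgroup X) (f : X)
    (hf : f ∈ (normalizer (N : Set X))) (S : Set X)
    (hS : ∀ s ∈ S, ∃ n ∈ N, ∃ k : ℕ, s = n * f ^ k) :
    ⁅closure S, closure S⁆ ≤ N := by
  classical
  have hNK : N ≤ (normalizer (N : Set X)) := le_normalizer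
  have : (N.subgroupOf (normalizer (N : Set X))).Normal := normal_in_normalizer
  let π : (normalizer (N : Set X)) →* (normalizer (N : Set X)) ⧸ N.subgroupOf (normalizer (N : Set X)) := QuotientGroup.mk' _
  let fK : (normalizer (N : Set X)) := ⟨f, hf⟩
  let Z : Subgroup (normalizer (N : Set X)) := (zpowers (π fK)).comap π
  have hSZ : closure S ≤ Z.map (normalizer (N : Set X)).subtype := by
    rw [closure_le]
    intro s hs
    obtain ⟨n, hn, k, rfl⟩ := hS s hs
    refine ⟨⟨n, hNK hn⟩ * fK ^ k, ?_, by simp [fK]⟩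
    show π (⟨n, hNK hn⟩ * fK ^ k) ∈ zpowers (π fK)
    rw [map_mul, map_pow]
    have h1 : π ⟨n, hNK hn⟩ = 1 := by
      rw [QuotientGroup.mk'_apply, QuotientGroup.eq_one_iff]
      exact hn
    rw [h1, one_mul]
    exact pow_mem (mem_zpowers _) k
  rw [commutator_le]
  intro x hx y hy
  obtain ⟨x', hx', rfl⟩ := hSZ hx
  obtain ⟨y', hy', rfl⟩ := hSZ hy
  have hcomm : π ⁅x', y'⁆ = 1 := by
    rw [map_commutatorElement]
    have h1 : π x' ∈ zpowers (π fK) := hx'
    have h2 : π y' ∈ zpowers (π fK) := hy'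
    obtain ⟨i, hi⟩ := mem_zpowers_iff.1 h1
    obtain ⟨j, hj⟩ := mem_zpowers_iff.1 h2
    rw [← hi, ← hj, commutatorElement_eq_one_iff_commute]
    exact ((Commute.refl (π fK)).zpow_left i).zpow_right j
  have h3 : ⁅x', y'⁆ ∈ N.subgroupOf (normalizer (N : Set X)) := by
    rwa [QuotientGroup.mk'_apply, QuotientGroup.eq_one_iff] at hcomm
  have h4 := mem_subgroupOf.1 h3
  rw [← map_commutatorElement]
  exact h4

/-- an element of finite order that conjugates `N` into itself normalises `N` -/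
theorem mem_normalizer_of_conj_mem_of_pow {X : Type*} [Group X] (N : Subgroup X) (f : X) (m : ℕ)
    (hm : f ^ (m + 1) = 1) (h : ∀ n ∈ N, f * n * f⁻¹ ∈ N) : f ∈ (normalizer (N : Set X)) := by
  rw [mem_normalizer_iff]
  intro n
  refine ⟨h n, fun hn => ?_⟩
  -- conjugating `m` more times brings us back
  have hpow : ∀ k : ℕ, ∀ x ∈ N, f ^ k * x * (f ^ k)⁻¹ ∈ N := by
    intro k
    induction k with
    | zero => intro x hx; simpa using hx
    | succ k ih =>
      intro x hx
      have := h _ (ih x hx)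
      have e : f ^ (k + 1) * x * (f ^ (k + 1))⁻¹ = f * (f ^ k * x * (f ^ k)⁻¹) * f⁻¹ := by
        rw [pow_succ']; group
      rw [e]; exact this
  have h5 := hpow m _ hn
  have e : f ^ m * (f * n * f⁻¹) * (f ^ m)⁻¹ = n := by
    have h6 : f ^ m * f = 1 := by rw [← pow_succ]; exact hm
    have h7 : f⁻¹ * (f ^ m)⁻¹ = 1 := by rw [← mul_inv_rev, h6, inv_one]
    calc f ^ m * (f * n * f⁻¹) * (f ^ m)⁻¹ = (f ^ m * f) * n * (f⁻¹ * (f ^ m)⁻¹) := by group
      _ = n := by rw [h6, h7, one_mul, mul_one]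
  rwa [e] at h5

end Cfsg.Agent.Helper96
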