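import Cfsg.Agent.Helper96.GTwoData

/-! Helper96: kernel-checked identities for `G₂(2)' ≅ PSU₃(3)`, part A (normal forms, points, coordinates). -/

set_option autoImplicit false
set_option maxRecDepth 100000

namespace Cfsg.Agent.Helper96.GTwo

open Cfsg Cfsg.Lie Cfsg.Agent.Helper98

theorem phi_one : phi 1 = 1 := by decide +kernel

theorem nf3_smul : ∀ s : GF9, s ≠ 0 → ∀ w : Pt, nf3 (s • w) = nf3 w := by decide +kernel

theorem nf3_eq_smul : ∀ w : Pt, ∃ s : GF9, s ≠ 0 ∧ nf3 w = s • w := by decide +kernel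

theorem nf3_nf3 : ∀ w : Pt, nf3 (nf3 w) = nf3 w := by decide +kernel

theorem herm_nf3 : ∀ w : Pt, hermForm 3 GF9 3 w w ≠ 0 → hermForm 3 GF9 3 (nf3 w) (nf3 w) ≠ 0 := by
  decide +kernel

theorem isPt_mem : ∀ p : Pt, IsPt p → pc p ∈ ptCodes ∧ ptOf (pc p) = p := by decide +kernel

theorem isPt_bpt : ∀ k : Fin 14, IsPt (bpt k) := by decide +kernel

theorem coef_eq : ∀ n ∈ ptCodes, ∀ k : Fin 14,
    ∑ b : I14, binv k b * v (ptOf n) b = cf (ptOf n) k := by decide +kernel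

end Cfsg.Agent.Helper96.GTwo
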