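import Cfsg.Agent.Helper96.GTwoEqui

/-! Helper96: kernel-checked identities for `G₂(2)' ≅ PSU₃(3)`, part C (equivariance, second half). -/

set_option autoImplicit false
set_option maxRecDepth 100000

namespace Cfsg.Agent.Helper96.GTwo

open Cfsg Cfsg.Lie Cfsg.Agent.Helper98

theorem equiC_tl2 : ∀ n ∈ tlCodes.drop 29, EquiC (matOf n) := by decide +kernel

end Cfsg.Agent.Helper96.GTwo
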