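import Cfsg.Agent.Helper96.GTwoData

/-! Helper96: kernel-checked identities for `G₂(2)' ≅ PSU₃(3)`, part D (transvections, conjugation by `f`,
words, root elements). -/

set_option autoImplicit false
set_option maxRecDepth 100000

namespace Cfsg.Agent.Helper96.GTwo

open Cfsg Cfsg.Lie Cfsg.Agent.Helper98

theorem transv_mem : ∀ vv : Pt, ∀ c : GF9, hermForm 3 GF9 3 vv vv = 0 →
    (vv = 0 ∨ c = 0 ∨ c ^ 2 = -1) → ∃ n ∈ tlCodes, unitaryTransvection 3 3 vv c = matOf n := by
  decide +kernel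

theorem tl_isU : ∀ n ∈ tlCodes, IsU (matOf n) := by decide +kernel

theorem conj_tl_mem : ∀ n ∈ tlCodes, ∃ n' ∈ tlCodes, conjF (matOf n) = matOf n' := by decide +kernel

theorem XG0_eq : ∀ r : Fin 12, XG0 r = 1 := by decide +kernel

theorem fm_sq : fm * fm = 1 := by decide +kernel

theorem XG_ne_one : XG 0 ≠ 1 := by decide +kernel

theorem gX_isU : ∀ r : Fin 12, IsU (gX r) := by decide +kernel

theorem XG_eq : ∀ r : Fin 12, XG r = DX r := by decide +kernel

end Cfsg.Agent.Helper96.GTwo
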