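import Cfsg.Agent.Helper96.GTwoData

/-! Helper96: kernel-checked identities for `G₂(2)' ≅ PSU₃(3)`, part F (conjugation by `f`, second third). -/

set_option autoImplicit false
set_option maxRecDepth 100000

namespace Cfsg.Agent.Helper96.GTwo

open Cfsg Cfsg.Lie Cfsg.Agent.Helper98

theorem conj_tl2 : ∀ n ∈ (tlCodes.drop 19).take 19, fm * phi (matOf n) = phi (conjF (matOf n)) * fm := by
  decide +kernel

end Cfsg.Agent.Helper96.GTwo
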