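import Mathlib
import Cfsg.Prelude.Def_ChevG2
import Cfsg.Prelude.Def_Classical
import Cfsg.Prelude.Def_ClassicalGeometry
import Cfsg.Agent.Helper96.GTwoCheckA
import Cfsg.Agent.Helper96.GTwoCheckB
import Cfsg.Agent.Helper96.GTwoCheckC
import Cfsg.Agent.Helper96.GTwoCheckD
import Cfsg.Agent.Helper96.GTwoCheckE
import Cfsg.Agent.Helper96.GTwoCheckF
import Cfsg.Agent.Helper96.GTwoCheckG
import Cfsg.Agent.Helper96.GTwoCheckH
import Cfsg.Agent.Helper96.GTwoCheckI
import Cfsg.Agent.Helper96.GTwoCheckJ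
import Cfsg.Agent.Helper96.CommGen
import Cfsg.Agent.Helper96.ChevMap
import Cfsg.Agent.Helper98.SUKit
import Cfsg.Agent.Helper96.SUEquiv
import Cfsg.Agent.S0279
import Cfsg.Agent.S0283
import Cfsg.Agent.S0779
import Cfsg.Agent.S0780
import Cfsg.Agent.S0781

/-!
Helper96: the derived subgroup of `G₂(2)` is isomorphic to `PSU₃(3)` (`GTwo.nonempty_mulEquiv`).
The group `SU₃(3)` (over the explicit field `GF9`) acts on the adjoint module of `G₂` over `ZMod 2` through the
63 long root vectors, which it permutes like the 63 non-isotropic points of the Hermitian plane.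
-/

set_option autoImplicit false

namespace Cfsg.Agent.Helper96.GTwo

open Cfsg Cfsg.Lie Cfsg.Agent.Helper98 Matrix
open scoped commutatorElement

/-- `3 × 3` matrices over the explicit field with nine elements -/
abbrev M3 := Matrix (Fin 3) (Fin 3) GF9

/-- `SU₃(3)` over the explicit field with nine elements -/
abbrev SU3 := Cfsg.SU 3 GF9 3

theorem card_GF9' : Fintype.card GF9 = 3 ^ 2 := by rw [card_GF9]; norm_num

/-- `phi M` moves the vectors `v p` like `M` moves the points -/
def Equi (M : M3) : Prop := ∀ p : Pt, IsPt p → (phi M).mulVec (v p) = v (act M p)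

theorem phi_mulVec_eq (M : M3) (p : Pt) (hp : IsPt p) (a : I14) :
    (phi M).mulVec (v p) a = ∑ k : Fin 14, cf p k * v (act M (bpt k)) a := by
  obtain ⟨hmem, hpt⟩ := isPt_mem p hp
  have hc := coef_eq (pc p) hmem
  rw [hpt] at hc
  show ∑ b, (∑ k : Fin 14, v (act M (bpt k)) a * binv k b) * v p b = _
  simp only [Finset.sum_mul]
  rw [Finset.sum_comm]
  refine Finset.sum_congr rfl fun k _ => ?_
  rw [← hc k, Finset.sum_mul]
  refine Finset.sum_congr rfl fun b _ => ?_
  ring

theorem equi_of_equiC {M : M3} (h : EquiC M) : Equi M := by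
  intro p hp
  obtain ⟨hmem, hpt⟩ := isPt_mem p hp
  have h1 := h (pc p) hmem
  rw [hpt] at h1
  rw [← h1]
  funext a
  exact phi_mulVec_eq M p hp a

theorem act_mul (A B : M3) (p : Pt) : act (A * B) p = act A (act B p) := by
  unfold act
  obtain ⟨s, hs, hw⟩ := nf3_eq_smul (B.mulVec p)
  rw [hw, Matrix.mulVec_smul, nf3_smul s hs, Matrix.mulVec_mulVec]

theorem isPt_act (A : SU3) (p : Pt) (hp : IsPt p) : IsPt (act (A.1.1) p) := by
  refine ⟨nf3_nf3 _, herm_nf3 _ ?_⟩
  have h : hermForm 3 GF9 3 ((A.1.1).mulVec p) ((A.1.1).mulVec p) = hermForm 3 GF9 3 p p := A.2 p p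
  rw [h]; exact hp.2

theorem equi_one : Equi (1 : M3) := by
  intro p hp
  rw [phi_one, Matrix.one_mulVec]
  unfold act
  rw [Matrix.one_mulVec, hp.1]

theorem phi_mul_of {A B : M3} (hA : Equi A) (hB : ∀ k, IsPt (act B (bpt k))) :
    phi (A * B) = phi A * phi B := by
  ext a b
  have h' : ∀ k, v (act A (act B (bpt k))) a = ∑ c, phi A a c * v (act B (bpt k)) c := by
    intro k
    rw [← hA _ (hB k)]
    rfl
  rw [Matrix.mul_apply]
  have e1 : phi (A * B) a b = ∑ k : Fin 14, v (act A (act B (bpt k))) a * binv k b := by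
    show ∑ k : Fin 14, v (act (A * B) (bpt k)) a * binv k b = _
    refine Finset.sum_congr rfl fun k _ => ?_
    rw [act_mul]
  have e2 : ∀ c, phi B c b = ∑ k : Fin 14, v (act B (bpt k)) c * binv k b := fun c => rfl
  rw [e1]
  simp only [e2, h', Finset.sum_mul, Finset.mul_sum]
  rw [Finset.sum_comm]
  refine Finset.sum_congr rfl fun c _ => Finset.sum_congr rfl fun k _ => ?_
  ring

theorem equi_mul {A : M3} (B : SU3) (hA : Equi A) (hB : Equi B.1.1) : Equi (A * B.1.1) := by
  intro p hp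
  rw [phi_mul_of hA (fun k => isPt_act B _ (isPt_bpt k)), ← Matrix.mulVec_mulVec, hB p hp,
    hA _ (isPt_act B p hp), act_mul]

theorem mem_split3 {α : Type*} {l : List α} {x : α} (hx : x ∈ l) :
    x ∈ l.take 19 ∨ x ∈ (l.drop 19).take 19 ∨ x ∈ (l.drop 19).drop 19 := by
  rw [← List.take_append_drop 19 l, List.mem_append] at hx
  rcases hx with h | h
  · exact Or.inl h
  · right
    rw [← List.take_append_drop 19 (l.drop 19), List.mem_append] at h
    exact h

theorem conj_tl : ∀ n ∈ tlCodes, fm * phi (matOf n) = phi (conjF (matOf n)) * fm := by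
  intro n hn
  rcases mem_split3 hn with h | h | h
  · exact conj_tl1 n h
  · exact conj_tl2 n h
  · exact conj_tl3 n h

theorem words_tl : ∀ e ∈ wordTable, phi (matOf e.1) = (e.2.map XG).prod := by
  intro e he
  rcases mem_split3 he with h | h | h
  · exact words_tl1 e h
  · exact words_tl2 e h
  · exact words_tl3 e h

theorem equiC_tl : ∀ n ∈ tlCodes, EquiC (matOf n) := by
  intro n hn
  rw [← List.take_append_drop 29 tlCodes, List.mem_append] at hn
  rcases hn with h | h
  · exact equiC_tl1 n h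
  · exact equiC_tl2 n h

/-- the generating set of `SU₃(3)` -/
def tset : Set SU3 :=
  {A : SU3 | ∃ (v : Fin 3 → GF9) (c : GF9), Cfsg.hermForm 3 GF9 3 v v = 0 ∧
    ((A : Matrix.SpecialLinearGroup (Fin 3) GF9) : Matrix (Fin 3) (Fin 3) GF9) =
      Cfsg.unitaryTransvection 3 3 v c}

theorem closure_tset : Subgroup.closure tset = ⊤ :=
  Cfsg.Agent.S0780.result (F := GF9) (q := 3) card_GF9' 3 le_rfl (by norm_num)

theorem tset_mem_tl {A : SU3} (hA : A ∈ tset) : ∃ n ∈ tlCodes, (A.1.1 : M3) = matOf n := by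
  obtain ⟨vv, c, hv, hA⟩ := hA
  have hc : vv = 0 ∨ c = 0 ∨ c ^ 2 = -1 := by
    by_cases h0 : vv = 0
    · exact Or.inl h0
    · right
      have h1 := (Cfsg.Agent.S0779.result (F := GF9) (q := 3) card_GF9' 3 vv h0 hv c).1 (by
        intro x y
        rw [← hA]
        exact A.2 x y)
      simpa using h1
  obtain ⟨n, hn, h⟩ := transv_mem vv c hv hc
  exact ⟨n, hn, hA.trans h⟩

theorem equi_pow (x : SU3) (hx : Equi x.1.1) (n : ℕ) : Equi (x ^ n).1.1 := by
  induction n with
  | zero => rw [pow_zero]; exact equi_one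
  | succ n ih =>
    rw [pow_succ]
    exact equi_mul x ih hx

theorem equi_su (A : SU3) : Equi A.1.1 := by
  have hA : A ∈ Subgroup.closure tset := by rw [closure_tset]; trivial
  induction hA using Subgroup.closure_induction with
  | mem x hx =>
    obtain ⟨n, hn, h⟩ := tset_mem_tl hx
    rw [h]; exact equi_of_equiC (equiC_tl n hn)
  | one => exact equi_one
  | mul x y _ _ hx hy => exact equi_mul y hx hy
  | inv x _ hx =>
    have h1 : x⁻¹ = x ^ (orderOf x - 1) := by
      rw [inv_eq_iff_mul_eq_one, ← pow_succ']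
      have := orderOf_pos x
      rw [show orderOf x - 1 + 1 = orderOf x by omega]
      exact pow_orderOf_eq_one x
    rw [h1]
    exact equi_pow x hx _

/-- the representation of `SU₃(3)` on the adjoint module -/
def phiHom : SU3 →* Matrix I14 I14 (ZMod 2) where
  toFun A := phi A.1.1
  map_one' := phi_one
  map_mul' A B := phi_mul_of (equi_su A) (fun k => isPt_act B _ (isPt_bpt k))

/-- the representation as a homomorphism into the general linear group -/
def phiGL : SU3 →* GL I14 (ZMod 2) := phiHom.toHomUnits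

theorem phiGL_coe (g : SU3) :
    ((phiGL g : GL I14 (ZMod 2)) : Matrix I14 I14 (ZMod 2)) = phi g.1.1 := rfl

theorem center_eq_bot {K : Type*} [Field K] [Fintype K] (hK : Fintype.card K = 3 ^ 2) :
    Subgroup.center (Cfsg.SU 3 K 3) = ⊥ := by
  have h := Cfsg.Agent.S0279.result (F := K) (q := 3) hK 3 le_rfl
  exact Subgroup.eq_bot_of_card_eq _ (by rw [h]; rfl)

/-- `PSU₃(3) ≅ SU₃(3)` -/
noncomputable def psuEquiv {K : Type*} [Field K] [Fintype K] (hK : Fintype.card K = 3 ^ 2) :
    Cfsg.PSU 3 K 3 ≃* Cfsg.SU 3 K 3 :=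
  (QuotientGroup.quotientMulEquivOfEq (center_eq_bot hK)).trans QuotientGroup.quotientBot

theorem su_simple : IsSimpleGroup SU3 := by
  have := Cfsg.Agent.S0283.result (F := GF9) (q := 3) card_GF9' 3 le_rfl (by norm_num)
  exact (psuEquiv card_GF9').symm.isSimpleGroup

instance : ExpChar GF9 3 := ExpChar.prime Nat.prime_three

/-- a unitary matrix of determinant one as an element of `SU₃(3)` -/
def toSU (M : M3) (h : IsU M) : SU3 :=
  ⟨⟨M, by rw [Matrix.det_fin_three]; exact h.2⟩, SUKit.mem_SU_of_matrix 3 _ h.1⟩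

theorem toSU_coe (M : M3) (h : IsU M) : ((toSU M h).1.1 : M3) = M := rfl

theorem phiGL_injective : Function.Injective phiGL := by
  have := su_simple
  rw [← MonoidHom.ker_eq_bot_iff]
  rcases (MonoidHom.normal_ker phiGL).eq_bot_or_eq_top with h | h
  · exact h
  · exfalso
    have h1 : toSU (gX 0) (gX_isU 0) ∈ phiGL.ker := by rw [h]; trivial
    rw [MonoidHom.mem_ker] at h1
    have h2 : phi (gX 0) = 1 := by
      have := congrArg (fun g : GL I14 (ZMod 2) => (g : Matrix I14 I14 (ZMod 2))) h1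
      exact this
    apply XG_ne_one
    rw [XG_eq 0]
    show phi (gX 0) * 1 = 1
    rw [h2, mul_one]

/-- the element `f` as a unit -/
def fGL : GL I14 (ZMod 2) := ⟨fm, fm, fm_sq, fm_sq⟩

theorem fGL_pow_two : fGL ^ (1 + 1) = 1 := by
  apply Units.ext
  rw [pow_succ, pow_one]
  exact fm_sq

theorem fpow_eq (k : Fin 2) :
    fpow k = ((fGL ^ (k : ℕ) : GL I14 (ZMod 2)) : Matrix I14 I14 (ZMod 2)) := by
  fin_cases k
  · rfl
  · show fm = ((fGL ^ 1 : GL I14 (ZMod 2)) : Matrix I14 I14 (ZMod 2))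
    rw [pow_one]; rfl

/-- the root elements `x_r(1)` as elements of `GL` -/
def genGL (r : Fin 12) : GL I14 (ZMod 2) :=
  phiGL (toSU (gX r) (gX_isU r)) * fGL ^ ((kTab r : Fin 2) : ℕ)

theorem genGL_coe (r : Fin 12) :
    ((genGL r : GL I14 (ZMod 2)) : Matrix I14 I14 (ZMod 2)) = XG r := by
  rw [XG_eq r]
  show ((phiGL _ * fGL ^ _ : GL I14 (ZMod 2)) : Matrix I14 I14 (ZMod 2)) = DX r
  rw [Units.val_mul, ← fpow_eq]; rfl

/-- the Chevalley group `G₂(2)` -/
abbrev R2 : Subgroup (GL I14 (ZMod 2)) := chevG2.group (ZMod 2)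

/-- the generating set of `G₂(2)` -/
def gset : Set (GL I14 (ZMod 2)) :=
  {g | ∃ (r : Fin 12) (t : ZMod 2), (g : Matrix I14 I14 (ZMod 2)) = chevG2.xMat (ZMod 2) r t}

theorem R2_eq : R2 = Subgroup.closure gset := rfl

theorem genGL_mem (r : Fin 12) : genGL r ∈ R2 :=
  Subgroup.subset_closure ⟨r, 1, genGL_coe r⟩

/-- the image of `SU₃(3)` -/
abbrev N : Subgroup (GL I14 (ZMod 2)) := phiGL.range

theorem list_prod_coe (l : List (Fin 12)) :
    (((l.map genGL).prod : GL I14 (ZMod 2)) : Matrix I14 I14 (ZMod 2)) = (l.map XG).prod := by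
  induction l with
  | nil => rfl
  | cons x l ih =>
    rw [List.map_cons, List.prod_cons, Units.val_mul, ih, genGL_coe, List.map_cons, List.prod_cons]

theorem phiGL_tset_mem {x : SU3} (hx : x ∈ tset) : phiGL x ∈ R2 := by
  obtain ⟨n, hn, h⟩ := tset_mem_tl hx
  obtain ⟨e, he, rfl⟩ := List.mem_map.1 hn
  have : phiGL x = (e.2.map genGL).prod := by
    apply Units.ext
    rw [list_prod_coe, ← words_tl e he, phiGL_coe, h]
  rw [this]
  refine Subgroup.list_prod_mem _ ?_
  intro y hy
  obtain ⟨r, _, rfl⟩ := List.mem_map.1 hy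
  exact genGL_mem r

theorem N_le : N ≤ R2 := by
  show phiGL.range ≤ R2
  rw [MonoidHom.range_eq_map, ← closure_tset, MonoidHom.map_closure, Subgroup.closure_le]
  rintro _ ⟨x, hx, rfl⟩
  exact phiGL_tset_mem hx

theorem fGL_conj_mem : ∀ n ∈ N, fGL * n * fGL⁻¹ ∈ N := by
  rintro _ ⟨g, rfl⟩
  have hg : g ∈ Subgroup.closure tset := by rw [closure_tset]; trivial
  induction hg using Subgroup.closure_induction with
  | mem x hx =>
    obtain ⟨n, hn, h⟩ := tset_mem_tl hx
    obtain ⟨n', hn', h'⟩ := conj_tl_mem n hn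
    refine ⟨toSU (matOf n') (tl_isU n' hn'), ?_⟩
    rw [eq_mul_inv_iff_mul_eq]
    apply Units.ext
    rw [Units.val_mul, Units.val_mul, phiGL_coe, phiGL_coe, h, toSU_coe, ← h']
    exact (conj_tl n hn).symm
  | one => rw [map_one, mul_one, mul_inv_cancel]; exact one_mem _
  | mul x y _ _ hx hy =>
    have : fGL * phiGL (x * y) * fGL⁻¹ = (fGL * phiGL x * fGL⁻¹) * (fGL * phiGL y * fGL⁻¹) := by
      rw [map_mul]; group
    rw [this]; exact mul_mem hx hy
  | inv x _ hx =>
    have : fGL * phiGL x⁻¹ * fGL⁻¹ = (fGL * phiGL x * fGL⁻¹)⁻¹ := by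
      rw [map_inv]; group
    rw [this]; exact inv_mem hx

theorem fGL_mem_normalizer : fGL ∈ Subgroup.normalizer (N : Set (GL I14 (ZMod 2))) :=
  mem_normalizer_of_conj_mem_of_pow N fGL 1 fGL_pow_two fGL_conj_mem

theorem gset_decomp : ∀ s ∈ gset, ∃ n ∈ N, ∃ k : ℕ, s = n * fGL ^ k := by
  rintro s ⟨r, t, hs⟩
  have ht : ∀ t : ZMod 2, t = 0 ∨ t = 1 := by decide
  rcases ht t with rfl | rfl
  · refine ⟨1, one_mem _, 0, ?_⟩
    apply Units.ext
    rw [hs, pow_zero, mul_one]
    exact XG0_eq r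
  · refine ⟨phiGL (toSU (gX r) (gX_isU r)), ⟨_, rfl⟩, ((kTab r : Fin 2) : ℕ), ?_⟩
    apply Units.ext
    rw [hs]
    exact (genGL_coe r).symm

theorem commutator_le : ⁅R2, R2⁆ ≤ N := by
  rw [R2_eq]
  exact commutator_closure_le_of_normalizer N fGL fGL_mem_normalizer gset gset_decomp

theorem su_perfect : commutator SU3 = ⊤ := by
  rw [eq_top_iff, ← closure_tset, commutator_eq_closure]
  apply Subgroup.closure_mono
  rintro A ⟨vv, c, hv, hA⟩
  exact Cfsg.Agent.S0781.result (F := GF9) (q := 3) card_GF9' 3 (Or.inr ⟨rfl, le_rfl⟩) A vv c hv hA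

theorem N_perfect : ⁅N, N⁆ = N := by
  have h := su_perfect
  rw [commutator_def] at h
  have h2 := Subgroup.map_commutator (⊤ : Subgroup SU3) ⊤ phiGL
  rw [h, ← MonoidHom.range_eq_map] at h2
  exact h2.symm

theorem commutator_eq : ⁅R2, R2⁆ = N := by
  apply le_antisymm commutator_le
  rw [← N_perfect]
  exact Subgroup.commutator_mono N_le N_le

/-- the derived subgroup of `G₂(2)` (over `ZMod 2`) is isomorphic to `SU₃(3)` (over `GF9`) -/
noncomputable def commutatorEquivSU : ↥(commutator ↥R2) ≃* SU3 :=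
  ((Subgroup.equivMapOfInjective (commutator ↥R2) R2.subtype Subtype.coe_injective).trans
    (MulEquiv.subgroupCongr ((Subgroup.map_subtype_commutator R2).trans commutator_eq))).trans
    (MonoidHom.ofInjective phiGL_injective).symm

/-- `G₂(2)' ≅ PSU₃(3)`. -/
theorem nonempty_mulEquiv {F K : Type*} [Field F] [Fintype F] [Field K] [Fintype K]
    (hF : Fintype.card F = 2) (hK : Fintype.card K = 9) :
    Nonempty (↥(commutator ↥(chevG2.group F)) ≃* Cfsg.PSU 3 K 3) := by
  have e : ZMod 2 ≃+* F := ZMod.ringEquivOfPrime F Nat.prime_two hF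
  have hK' : Fintype.card K = 3 ^ 2 := by rw [hK]; norm_num
  have e1 : ↥(commutator ↥(chevG2.group F)) ≃* ↥(commutator ↥R2) :=
    commutatorCongr (ChevMap.groupMapEquiv chevG2 e).symm
  exact ⟨((e1.trans commutatorEquivSU).trans (suEquiv (gf9Equiv K hK) 3 3)).trans (psuEquiv hK').symm⟩

end Cfsg.Agent.Helper96.GTwo
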