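import Cfsg.Agent.Helper96.GTwoData

/-! Helper96: kernel-checked identities for `G₂(2)' ≅ PSU₃(3)`, part J (words, last third). -/

set_option autoImplicit false
set_option maxRecDepth 100000

namespace Cfsg.Agent.Helper96.GTwo

open Cfsg Cfsg.Lie Cfsg.Agent.Helper98

theorem words_tl3 : ∀ e ∈ (wordTable.drop 19).drop 19, phi (matOf e.1) = (e.2.map XG).prod := by
  decide +kernel

end Cfsg.Agent.Helper96.GTwo
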