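import Cfsg.Agent.Helper96.GTwoData

/-! Helper96: equivariance in coefficient form (definition). -/

set_option autoImplicit false

namespace Cfsg.Agent.Helper96.GTwo

open Cfsg Cfsg.Lie Cfsg.Agent.Helper98

/-- equivariance in coefficient form -/
def EquiC (M : Matrix (Fin 3) (Fin 3) GF9) : Prop :=
  ∀ n ∈ ptCodes, (fun a => ∑ k : Fin 14, cf (ptOf n) k * v (act M (bpt k)) a) = v (act M (ptOf n))

instance (M : Matrix (Fin 3) (Fin 3) GF9) : Decidable (EquiC M) := by unfold EquiC; infer_instance

end Cfsg.Agent.Helper96.GTwo
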