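import Mathlib
import Cfsg.Prelude.Def_KGroupFacts

/-!
# Centrally closed finite groups have trivial Schur multiplier
-/

set_option autoImplicit false

namespace Cfsg.Agent.Helper96.UceMult

universe u

open scoped commutatorElement

/-- If every central extension of the finite group `G` splits (by a homomorphic section), then
the Schur multiplier of `G` is trivial. -/
theorem hasCyclicSchurMultiplier_one_of_split {G : Type u} [Group G] [Finite G]
    (h : ∀ (E : Type u) [Group E] (π₁ : E →* G), Function.Surjective π₁ →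
      π₁.ker ≤ Subgroup.center E → ∃ τ : G →* E, π₁.comp τ = MonoidHom.id G) :
    Cfsg.HasCyclicSchurMultiplier G 1 := by
  refine ⟨⟨G, inferInstance, inferInstance, MonoidHom.id G, ⟨Function.surjective_id, ?_, ?_⟩, ?_⟩, ?_⟩
  · rw [MonoidHom.ker_id]; exact bot_le
  · rw [MonoidHom.ker_id]; exact bot_le
  · have h1 : ∀ x : (MonoidHom.id G).ker, x = 1 := by
      intro ⟨x, hx⟩
      exact Subtype.ext (by simpa using hx)
    have h2 : ∀ x : Multiplicative (ZMod 1), x = 1 := by
      intro x
      exact Subsingleton.elim (α := ZMod 1) _ _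
    exact ⟨{ toFun := fun _ => 1, invFun := fun _ => 1,
             left_inv := fun x => (h1 x).symm, right_inv := fun x => (h2 x).symm,
             map_mul' := fun _ _ => (mul_one 1).symm }⟩
  · intro Γ _ _ σ hσ
    obtain ⟨τ, hτ⟩ := h Γ σ hσ.1 hσ.2.1
    have hst : ∀ g, σ (τ g) = g := fun g => by
      have := DFunLike.congr_fun hτ g
      simpa using this
    -- every element of `Γ` is `τ g * z` with `z` central in the kernel
    have hdec : ∀ γ : Γ, (τ (σ γ))⁻¹ * γ ∈ σ.ker := by
      intro γ
      rw [MonoidHom.mem_ker, map_mul, map_inv, hst, inv_mul_cancel]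
    have hcomm : commutator Γ ≤ τ.range := by
      rw [commutator_def, Subgroup.commutator_le]
      intro a _ b _
      have ha := hσ.2.1 (hdec a)
      have hb := hσ.2.1 (hdec b)
      rw [Subgroup.mem_center_iff] at ha hb
      have e : ⁅a, b⁆ = ⁅τ (σ a), τ (σ b)⁆ := by
        set za := (τ (σ a))⁻¹ * a with hza
        set zb := (τ (σ b))⁻¹ * b with hzb
        have ea : a = τ (σ a) * za := by rw [hza]; group
        have eb : b = τ (σ b) * zb := by rw [hzb]; group
        generalize τ (σ a) = p at *
        generalize τ (σ b) = q at *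
        rw [ea, eb, commutatorElement_def, commutatorElement_def]
        calc p * za * (q * zb) * (p * za)⁻¹ * (q * zb)⁻¹
            = p * (za * q) * (zb * za⁻¹) * p⁻¹ * zb⁻¹ * q⁻¹ := by group
          _ = p * (q * za) * (za⁻¹ * zb) * p⁻¹ * zb⁻¹ * q⁻¹ := by rw [ha q, hb za⁻¹]
          _ = p * q * (zb * p⁻¹) * zb⁻¹ * q⁻¹ := by group
          _ = p * q * (p⁻¹ * zb) * zb⁻¹ * q⁻¹ := by rw [hb p⁻¹]
          _ = p * q * p⁻¹ * q⁻¹ := by group
      rw [e, ← map_commutatorElement]
      exact ⟨_, rfl⟩
    have hker : σ.ker = ⊥ := by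
      rw [eq_bot_iff]
      intro z hz
      obtain ⟨g, rfl⟩ := hcomm (hσ.2.2 hz)
      rw [MonoidHom.mem_ker, hst] at hz
      rw [Subgroup.mem_bot, hz, map_one]
    refine ⟨1, ?_⟩
    intro ⟨z, hz⟩
    refine ⟨1, ?_⟩
    rw [hker, Subgroup.mem_bot] at hz
    exact Subtype.ext (by simpa using hz.symm)

end Cfsg.Agent.Helper96.UceMult
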