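import Mathlib
import Cfsg.Prelude.Def_KGroupFacts
import Cfsg.Prelude.Def_SteinbergCover
import Cfsg.Prelude.Def_ChevB2
import Cfsg.Agent.S1077
import Cfsg.Agent.S1078
import Cfsg.Agent.Helper40.StCover
import Cfsg.Agent.Helper96.UceMult

/-!
# The Schur multiplier of `G₂(q)`, `q ≥ 5`, from Steinberg's universality theorem
-/

set_option autoImplicit false

namespace Cfsg.Agent.Helper96.GTwoMult

universe u

open Cfsg Cfsg.Lie

/-- over a finite field the group presented by (R1), (R2) for `G₂` is the Chevalley group. -/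
theorem exists_cover_iso {F : Type u} [Field F] [Finite F] :
    Nonempty (chevG2.SteinbergCover F ≃* ↥(chevG2.group F)) := by
  obtain ⟨e, -⟩ := Cfsg.Agent.Helper40.St.cover_equiv (K := F) chevG2 (by simp)
  obtain ⟨θ, hθs, hθk, -⟩ := Cfsg.Agent.S1077.result (K := F) chevG2 (by simp)
  have hc := Cfsg.Agent.S1078.result (K := F) chevG2 (by simp)
  have hinj : Function.Injective θ := by
    rw [← MonoidHom.ker_eq_bot_iff, hθk, hc]
  exact ⟨e.trans (MulEquiv.ofBijective θ ⟨hinj, hθs⟩)⟩

/-- the multiplier of `G₂(F)` is trivial as soon as the presented group `Δ` is centrally closed. -/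
theorem mult_of_universal {F : Type u} [Field F] [Fintype F]
    (huniv : ∀ {E : Type u} [Group E] (π₁ : E →* ↥(chevG2.group F)), Function.Surjective π₁ →
      π₁.ker ≤ Subgroup.center E → ∀ σ : chevG2.SteinbergCover F →* ↥(chevG2.group F),
      ∃ τ : chevG2.SteinbergCover F →* E, π₁.comp τ = σ) :
    Cfsg.HasCyclicSchurMultiplier ↥(chevG2.group F) 1 := by
  classical
  obtain ⟨ι⟩ := exists_cover_iso (F := F)
  refine UceMult.hasCyclicSchurMultiplier_one_of_split ?_
  intro E _ π₁ hs hc
  obtain ⟨τ, hτ⟩ := huniv π₁ hs hc ι.toMonoidHom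
  refine ⟨τ.comp ι.symm.toMonoidHom, ?_⟩
  ext g
  have := DFunLike.congr_fun hτ (ι.symm g)
  simp only [MonoidHom.coe_comp, Function.comp_apply, MulEquiv.coe_toMonoidHom,
    MulEquiv.apply_symm_apply] at this
  simp only [MonoidHom.coe_comp, Function.comp_apply, MulEquiv.coe_toMonoidHom, MonoidHom.id_apply]
  rw [this]

end Cfsg.Agent.Helper96.GTwoMult
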