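import Mathlib
import Cfsg.Prelude.Def_Classical
import Cfsg.Agent.Helper96.KleinField
import Cfsg.Agent.Helper96.PerfectIndex
import Cfsg.Agent.Helper5.SLn
import Cfsg.Agent.S0287
import Cfsg.Agent.S0242

set_option autoImplicit false

namespace Cfsg.Agent.Helper96.Klein

open Matrix
open scoped commutatorElement

section Omega

variable {F : Type*} [Field F] [Fintype F]

theorem card_OF_eq : Nat.card (OF F) = 2 * Nat.card (Matrix.SpecialLinearGroup (Fin 4) F) := by
  have h1 := Cfsg.Agent.S0287.result (F := F) (q := Fintype.card F) rfl 3 (by norm_num)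
  have h2 := Cfsg.Agent.S0242.result (F := F) (q := Fintype.card F) rfl 4 (by norm_num)
  have hq : 2 ≤ Fintype.card F := Fintype.one_lt_card
  generalize Fintype.card F = q at h1 h2 hq
  generalize Nat.card (Matrix.SpecialLinearGroup (Fin 4) F) = s at h2
  rw [h1]
  simp only [Finset.prod_range_succ, Finset.prod_range_zero, Fin.prod_univ_four] at h2 ⊢
  norm_num at h2 ⊢
  have hq1 : 1 ≤ q := by omega
  have p2 : 1 ≤ q ^ 2 := Nat.one_le_pow _ _ hq1
  have p3 : 1 ≤ q ^ 3 := Nat.one_le_pow _ _ hq1
  have p4 : 1 ≤ q ^ 4 := Nat.one_le_pow _ _ hq1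
  have l1 : q ≤ q ^ 4 := Nat.le_self_pow (by norm_num) q
  have l2 : q ^ 2 ≤ q ^ 4 := Nat.pow_le_pow_right hq1 (by norm_num)
  have l3 : q ^ 3 ≤ q ^ 4 := Nat.pow_le_pow_right hq1 (by norm_num)
  have hpos : 0 < q - 1 := by omega
  apply Nat.eq_of_mul_eq_mul_left hpos
  zify [hq1, p2, p3, p4, l1, l2, l3] at h2 ⊢
  linear_combination (-2 : ℤ) * h2

theorem finite_SL : Finite (Matrix.SpecialLinearGroup (Fin 4) F) :=
  Finite.of_injective (fun g => (g : Matrix (Fin 4) (Fin 4) F)) Subtype.val_injective

theorem finite_OF : Finite (OF F) :=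
  Finite.of_injective (fun g => (((g : OF F) : GL J6 F) : Matrix J6 J6 F))
    (fun _ _ h => Subtype.ext (Units.ext h))

theorem index_range :
    (slHom (F := F)).range.index = 2 ∨ (slHom (F := F)).range.index = 4 := by
  have hfs : Finite (Matrix.SpecialLinearGroup (Fin 4) F) := finite_SL
  have hfo : Finite (OF F) := finite_OF
  have h1 := (slHom (F := F)).range.index_mul_card
  have h2 := (slHom (F := F)).ker.index_mul_card
  rw [Subgroup.index_ker] at h2
  rw [card_OF_eq, ← h2] at h1
  have hpos : 0 < Nat.card (slHom (F := F)).range := Nat.card_pos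
  have h3 : (slHom (F := F)).range.index = 2 * Nat.card (slHom (F := F)).ker := by
    apply Nat.eq_of_mul_eq_mul_right hpos
    rw [h1]
    ring
  rcases card_ker (F := F) with h | h <;> rw [h] at h3
  · left; exact h3
  · right; exact h3

theorem SL_perfect : commutator (Matrix.SpecialLinearGroup (Fin 4) F) = ⊤ :=
  Cfsg.Agent.Helper5.commutator_SL_eq_top_of_three_le (by simp)

theorem range_eq_commutator_range :
    ⁅(slHom (F := F)).range, (slHom (F := F)).range⁆ = (slHom (F := F)).range := by
  rw [MonoidHom.range_eq_map, ← Subgroup.map_commutator, ← commutator_def, SL_perfect]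

theorem range_eq_commutator : (slHom (F := F)).range = commutator (OF F) := by
  apply le_antisymm
  · rw [← range_eq_commutator_range, commutator_def]
    exact Subgroup.commutator_mono le_top le_top
  · exact Cfsg.Agent.Helper96.commutator_le_of_perfect_of_index _
      (le_of_eq range_eq_commutator_range.symm) index_range

/-- the Klein correspondence onto `Ω⁺₆(F)` -/
noncomputable def slHomOmega : Matrix.SpecialLinearGroup (Fin 4) F →* Cfsg.Omega F (Cfsg.quadFormPlus 3 F) :=
  (slHom (F := F)).codRestrict (Cfsg.Omega F (Cfsg.quadFormPlus 3 F)) (fun g => by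
    change slHom g ∈ commutator (OF F)
    rw [← range_eq_commutator]
    exact ⟨g, rfl⟩)

theorem slHomOmega_surjective : Function.Surjective (slHomOmega (F := F)) := by
  rintro ⟨x, hx⟩
  have hx' : x ∈ commutator (OF F) := hx
  rw [← range_eq_commutator] at hx'
  obtain ⟨g, rfl⟩ := hx'
  exact ⟨g, rfl⟩

theorem slHomOmega_ker : (slHomOmega (F := F)).ker = (slHom (F := F)).ker := by
  ext g
  rw [MonoidHom.mem_ker, MonoidHom.mem_ker]
  constructor
  · intro h
    exact congrArg Subtype.val h
  · intro h
    exact Subtype.ext h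

/-- the composite `SL₄(F) → Ω⁺₆(F) → PΩ⁺₆(F)` -/
noncomputable def slHomPOmega :
    Matrix.SpecialLinearGroup (Fin 4) F →* Cfsg.POmega F (Cfsg.quadFormPlus 3 F) :=
  (QuotientGroup.mk' (Subgroup.center (Cfsg.Omega F (Cfsg.quadFormPlus 3 F)))).comp slHomOmega

theorem slHomPOmega_surjective : Function.Surjective (slHomPOmega (F := F)) :=
  (QuotientGroup.mk'_surjective _).comp slHomOmega_surjective

theorem slHomPOmega_ker :
    (slHomPOmega (F := F)).ker = Subgroup.center (Matrix.SpecialLinearGroup (Fin 4) F) := by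
  ext g
  rw [MonoidHom.mem_ker]
  change (QuotientGroup.mk' _) (slHomOmega g) = 1 ↔ _
  rw [QuotientGroup.mk'_apply, QuotientGroup.eq_one_iff]
  constructor
  · intro hg
    apply Cfsg.Agent.Helper96.mem_center_of_map_commute slHomOmega SL_perfect
    · rw [slHomOmega_ker]
      exact ker_le_center
    · intro h
      exact (Subgroup.mem_center_iff.mp hg (slHomOmega h)).symm
  · intro hg
    rw [Subgroup.mem_center_iff]
    intro y
    obtain ⟨h, rfl⟩ := slHomOmega_surjective y
    rw [← map_mul, ← map_mul, Subgroup.mem_center_iff.mp hg h]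

/-- `PΩ⁺₆(F) ≅ PSL₄(F)` -/
noncomputable def pOmegaMulEquiv :
    Cfsg.POmega F (Cfsg.quadFormPlus 3 F) ≃* Matrix.ProjectiveSpecialLinearGroup (Fin 4) F :=
  (QuotientGroup.quotientKerEquivOfSurjective slHomPOmega slHomPOmega_surjective).symm.trans
    (QuotientGroup.quotientMulEquivOfEq slHomPOmega_ker)

end Omega

end Cfsg.Agent.Helper96.Klein
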