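import Mathlib

/-!
Helper96: a computable model of the action of `2 × 2` matrices on the projective line
`Option F` (`none = ∞ = [1 : 0]`, `some a = [a : 1]`), with `mob (A * B) P = mob A (mob B P)` for
invertible `B`.
-/

set_option autoImplicit false

namespace Cfsg.Agent.Helper96.Mobius

variable {F : Type*} [Field F] [DecidableEq F]

/-- the vector representing a point of the projective line (`none = ∞ = [1:0]`) -/
def toVec : Option F → Fin 2 → F
  | none => ![1, 0]
  | some a => ![a, 1]

/-- the point represented by a vector -/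
def nf (w : Fin 2 → F) : Option F := if w 1 = 0 then none else some (w 0 / w 1)

/-- Möbius action of a matrix on the projective line -/
def mob (M : Matrix (Fin 2) (Fin 2) F) (P : Option F) : Option F := nf (M.mulVec (toVec P))

omit [DecidableEq F] in
theorem toVec_ne_zero (P : Option F) : toVec P ≠ 0 := by
  cases P with
  | none =>
    intro h
    have := congrFun h 0
    simp [toVec] at this
  | some a =>
    intro h
    have := congrFun h 1
    simp [toVec] at this

theorem nf_smul {c : F} (hc : c ≠ 0) (w : Fin 2 → F) : nf (c • w) = nf w := by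
  unfold nf
  simp only [Pi.smul_apply, smul_eq_mul, mul_eq_zero, hc, false_or]
  split_ifs with h
  · rfl
  · rw [mul_div_mul_left _ _ hc]

theorem toVec_nf {w : Fin 2 → F} (hw : w ≠ 0) : ∃ c : F, c ≠ 0 ∧ toVec (nf w) = c • w := by
  unfold nf
  split_ifs with h
  · have h0 : w 0 ≠ 0 := by
      intro h0
      apply hw
      ext i
      fin_cases i
      · exact h0
      · exact h
    refine ⟨(w 0)⁻¹, inv_ne_zero h0, ?_⟩
    ext i
    fin_cases i
    · simp [toVec, h0]
    · simp [toVec, h]
  · refine ⟨(w 1)⁻¹, inv_ne_zero h, ?_⟩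
    ext i
    fin_cases i
    · simp [toVec, div_eq_inv_mul]
    · simp [toVec, h]

theorem nf_toVec (P : Option F) : nf (toVec P) = P := by
  cases P <;> simp [nf, toVec]

theorem mob_one (P : Option F) : mob (1 : Matrix (Fin 2) (Fin 2) F) P = P := by
  simp [mob, nf_toVec]

theorem mob_mul (A B : Matrix (Fin 2) (Fin 2) F) (hB : B.det ≠ 0) (P : Option F) :
    mob (A * B) P = mob A (mob B P) := by
  unfold mob
  have hw : B.mulVec (toVec P) ≠ 0 := by
    intro h
    have hu : IsUnit B.det := isUnit_iff_ne_zero.2 hB
    have h2 := congrArg (B⁻¹.mulVec) h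
    rw [Matrix.mulVec_mulVec, Matrix.nonsing_inv_mul _ hu, Matrix.one_mulVec,
      Matrix.mulVec_zero] at h2
    exact toVec_ne_zero P h2
  obtain ⟨c, hc, hcw⟩ := toVec_nf hw
  rw [hcw, Matrix.mulVec_smul, nf_smul hc, Matrix.mulVec_mulVec]

end Cfsg.Agent.Helper96.Mobius
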