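import Mathlib
import Cfsg.Prelude.Def_Classical

set_option autoImplicit false

namespace Cfsg.Agent.Helper96.OFour

open Matrix Equiv

/-- index type -/
abbrev I4 := Fin 2 ⊕ Fin 2
/-- the field -/
abbrev K := ZMod 2
/-- the orthogonal space, thought of as `2 × 2` matrices with `Q = det` -/
abbrev V := I4 → K

/-- the quadratic form -/
abbrev Q : V → K := Cfsg.quadFormPlus 2 K

/-- matrix coordinates of the basis vectors -/
def idx : I4 → Fin 2 × Fin 2
  | Sum.inl 0 => (0, 0)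
  | Sum.inl 1 => (0, 1)
  | Sum.inr 1 => (1, 0)
  | Sum.inr 0 => (1, 1)

/-- the three nonzero vectors of `K²` -/
def nv : Fin 3 → Fin 2 → K
  | 0 => ![1, 0]
  | 1 => ![0, 1]
  | 2 => ![1, 1]

/-- `S₃ ≅ GL₂(2)` -/
def mat2 (σ : Perm (Fin 3)) : Matrix (Fin 2) (Fin 2) K := fun i j => nv (σ (Fin.castSucc j)) i

/-- left multiplication `X ↦ P X` -/
def aM (σ : Perm (Fin 3)) : Matrix I4 I4 K := fun I J =>
  if (idx I).2 = (idx J).2 then mat2 σ (idx I).1 (idx J).1 else 0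

/-- right multiplication `X ↦ X Pᵀ` -/
def bM (σ : Perm (Fin 3)) : Matrix I4 I4 K := fun I J =>
  if (idx I).1 = (idx J).1 then mat2 σ (idx I).2 (idx J).2 else 0

/-- the transpose map -/
def gM : Matrix I4 I4 K := fun I J =>
  if (idx I).1 = (idx J).2 ∧ (idx I).2 = (idx J).1 then 1 else 0

theorem aM_one : aM 1 = 1 := by decide +kernel
theorem bM_one : bM 1 = 1 := by decide +kernel
theorem aM_mul : ∀ σ τ : Perm (Fin 3), aM (σ * τ) = aM σ * aM τ := by decide +kernel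
theorem bM_mul : ∀ σ τ : Perm (Fin 3), bM (σ * τ) = bM σ * bM τ := by decide +kernel
theorem Q_aM : ∀ σ : Perm (Fin 3), ∀ v : V, Q (aM σ *ᵥ v) = Q v := by decide +kernel
theorem Q_bM : ∀ σ : Perm (Fin 3), ∀ v : V, Q (bM σ *ᵥ v) = Q v := by decide +kernel
theorem Q_gM : ∀ v : V, Q (gM *ᵥ v) = Q v := by decide +kernel
theorem gM_mul_self : gM * gM = 1 := by decide +kernel
theorem aM_bM_comm : ∀ σ τ : Perm (Fin 3), aM σ * bM τ = bM τ * aM σ := by decide +kernel
theorem aM_mul_bM_eq_one : ∀ σ τ : Perm (Fin 3), aM σ * bM τ = 1 → σ = 1 ∧ τ = 1 := by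
  decide +kernel
theorem aM_eq_bM : ∀ σ τ : Perm (Fin 3), aM σ = bM τ → σ = 1 := by decide +kernel
theorem gM_conj : ∀ σ : Perm (Fin 3), gM * aM σ * gM = bM σ := by decide +kernel

end Cfsg.Agent.Helper96.OFour
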