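import Mathlib
import Cfsg.Prelude.Def_Classical
import Cfsg.Agent.Helper96.OFourData

set_option autoImplicit false

namespace Cfsg.Agent.Helper96.OFour

open Matrix Equiv

/-- the group `O⁺₄(2)` -/
abbrev O := Cfsg.isometryGroup K Q

theorem mem_O (g : GL I4 K) : g ∈ O ↔ ∀ u : V, Q ((g : Matrix I4 I4 K) *ᵥ u) = Q u :=
  ⟨fun h u => h u u, fun h u _ => h u⟩

/-- `aM` as a monoid hom into matrices -/
def aMm : Perm (Fin 3) →* Matrix I4 I4 K where
  toFun := aM
  map_one' := aM_one
  map_mul' := aM_mul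

/-- `bM` as a monoid hom into matrices -/
def bMm : Perm (Fin 3) →* Matrix I4 I4 K where
  toFun := bM
  map_one' := bM_one
  map_mul' := bM_mul

/-- the first factor `S₃ → O⁺₄(2)` -/
noncomputable def aHom : Perm (Fin 3) →* O :=
  (aMm.toHomUnits).codRestrict O (fun σ => (mem_O _).mpr (fun u => Q_aM σ u))

/-- the second factor `S₃ → O⁺₄(2)` -/
noncomputable def bHom : Perm (Fin 3) →* O :=
  (bMm.toHomUnits).codRestrict O (fun σ => (mem_O _).mpr (fun u => Q_bM σ u))

theorem aHom_coe (σ : Perm (Fin 3)) : (((aHom σ : O) : GL I4 K) : Matrix I4 I4 K) = aM σ := rfl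

theorem bHom_coe (σ : Perm (Fin 3)) : (((bHom σ : O) : GL I4 K) : Matrix I4 I4 K) = bM σ := rfl

theorem O_ext {x y : O} (h : ((x : GL I4 K) : Matrix I4 I4 K) = ((y : GL I4 K) : Matrix I4 I4 K)) :
    x = y :=
  Subtype.ext (Units.ext h)

theorem comm_ab (σ τ : Perm (Fin 3)) : Commute (aHom σ) (bHom τ) := by
  apply O_ext
  change aM σ * bM τ = bM τ * aM σ
  exact aM_bM_comm σ τ

/-- the product map `S₃ × S₃ → O⁺₄(2)` -/
noncomputable def abHom : Perm (Fin 3) × Perm (Fin 3) →* O :=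
  MonoidHom.noncommCoprod aHom bHom comm_ab

theorem abHom_injective : Function.Injective abHom := by
  rw [injective_iff_map_eq_one]
  rintro ⟨σ, τ⟩ h
  have h1 : aM σ * bM τ = 1 := by
    have := congrArg (fun x : O => ((x : GL I4 K) : Matrix I4 I4 K)) h
    exact this
  obtain ⟨h2, h3⟩ := aM_mul_bM_eq_one σ τ h1
  rw [h2, h3]
  rfl

theorem aHom_injective : Function.Injective aHom :=
  ((MonoidHom.noncommCoprod_injective aHom bHom comm_ab).mp abHom_injective).1

theorem bHom_injective : Function.Injective bHom :=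
  ((MonoidHom.noncommCoprod_injective aHom bHom comm_ab).mp abHom_injective).2.1

theorem inf_eq_bot : aHom.range ⊓ bHom.range = ⊥ :=
  disjoint_iff.mp ((MonoidHom.noncommCoprod_injective aHom bHom comm_ab).mp abHom_injective).2.2

theorem card_sup : Nat.card (aHom.range ⊔ bHom.range : Subgroup O) = 36 := by
  rw [← MonoidHom.noncommCoprod_range aHom bHom comm_ab]
  have e := MonoidHom.ofInjective abHom_injective
  have h : Nat.card (Perm (Fin 3) × Perm (Fin 3)) = 36 := by
    rw [Nat.card_eq_fintype_card, Fintype.card_prod, Fintype.card_perm, Fintype.card_fin]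
    rfl
  rw [← h]
  exact (Nat.card_congr e.toEquiv).symm

/-- the transpose, as an element of `O⁺₄(2)` -/
noncomputable def gElt : O :=
  ⟨⟨gM, gM, gM_mul_self, gM_mul_self⟩, (mem_O _).mpr (fun u => Q_gM u)⟩

theorem gElt_inv : gElt⁻¹ = gElt := by
  rw [inv_eq_iff_mul_eq_one]
  apply O_ext
  exact gM_mul_self

theorem gElt_conj (σ : Perm (Fin 3)) : gElt * aHom σ * gElt⁻¹ = bHom σ := by
  rw [gElt_inv]
  apply O_ext
  exact gM_conj σ

theorem map_conj : aHom.range.map (MulAut.conj gElt).toMonoidHom = bHom.range := by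
  ext x
  constructor
  · rintro ⟨y, ⟨σ, rfl⟩, rfl⟩
    exact ⟨σ, (gElt_conj σ).symm⟩
  · rintro ⟨σ, rfl⟩
    exact ⟨aHom σ, ⟨σ, rfl⟩, gElt_conj σ⟩

end Cfsg.Agent.Helper96.OFour
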