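import Cfsg.Agent.Helper36.ChevAutDefs
import Cfsg.Agent.Helper36.ChevAut
import Cfsg.Agent.Helper36.ChevGenAll
import Cfsg.Agent.Helper18.Core
import Cfsg.Agent.Helper18.DiagAll
import Cfsg.Agent.S1023
import Cfsg.Agent.S1024

/-!
# Outer automorphisms of Chevalley groups: general facts

Uniqueness of automorphisms from their values on the fundamental root elements, and the shape of
graph and field automorphisms.
-/

set_option autoImplicit false

namespace Cfsg.Agent.Helper96.OutChev

open Cfsg Cfsg.Lie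

variable {F : Type*} [Field F] (D : ChevalleyDatum)
  (hD : D ∈ [chevG2, chevB2, chevD4, chevF4, chevE6, chevE7, chevE8])

/-- the root element `x_r(t)` as an element of the group -/
noncomputable def xg (r : ℕ) (t : F) : ↥(D.group F) :=
  ⟨Cfsg.Agent.Helper18.xGL D F r t, Cfsg.Agent.Helper18.xGL_mem_group' D hD r t⟩

theorem xg_val (r : ℕ) (t : F) :
    ((xg D hD r t : GL D.Idx F) : Matrix D.Idx D.Idx F) = D.x F r t :=
  Cfsg.Agent.Helper18.xGL_val D _ (Cfsg.Agent.Helper18.triOK_of_mem D hD) r t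

theorem eq_xg (y : ↥(D.group F)) (r : ℕ) (t : F)
    (hy : ((y : GL D.Idx F) : Matrix D.Idx D.Idx F) = D.x F r t) : y = xg D hD r t := by
  apply Subtype.ext
  apply Units.ext
  rw [hy, xg_val]

include hD in
theorem x_injective (r : ℕ) (hr : r < D.nroots) (t t' : F) (h : D.x F r t = D.x F r t') : t = t' := by
  have h1 : D.x F r (t - t') * D.x F r t' = D.x F r t' := by
    rw [Cfsg.Agent.S1023.result D hD r hr, sub_add_cancel, h]
  have h2 : D.x F r (t - t') = 1 := by
    have hinv : D.x F r t' * D.x F r (-t') = 1 := by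
      rw [Cfsg.Agent.S1023.result D hD r hr, add_neg_cancel]
      exact (Cfsg.Agent.S1024.result D hD r hr 0).mpr rfl
    calc D.x F r (t - t') = D.x F r (t - t') * (D.x F r t' * D.x F r (-t')) := by rw [hinv, mul_one]
      _ = (D.x F r (t - t') * D.x F r t') * D.x F r (-t') := by rw [mul_assoc]
      _ = 1 := by rw [h1, hinv]
  have := (Cfsg.Agent.S1024.result D hD r hr (t - t')).mp h2
  exact sub_eq_zero.mp this

include hD in
/-- **Uniqueness**: two automorphisms agreeing on the fundamental root elements and their negatives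
are equal. -/
theorem ext_simple (α β : ↥(D.group F) ≃* ↥(D.group F))
    (h : ∀ i < D.rank, ∀ (t : F) (γ : ↥(D.group F)),
      (((γ : GL D.Idx F) : Matrix D.Idx D.Idx F) = D.x F (D.simple i) t ∨
        ((γ : GL D.Idx F) : Matrix D.Idx D.Idx F) = D.x F (D.neg (D.simple i)) t) → α γ = β γ) :
    α = β := by
  have hE := Cfsg.Agent.Helper36.fund_generate (F := F) D hD
    (α.toMonoidHom.eqLocus β.toMonoidHom) (fun i hi t γ hγ => h i hi t γ hγ)
  ext γ
  have : γ ∈ α.toMonoidHom.eqLocus β.toMonoidHom := by rw [hE]; trivial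
  exact congrArg (fun z : ↥(D.group F) => ((z : GL D.Idx F) : Matrix D.Idx D.Idx F) _ _) this

include hD in
/-- a graph automorphism for the identity symmetry is the identity -/
theorem graphAutFor_one (g : ↥(D.group F) ≃* ↥(D.group F))
    (hg : Cfsg.Agent.Helper36.ChevAut.GraphAutFor D 1 g) : g = MulEquiv.refl _ := by
  apply ext_simple D hD
  intro i hi t γ hγ
  have hexp : D.graphExp (ringChar F) i i = 1 := by
    unfold ChevalleyDatum.graphExp
    cases D.isLong (D.simple i) <;> simp
  have h1 := hg γ ⟨i, hi⟩ t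
  simp only [Equiv.Perm.coe_one, id_eq] at h1
  rw [hexp, pow_one] at h1
  apply Subtype.ext
  apply Units.ext
  rcases hγ with hγ | hγ
  · rw [h1.1 hγ, MulEquiv.refl_apply, hγ]
  · rw [h1.2 hγ, MulEquiv.refl_apply, hγ]

include hD in
/-- a field automorphism in the sense of the definitions is `fieldAut σ` -/
theorem isFieldAut_eq (f : ↥(D.group F) ≃* ↥(D.group F)) (σ : F ≃+* F)
    (hf : ∀ (g : ↥(D.group F)) (r : ℕ) (t : F), r < D.nroots →
      ((g : GL D.Idx F) : Matrix D.Idx D.Idx F) = D.x F r t →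
        ((f g : GL D.Idx F) : Matrix D.Idx D.Idx F) = D.x F r (σ t)) :
    f = Cfsg.Agent.Helper36.ChevAut.fieldAut D (Cfsg.Agent.Helper40.ChevAdd.addOK_of_mem hD) σ := by
  have htri := Cfsg.Agent.Helper18.triOK_of_mem D hD
  apply ext_simple D hD
  intro i hi t γ hγ
  have hp : D.simple i < D.nroots :=
    Cfsg.Agent.Helper18.simple_lt D (Cfsg.Agent.Helper18.simpleOK_of_mem D hD) i hi
  have hnp : D.neg (D.simple i) < D.nroots := (Cfsg.Agent.Helper18.triOK_spec D _ htri _ hp).1
  apply Subtype.ext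
  apply Units.ext
  rcases hγ with hγ | hγ
  · rw [hf γ _ t hp hγ, Cfsg.Agent.Helper36.ChevAut.fieldAut_x D _ σ γ _ t hγ]
  · rw [hf γ _ t hnp hγ, Cfsg.Agent.Helper36.ChevAut.fieldAut_x D _ σ γ _ t hγ]

end Cfsg.Agent.Helper96.OutChev
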