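import Mathlib
import Cfsg.Prelude.Def_KGroupFacts

/-!
# Counting `Out G` from a cyclic family of automorphisms

Pure group theory: if every automorphism of `G` is an inner automorphism times a power of a fixed
automorphism `γ`, and `γ ^ k` is inner exactly when `N ∣ k`, then `Out G` has `N` elements.
-/

set_option autoImplicit false

namespace Cfsg.Agent.Helper96.OutCount

universe u

variable {G : Type u} [Group G]

theorem mk_eq_one_iff (θ : MulAut G) :
    (QuotientGroup.mk θ : Cfsg.Out G) = 1 ↔ θ ∈ Cfsg.Inn G :=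
  QuotientGroup.eq_one_iff θ

/-- **Cyclic count of `Out G`.** -/
theorem card_out_of_cyclic (γ : MulAut G) (N : ℕ)
    (hgen : ∀ θ : MulAut G, ∃ (k : ℕ) (ι : MulAut G), ι ∈ Cfsg.Inn G ∧ θ = ι * γ ^ k)
    (hpow : γ ^ N ∈ Cfsg.Inn G)
    (hdvd : ∀ k : ℕ, γ ^ k ∈ Cfsg.Inn G → N ∣ k) :
    Nat.card (Cfsg.Out G) = N := by
  set c : Cfsg.Out G := QuotientGroup.mk γ with hc
  have hck : ∀ k : ℕ, c ^ k = 1 ↔ N ∣ k := by
    intro k
    rw [hc, ← QuotientGroup.mk_pow, mk_eq_one_iff]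
    constructor
    · exact hdvd k
    · rintro ⟨m, rfl⟩
      rw [pow_mul]
      exact Subgroup.pow_mem _ hpow m
  have hord : orderOf c = N := by
    apply Nat.dvd_antisymm
    · exact orderOf_dvd_of_pow_eq_one ((hck N).mpr dvd_rfl)
    · exact (hck _).mp (pow_orderOf_eq_one c)
  have hall : ∀ y : Cfsg.Out G, y ∈ Subgroup.zpowers c := by
    intro y
    obtain ⟨θ, rfl⟩ := QuotientGroup.mk_surjective y
    obtain ⟨k, ι, hι, rfl⟩ := hgen θ
    refine ⟨(k : ℤ), ?_⟩
    have h1 : (QuotientGroup.mk ι : Cfsg.Out G) = 1 := (mk_eq_one_iff ι).mpr hι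
    change c ^ (k : ℤ) = QuotientGroup.mk (ι * γ ^ k)
    rw [QuotientGroup.mk_mul, h1, one_mul, QuotientGroup.mk_pow, zpow_natCast]
  rw [← hord]
  exact (orderOf_eq_card_of_forall_mem_zpowers hall).symm

/-- membership in `Inn G`, unfolded -/
theorem mem_inn_iff (θ : MulAut G) : θ ∈ Cfsg.Inn G ↔ ∃ x : G, ∀ y : G, θ y = x * y * x⁻¹ := by
  constructor
  · rintro ⟨x, rfl⟩
    exact ⟨x, fun y => rfl⟩
  · rintro ⟨x, hx⟩
    refine ⟨x, ?_⟩
    ext y
    rw [hx y]
    rfl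

end Cfsg.Agent.Helper96.OutCount
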