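import Cfsg.Agent.Helper96.OutChevB
import Cfsg.Agent.Helper96.OutCount

/-!
# Outer automorphisms of Chevalley groups: the two counting theorems

From the automorphism theorem (every automorphism is inner · diagonal · graph · field), when the
diagonal automorphisms are inner: `|Out G| = f` if there is no graph automorphism, and `2 f` if
there is one graph automorphism `γ₀ ≠ 1`, whose square is the field automorphism of a generator.
-/

set_option autoImplicit false

namespace Cfsg.Agent.Helper96.OutChev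

open Cfsg Cfsg.Lie

variable {F : Type*} [Field F] (D : ChevalleyDatum)
  (hD : D ∈ [chevG2, chevB2, chevD4, chevF4, chevE6, chevE7, chevE8])

/-- the automorphism theorem, as a hypothesis -/
def AutThm (F : Type*) [Field F] (D : ChevalleyDatum) : Prop :=
  ∀ θ : ↥(D.group F) ≃* ↥(D.group F),
    ∃ (x : ↥(D.group F)) (d g f : ↥(D.group F) ≃* ↥(D.group F)),
      D.IsDiagonalAut d ∧ D.IsGraphAut g ∧ D.IsFieldAut f ∧ ∀ y : ↥(D.group F), θ y = x * d (g (f y)) * x⁻¹

/-- diagonal automorphisms are inner -/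
def DiagInner (F : Type*) [Field F] (D : ChevalleyDatum) : Prop :=
  ∀ d : ↥(D.group F) ≃* ↥(D.group F), D.IsDiagonalAut d → ∃ h : ↥(D.group F), ∀ y, d y = h * y * h⁻¹

/-- the field automorphisms, as a homomorphism into the automorphism group -/
noncomputable def fieldHom : (F ≃+* F) →* MulAut ↥(D.group F) where
  toFun σ := Cfsg.Agent.Helper36.ChevAut.fieldAut D (Cfsg.Agent.Helper40.ChevAdd.addOK_of_mem hD) σ
  map_one' := Cfsg.Agent.Helper36.ChevAut.fieldAut_one D _
  map_mul' σ τ := Cfsg.Agent.Helper36.ChevAut.fieldAut_mul D _ σ τ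

theorem fieldHom_apply (σ : F ≃+* F) :
    fieldHom D hD σ = Cfsg.Agent.Helper36.ChevAut.fieldAut D
      (Cfsg.Agent.Helper40.ChevAdd.addOK_of_mem hD) σ := rfl

theorem fieldHom_xg (σ : F ≃+* F) (r : ℕ) (t : F) :
    fieldHom D hD σ (xg D hD r t) = xg D hD r (σ t) := by
  apply Subtype.ext
  apply Units.ext
  have h1 := Cfsg.Agent.Helper36.ChevAut.fieldAut_x D (Cfsg.Agent.Helper40.ChevAdd.addOK_of_mem hD)
    σ (xg D hD r t) r t (xg_val D hD r t)
  rw [xg_val]
  exact h1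

theorem presU_fieldHom (σ : F ≃+* F) : PresU D (fieldHom D hD σ) :=
  presU_of_roots D hD _ (fun r t hr => ⟨r, σ t, hr, by rw [fieldHom_xg, xg_val]⟩)

theorem presV_fieldHom (σ : F ≃+* F) : PresV D (fieldHom D hD σ) :=
  presV_of_roots D hD _ (fun r t hr => ⟨r, σ t, hr, by rw [fieldHom_xg, xg_val]⟩)

theorem presU_mul (a b : MulAut ↥(D.group F)) (ha : PresU D a) (hb : PresU D b) : PresU D (a * b) :=
  fun u hu => ha _ (hb u hu)

theorem presV_mul (a b : MulAut ↥(D.group F)) (ha : PresV D a) (hb : PresV D b) : PresV D (a * b) :=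
  fun u hu => ha _ (hb u hu)

theorem fieldHom_inner (hN : NormHyp F D) (σ : F ≃+* F) (h : fieldHom D hD σ ∈ Cfsg.Inn ↥(D.group F)) :
    σ = 1 := by
  obtain ⟨x, hx⟩ := (OutCount.mem_inn_iff _).mp h
  exact fieldAut_not_inner D hD hN σ x hx

/-- every automorphism is inner · graph · field, when diagonal automorphisms are inner -/
theorem decomp (hAll : AutThm F D) (hdiag : DiagInner F D) (θ : MulAut ↥(D.group F)) :
    ∃ (ι g : MulAut ↥(D.group F)) (σ : F ≃+* F), ι ∈ Cfsg.Inn ↥(D.group F) ∧ D.IsGraphAut g ∧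
      θ = ι * g * fieldHom D hD σ := by
  obtain ⟨x, d, g, f, hd, hg, ⟨σ, hf⟩, hθ⟩ := hAll θ
  obtain ⟨h, hh⟩ := hdiag d hd
  have hfσ : f = fieldHom D hD σ := isFieldAut_eq D hD f σ hf
  refine ⟨MulAut.conj (x * h), g, σ, ⟨x * h, rfl⟩, hg, ?_⟩
  ext y
  have := hθ y
  rw [hh, hfσ] at this
  have e : (MulAut.conj (x * h) * g * fieldHom D hD σ) y
      = (x * h) * g (fieldHom D hD σ y) * (x * h)⁻¹ := rfl
  rw [e]
  have e2 : θ y = x * (h * g ((fieldHom D hD σ) y) * h⁻¹) * x⁻¹ := this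
  rw [e2]
  congr 2
  group

include hD in
/-- **No graph automorphism: `|Out G| = f`.** -/
theorem card_out_field (hAll : AutThm F D) (hdiag : DiagInner F D) (hN : NormHyp F D)
    (hgraph : ∀ g : ↥(D.group F) ≃* ↥(D.group F), D.IsGraphAut g → g = MulEquiv.refl _)
    (τ : F ≃+* F) (hτ : ∀ σ : F ≃+* F, ∃ k : ℕ, σ = τ ^ k) (f : ℕ) (hf : orderOf τ = f) :
    Nat.card (Cfsg.Out ↥(D.group F)) = f := by
  apply OutCount.card_out_of_cyclic (fieldHom D hD τ) f
  · intro θ
    obtain ⟨ι, g, σ, hι, hg, rfl⟩ := decomp D hD hAll hdiag θ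
    obtain ⟨k, rfl⟩ := hτ σ
    refine ⟨k, ι, hι, ?_⟩
    have hg1 : g = 1 := hgraph g hg
    rw [hg1, mul_one, map_pow]
  · rw [← map_pow, ← hf, pow_orderOf_eq_one, map_one]
    exact one_mem _
  · intro k hk
    rw [← map_pow] at hk
    have := fieldHom_inner D hD hN _ hk
    rw [← hf]
    exact orderOf_dvd_of_pow_eq_one this

/-- **One graph automorphism: `|Out G| = 2 f`.** -/
theorem card_out_graph (hAll : AutThm F D) (hdiag : DiagInner F D) (hN : NormHyp F D)
    (γ₀ : MulAut ↥(D.group F))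
    (hgraph : ∀ g : ↥(D.group F) ≃* ↥(D.group F), D.IsGraphAut g → g = 1 ∨ g = γ₀)
    (τ : F ≃+* F) (hτ : ∀ σ : F ≃+* F, ∃ k : ℕ, σ = τ ^ k) (f : ℕ) (hf : orderOf τ = f)
    (hsq : γ₀ * γ₀ = fieldHom D hD τ) (hγU : PresU D γ₀) (hγV : PresV D γ₀)
    (r s : ℕ) (hr : D.IsPosRoot r) (hs : s < D.nroots) (hrs : r ≠ s)
    (hmove : γ₀ (xg D hD r 1) = xg D hD s 1) :
    Nat.card (Cfsg.Out ↥(D.group F)) = 2 * f := by
  have hpow2 : ∀ j : ℕ, γ₀ ^ (2 * j) = fieldHom D hD (τ ^ j) := by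
    intro j
    rw [pow_mul, pow_two, hsq, map_pow]
  apply OutCount.card_out_of_cyclic γ₀ (2 * f)
  · intro θ
    obtain ⟨ι, g, σ, hι, hg, rfl⟩ := decomp D hD hAll hdiag θ
    obtain ⟨k, rfl⟩ := hτ σ
    rcases hgraph g hg with rfl | rfl
    · exact ⟨2 * k, ι, hι, by rw [mul_one, hpow2]⟩
    · refine ⟨1 + 2 * k, ι, hι, ?_⟩
      rw [pow_add, pow_one, hpow2, mul_assoc]
  · rw [hpow2, ← hf, pow_orderOf_eq_one, map_one]
    exact one_mem _
  · intro m hm
    rcases Nat.even_or_odd' m with ⟨j, rfl | rfl⟩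
    · rw [hpow2] at hm
      have := fieldHom_inner D hD hN _ hm
      rw [← hf]
      exact Nat.mul_dvd_mul_left 2 (orderOf_dvd_of_pow_eq_one this)
    · exfalso
      obtain ⟨x, hx⟩ := (OutCount.mem_inn_iff _).mp hm
      have e : γ₀ ^ (2 * j + 1) = γ₀ * fieldHom D hD (τ ^ j) := by
        rw [pow_succ, hpow2]
        have : Commute γ₀ (γ₀ ^ (2 * j)) := (Commute.refl γ₀).pow_right _
        rw [← hpow2]
        exact this.eq.symm
      have hU : PresU D (γ₀ ^ (2 * j + 1)) := by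
        rw [e]; exact presU_mul D _ _ hγU (presU_fieldHom D hD _)
      have hV : PresV D (γ₀ ^ (2 * j + 1)) := by
        rw [e]; exact presV_mul D _ _ hγV (presV_fieldHom D hD _)
      refine not_inner_of_moves D hD hN (γ₀ ^ (2 * j + 1)) hU hV r s hr hs hrs ?_ x hx
      rw [e]
      have : (γ₀ * fieldHom D hD (τ ^ j)) (xg D hD r 1) = γ₀ (fieldHom D hD (τ ^ j) (xg D hD r 1)) := rfl
      rw [this, fieldHom_xg, map_one, hmove, xg_val]

end Cfsg.Agent.Helper96.OutChev
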