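import Cfsg.Agent.Helper96.OutChevC
import Cfsg.Agent.Helper36.Unimod
import Cfsg.Agent.Helper18.TorusH
import Cfsg.Agent.S2157

/-!
# Diagonal automorphisms of `G₂`, `F₄`, `E₈` are inner

The Cartan matrix is unimodular, so every character of the root lattice is the character of an
element of `H`.
-/

set_option autoImplicit false

namespace Cfsg.Agent.Helper96.OutChev

open Cfsg Cfsg.Lie

/-- `B` is a left inverse of the Cartan matrix `(A_{i, p_j})`, and the Cartan integers change sign
with the root -/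
def linvOK (D : ChevalleyDatum) (B : List (List ℤ)) : Bool :=
  ((List.range D.rank).all fun k => (List.range D.rank).all fun j =>
    decide (((List.range D.rank).map fun i => (B.getD k []).getD i 0 * D.cartan i (D.simple j)).sum
      = if k = j then 1 else 0)) &&
  ((List.range D.rank).all fun i => (List.range D.rank).all fun j =>
    decide (D.cartan i (D.neg (D.simple j)) = - D.cartan i (D.simple j)))

theorem linvOK_G2 : linvOK chevG2 Cfsg.Agent.Helper36.Unimod.invG2 = true := by decide +kernel
theorem linvOK_F4 : linvOK chevF4 Cfsg.Agent.Helper36.Unimod.invF4 = true := by decide +kernel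
theorem linvOK_E8 : linvOK chevE8 Cfsg.Agent.Helper36.Unimod.invE8 = true := by decide +kernel

variable {F : Type*} [Field F] (D : ChevalleyDatum)
  (hD : D ∈ [chevG2, chevB2, chevD4, chevF4, chevE6, chevE7, chevE8])

include hD in
/-- **Diagonal automorphisms are inner** when the Cartan matrix has an integral left inverse. -/
theorem diagInner_of_linvOK (B : List (List ℤ)) (hB : linvOK D B = true) : DiagInner F D := by
  classical
  intro d hd
  obtain ⟨χ, hχ, hdχ⟩ := hd
  have htri := Cfsg.Agent.Helper18.triOK_of_mem D hD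
  have hs := Cfsg.Agent.Helper18.simpleOK_of_mem D hD
  unfold linvOK at hB
  rw [Bool.and_eq_true, List.all_eq_true, List.all_eq_true] at hB
  obtain ⟨hB1, hB2⟩ := hB
  have hBA : ∀ k < D.rank, ∀ j < D.rank,
      ∑ i ∈ Finset.range D.rank, (B.getD k []).getD i 0 * D.cartan i (D.simple j)
        = if k = j then 1 else 0 := by
    intro k hk j hj
    have h1 := hB1 k (List.mem_range.mpr hk)
    rw [List.all_eq_true] at h1
    have h2 := h1 j (List.mem_range.mpr hj)
    rw [decide_eq_true_eq] at h2
    rw [← Cfsg.Agent.Helper36.Unimod.list_range_sum]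
    exact h2
  have hneg : ∀ i < D.rank, ∀ j < D.rank,
      D.cartan i (D.neg (D.simple j)) = - D.cartan i (D.simple j) := by
    intro i hi j hj
    have h1 := hB2 i (List.mem_range.mpr hi)
    rw [List.all_eq_true] at h1
    have h2 := h1 j (List.mem_range.mpr hj)
    rwa [decide_eq_true_eq] at h2
  -- the torus element
  let a : ℕ → Fˣ := fun k => χ (D.simple k)
  let c : Fin D.rank → Fˣ := fun i => ∏ k ∈ Finset.range D.rank, a k ^ (B.getD k []).getD i.val 0
  let c' : ℕ → Fˣ := fun i => ∏ k ∈ Finset.range D.rank, a k ^ (B.getD k []).getD i 0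
  have hrec : ∀ j < D.rank, ∏ i ∈ Finset.range D.rank, c' i ^ D.cartan i (D.simple j) = a j := by
    intro j hj
    exact Cfsg.Agent.Helper36.Unimod.recover D.rank (fun k i => (B.getD k []).getD i 0)
      (fun i j => D.cartan i (D.simple j)) hBA a j hj
  have hψ : ∀ s : ℕ, ∏ i : Fin D.rank, c i ^ D.cartan i.val s
      = ∏ i ∈ Finset.range D.rank, c' i ^ D.cartan i s := by
    intro s
    rw [← Fin.prod_univ_eq_prod_range (fun i => c' i ^ D.cartan i s) D.rank]
  let hT : GL D.Idx F := Cfsg.Agent.Helper18.torusHom D F c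
  have hTH : hT ∈ D.diagonalSubgroup F := Cfsg.Agent.Helper18.torusHom_mem D hD c
  have hTG : hT ∈ D.group F := Cfsg.Agent.S1043.diagonalSubgroup_le_group D _ htri hTH
  obtain ⟨ψ, -, hψdiag, hψc⟩ := Cfsg.Agent.Helper18.diagonalSubgroup_char D hD hT hTH
  have hψval : ∀ s < D.nroots, ψ s = ((∏ i : Fin D.rank, c i ^ D.cartan i.val s : Fˣ) : F) := by
    intro s hs'
    have h1 := congrArg (fun M : Matrix D.Idx D.Idx F => M (Sum.inr ⟨s, hs'⟩) (Sum.inr ⟨s, hs'⟩)) hψdiag
    simp only [Matrix.diagonal_apply_eq, Sum.elim_inr] at h1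
    rw [← h1]
    show ((Cfsg.Agent.Helper18.torusHom D F c : GL D.Idx F) : Matrix D.Idx D.Idx F) _ _ = _
    rw [Cfsg.Agent.Helper18.torusHom_val, Matrix.diagonal_apply_eq]
    rfl
  refine ⟨⟨hT, hTG⟩, ?_⟩
  -- compare `d` with conjugation by `hT` on the generators
  have key : d = MulAut.conj (⟨hT, hTG⟩ : ↥(D.group F)) := by
    apply ext_simple D hD
    intro i hi t γ hγ
    have hp : D.simple i < D.nroots := Cfsg.Agent.Helper18.simple_lt D hs i hi
    have hnp : D.neg (D.simple i) < D.nroots := (Cfsg.Agent.Helper18.triOK_spec D _ htri _ hp).1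
    have hχi : ψ (D.simple i) = ((χ (D.simple i) : Fˣ) : F) := by
      rw [hψval _ hp, hψ, hrec i hi]
    have hχni : ψ (D.neg (D.simple i)) = ((χ (D.neg (D.simple i)) : Fˣ) : F) := by
      rw [hψval _ hnp, hψ, hχ.1 _ hp]
      have : ∏ j ∈ Finset.range D.rank, c' j ^ D.cartan j (D.neg (D.simple i))
          = (∏ j ∈ Finset.range D.rank, c' j ^ D.cartan j (D.simple i))⁻¹ := by
        rw [← Finset.prod_inv_distrib]
        apply Finset.prod_congr rfl
        intro j hj
        rw [hneg j (Finset.mem_range.mp hj) i hi, zpow_neg]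
      rw [this, hrec i hi]
    -- both sides on a root element `x_r(t)`
    have hboth : ∀ (r : ℕ) (hr : r < D.nroots), ψ r = ((χ r : Fˣ) : F) →
        ((γ : GL D.Idx F) : Matrix D.Idx D.Idx F) = D.x F r t →
        d γ = MulAut.conj (⟨hT, hTG⟩ : ↥(D.group F)) γ := by
      intro r hr hψr hγr
      apply Subtype.ext
      apply Units.ext
      rw [hdχ γ, hγr, Cfsg.Agent.S2157.result D hD χ hχ r hr t]
      have hγ' : (γ : GL D.Idx F) = Cfsg.Agent.Helper18.xGL D F r t := by
        apply Units.ext
        rw [hγr, Cfsg.Agent.Helper18.xGL_val D _ htri]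
      have h2 := hψc r hr t
      show D.x F r ((χ r : F) * t) = ((hT * (γ : GL D.Idx F) * hT⁻¹ : GL D.Idx F) : Matrix D.Idx D.Idx F)
      rw [hγ', h2, mul_assoc, mul_inv_cancel, mul_one, Cfsg.Agent.Helper18.xGL_val D _ htri, hψr]
    rcases hγ with hγ | hγ
    · exact hboth _ hp hχi hγ
    · exact hboth _ hnp hχni hγ
  intro y
  rw [key]
  rfl

/-- `G₂`, `F₄`, `E₈` -/
theorem diagInner (hD3 : D ∈ [chevG2, chevF4, chevE8]) : DiagInner F D := by
  simp only [List.mem_cons, List.not_mem_nil, or_false] at hD3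
  rcases hD3 with rfl | rfl | rfl
  · exact diagInner_of_linvOK chevG2 (by simp) _ linvOK_G2
  · exact diagInner_of_linvOK chevF4 (by simp) _ linvOK_F4
  · exact diagInner_of_linvOK chevE8 (by simp) _ linvOK_E8

end Cfsg.Agent.Helper96.OutChev
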