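import Cfsg.Agent.Helper96.OutChevB
import Cfsg.Agent.Helper18.Aut.ChevInst

/-!
# Outer automorphisms of Chevalley groups: the normalisers of `U` and `V`

Over a finite field, `N_G(U) ≤ B` and `N_G(V) ≤ V H` (from the `(B,N)`-pair: the overgroups of `B` are
the parabolic subgroups, and no fundamental reflection normalises `U`).
-/

set_option autoImplicit false

namespace Cfsg.Agent.Helper96.OutChev

open Cfsg Cfsg.Lie Cfsg.Agent.Helper18 Cfsg.Agent.Helper18.Aut Cfsg.Agent.Helper6

section

variable {F : Type*} [Field F] [Finite F] (D : ChevalleyDatum)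
  (hD : D ∈ [chevG2, chevB2, chevD4, chevF4, chevE6, chevE7, chevE8])

include hD in
/-- `U` is finite -/
theorem finite_posUnipotent : Finite ↥(D.posUnipotent F) := by
  have : Finite (GL D.Idx F) := by
    haveI : Fintype F := Fintype.ofFinite F
    haveI : Fintype D.Idx := by unfold ChevalleyDatum.Idx; infer_instance
    haveI : DecidableEq D.Idx := Classical.decEq _
    infer_instance
  infer_instance

include hD in
/-- an element of `G` conjugating `U` into `U` lies in `B` -/
theorem normU_le (g : GL D.Idx F) (hg : g ∈ D.group F)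
    (h : ∀ u ∈ D.posUnipotent F, g * u * g⁻¹ ∈ D.posUnipotent F) : g ∈ D.borelSubgroup F := by
  classical
  haveI := finite_posUnipotent (F := F) D hD
  -- `g U g⁻¹ = U`
  have hle : cjg g (D.posUnipotent F) ≤ D.posUnipotent F := by
    intro x hx
    rw [mem_cjg] at hx
    have := h _ hx
    have e : g * (g⁻¹ * x * g) * g⁻¹ = x := by group
    rwa [e] at this
  have heq : cjg g (D.posUnipotent F) = D.posUnipotent F := by
    apply Subgroup.eq_of_le_of_card_ge hle
    rw [card_cjg]
  obtain ⟨P, hB, hN, hS⟩ := Cfsg.Agent.S1042.result (F := F) D hD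
  have hUG := pos_le_group (F := F) D hD
  have hmemB : ∀ b : ↥(D.group F), b ∈ P.B ↔ (b : GL D.Idx F) ∈ D.borelSubgroup F := by
    intro b; rw [hB, Subgroup.mem_subgroupOf]
  set U' : Subgroup ↥(D.group F) := (D.posUnipotent F).subgroupOf (D.group F) with hU'
  let M : Subgroup ↥(D.group F) :=
    { carrier := {g | cjg g U' = U'}
      one_mem' := cjg_one U'
      mul_mem' := by
        intro a b ha hb
        show cjg (a * b) U' = U'
        rw [cjg_mul, (hb : cjg b U' = U'), (ha : cjg a U' = U')]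
      inv_mem' := by
        intro a ha
        show cjg a⁻¹ U' = U'
        have ha' : cjg a U' = U' := ha
        conv_lhs => rw [← ha']
        exact cjg_inv_cjg a U' }
  have hM : P.B ≤ M := by
    intro b hb
    show cjg b U' = U'
    rw [hU', cjg_subgroupOf, cjg_borel_pos D hD _ ((hmemB b).mp hb)]
  have hMp := overgroup_eq_parabolic M hM
  have hJ : {t | t ∈ P.S ∧ t ∈ M} = (∅ : Set ↥(D.group F)) := by
    ext t
    simp only [Set.mem_setOf_eq, Set.mem_empty_iff_false, iff_false, not_and]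
    intro ht htM
    rw [hS] at ht
    obtain ⟨i, hi, hn⟩ := ht
    have htM' : cjg t U' = U' := htM
    rw [hU', cjg_subgroupOf] at htM'
    have ht' : (t : GL D.Idx F) = wordGL D F (D.nWord (D.simple i) (1 : F)) := by
      apply Units.ext
      rw [hn]
      exact (nWordGL_val D hD _ _).symm
    rw [ht'] at htM'
    have h1 := eq_of_subgroupOf_eq (cjg_le_of_mem (wordGL_mem_group D hD _) hUG) hUG htM'
    exact cjg_n_pos_ne D hD i hi h1
  rw [hJ, parabolic_empty] at hMp
  have hgM : (⟨g, hg⟩ : ↥(D.group F)) ∈ M := by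
    show cjg (⟨g, hg⟩ : ↥(D.group F)) U' = U'
    rw [hU', cjg_subgroupOf]
    show (cjg g (D.posUnipotent F)).subgroupOf _ = _
    rw [heq]
  rw [hMp] at hgM
  exact (hmemB _).mp hgM

include hD in
/-- an element of `G` conjugating `V` into `V` lies in `V H` -/
theorem normV_le (g : GL D.Idx F) (hg : g ∈ D.group F)
    (h : ∀ v ∈ D.negUnipotent F, g * v * g⁻¹ ∈ D.negUnipotent F) :
    g ∈ D.negUnipotent F ⊔ D.diagonalSubgroup F := by
  obtain ⟨n₀, star, hn₀, hn₀U, -, -⟩ := exists_longest_star (F := F) D hD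
  have hn₀G : n₀ ∈ D.group F := monomial_le_group D hD hn₀
  -- `n₀⁻¹ g n₀` normalises `U`
  have hB : n₀⁻¹ * g * n₀ ∈ D.borelSubgroup F := by
    apply normU_le D hD _ (mul_mem (mul_mem (inv_mem hn₀G) hg) hn₀G)
    intro u hu
    have h1 : n₀ * u * n₀⁻¹ ∈ D.negUnipotent F := by
      rw [← hn₀U]
      exact conj_mem_cjg hu
    have h2 := h _ h1
    have h3 : n₀⁻¹ * (g * (n₀ * u * n₀⁻¹) * g⁻¹) * n₀ ∈ D.posUnipotent F := by
      rw [← hn₀U, mem_cjg] at h2
      exact h2
    have e : n₀⁻¹ * g * n₀ * u * (n₀⁻¹ * g * n₀)⁻¹ = n₀⁻¹ * (g * (n₀ * u * n₀⁻¹) * g⁻¹) * n₀ := by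
      group
    rw [e]
    exact h3
  obtain ⟨u, hu, d, hd, e⟩ := mem_borel_decomp D hD _ hB
  have hg' : g = (n₀ * u * n₀⁻¹) * (n₀ * d * n₀⁻¹) := by
    have : g = n₀ * (n₀⁻¹ * g * n₀) * n₀⁻¹ := by group
    rw [this, e]
    group
  rw [hg']
  apply mul_mem
  · apply Subgroup.mem_sup_left
    rw [← hn₀U]
    exact conj_mem_cjg hu
  · apply Subgroup.mem_sup_right
    have hn := monomialSubgroup_le_normalizer (F := F) D hD hn₀
    exact (Subgroup.mem_normalizer_iff.mp hn d).mp hd

include hD in
/-- the normaliser hypotheses hold over a finite field -/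
theorem normHyp : NormHyp F D := ⟨normU_le D hD, normV_le D hD⟩

end

end Cfsg.Agent.Helper96.OutChev
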