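import Cfsg.Agent.S2156
import Cfsg.Agent.Helper96.OutChevD
import Cfsg.Agent.Helper96.OutChevE
import Cfsg.Agent.Helper96.OutChevF

/-!
# Outer automorphisms of Chevalley groups: the count from the automorphism theorem

`|Out G| = f` when the only graph automorphism is the identity, and `|Out G| = 2 f` when there is an
exceptional graph automorphism `α` (given by a table `ρ`, `lam` on all roots) whose square is the
Frobenius field automorphism.
-/

set_option autoImplicit false

namespace Cfsg.Agent.Helper96.OutChev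

open Cfsg Cfsg.Lie Cfsg.Agent.Helper18

variable {F : Type*} [Field F] [Fintype F] (p : ℕ) [Fact p.Prime] [CharP F p] (D : ChevalleyDatum)
  (hD : D ∈ [chevG2, chevB2, chevD4, chevF4, chevE6, chevE7, chevE8])

include hD in
/-- only field automorphisms -/
theorem card_out_of_noGraph {f : ℕ} (hF : Fintype.card F = p ^ f) (hdiag : DiagInner F D)
    (hgraph : ∀ g : ↥(D.group F) ≃* ↥(D.group F), D.IsGraphAut g → g = MulEquiv.refl _) :
    Nat.card (Cfsg.Out ↥(D.group F)) = f :=
  card_out_field D hD (fun θ => Cfsg.Agent.S2156.result D hD θ) hdiag (normHyp D hD) hgraph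
    (frobeniusEquiv F p) (frob_generates p hF) f (frob_orderOf p hF)

include hD in
/-- an exceptional graph automorphism -/
theorem card_out_of_table {f : ℕ} (hF : Fintype.card F = p ^ f) (hdiag : DiagInner F D)
    (ρ lam : ℕ → ℕ) (π₀ : Equiv.Perm (Fin D.rank))
    (α : ↥(D.group F) ≃* ↥(D.group F))
    (hα : ∀ (g : ↥(D.group F)) (r : ℕ) (t : F), r < D.nroots →
      ((g : GL D.Idx F) : Matrix D.Idx D.Idx F) = D.x F r t →
      ((α g : GL D.Idx F) : Matrix D.Idx D.Idx F) = D.x F (ρ r) (t ^ lam r))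
    (hpn : ∀ r < D.nroots, ρ r < D.nroots ∧ (D.IsPosRoot r → D.IsPosRoot (ρ r)) ∧
      (D.IsNegRoot r → D.IsNegRoot (ρ r)))
    (hinv : ∀ i < D.rank, ρ (ρ (D.simple i)) = D.simple i ∧
      lam (D.simple i) * lam (ρ (D.simple i)) = p ∧
      ρ (ρ (D.neg (D.simple i))) = D.neg (D.simple i) ∧
      lam (D.neg (D.simple i)) * lam (ρ (D.neg (D.simple i))) = p)
    (hπ₀ : ∀ i : Fin D.rank, ρ (D.simple i) = D.simple (π₀ i) ∧
      ρ (D.neg (D.simple i)) = D.neg (D.simple (π₀ i)) ∧
      lam (D.simple i) = D.graphExp p i (π₀ i) ∧ lam (D.neg (D.simple i)) = D.graphExp p i (π₀ i))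
    (hsym : ∀ π : Equiv.Perm (Fin D.rank), D.IsDiagramSymmetry π → π = 1 ∨ π = π₀)
    (h0 : 0 < D.rank) (hmv : D.simple 0 ≠ ρ (D.simple 0)) :
    Nat.card (Cfsg.Out ↥(D.group F)) = 2 * f := by
  have hsim := simpleOK_of_mem D hD
  have htri := triOK_of_mem D hD
  have hαx : ∀ (r : ℕ) (t : F), r < D.nroots → α (xg D hD r t) = xg D hD (ρ r) (t ^ lam r) :=
    fun r t hr => eq_xg D hD _ _ _ (hα _ r t hr (xg_val D hD r t))
  have hchar : ringChar F = p := ringChar.eq F p
  have hp0 : D.simple 0 < D.nroots := simple_lt D hsim 0 h0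
  have hpos0 : D.IsPosRoot (D.simple 0) :=
    (isPosRoot_iff D _ (posOK_of_mem D hD) _).mpr ⟨simple_pos D hD 0 h0, hp0⟩
  have hfrob : ∀ t : F, frobeniusEquiv F p t = t ^ p := fun t => by
    rw [frobeniusEquiv_apply, frobenius_def]
  refine card_out_graph D hD (fun θ => Cfsg.Agent.S2156.result D hD θ) hdiag (normHyp D hD) α ?_
    (frobeniusEquiv F p) (frob_generates p hF) f (frob_orderOf p hF) ?_ ?_ ?_
    (D.simple 0) (ρ (D.simple 0)) hpos0 (hpn _ hp0).1 hmv ?_
  · -- the graph automorphisms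
    rintro g ⟨π, hπ, hg⟩
    rcases hsym π hπ with rfl | rfl
    · left
      exact graphAutFor_one D hD g hg
    · right
      apply ext_simple D hD
      intro i hi t γ hγ
      have hp := simple_lt D hsim i hi
      have hnp := (triOK_spec D _ htri _ hp).1
      obtain ⟨e1, e2, e3, e4⟩ := hπ₀ ⟨i, hi⟩
      apply Subtype.ext
      apply Units.ext
      rcases hγ with hγ | hγ
      · rw [(hg γ ⟨i, hi⟩ t).1 hγ, hα γ _ t hp hγ, e1, e3, hchar]
      · rw [(hg γ ⟨i, hi⟩ t).2 hγ, hα γ _ t hnp hγ, e2, e4, hchar]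
  · -- the square is the Frobenius
    apply ext_simple D hD
    intro i hi t γ hγ
    have hp := simple_lt D hsim i hi
    have hnp := (triOK_spec D _ htri _ hp).1
    obtain ⟨e1, e2, e3, e4⟩ := hinv i hi
    rcases hγ with hγ | hγ
    · rw [eq_xg D hD γ _ _ hγ]
      show α (α (xg D hD (D.simple i) t)) = fieldHom D hD (frobeniusEquiv F p) (xg D hD (D.simple i) t)
      rw [hαx _ _ hp, hαx _ _ (hpn _ hp).1, fieldHom_xg, e1, ← pow_mul, e2, hfrob]
    · rw [eq_xg D hD γ _ _ hγ]
      show α (α (xg D hD (D.neg (D.simple i)) t)) =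
        fieldHom D hD (frobeniusEquiv F p) (xg D hD (D.neg (D.simple i)) t)
      rw [hαx _ _ hnp, hαx _ _ (hpn _ hnp).1, fieldHom_xg, e3, ← pow_mul, e4, hfrob]
  · exact presU_of_roots D hD α (fun r t hr =>
      ⟨ρ r, t ^ lam r, (hpn r hr.1).2.1 hr, by rw [hαx r t hr.1, xg_val]⟩)
  · exact presV_of_roots D hD α (fun r t hr =>
      ⟨ρ r, t ^ lam r, (hpn r hr.1).2.2 hr, by rw [hαx r t hr.1, xg_val]⟩)
  · rw [hαx _ _ hp0, one_pow]

end Cfsg.Agent.Helper96.OutChev
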