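import Cfsg.Agent.Helper96.OutChevG
import Cfsg.Agent.Helper18.Aut.TypeAnalysis
import Cfsg.Agent.Helper18.GraphAut.Types

/-!
# Outer automorphisms of `G₂(q)` and `F₄(q)`: the graph automorphisms

A graph automorphism for the non-trivial symmetry forces the characteristic (3 for `G₂`, 2 for
`F₄`); in that characteristic the exceptional graph automorphism squares to the Frobenius.
-/

set_option autoImplicit false
set_option maxRecDepth 100000

namespace Cfsg.Agent.Helper96.OutChev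

open Cfsg Cfsg.Lie Cfsg.Agent.Helper18 Cfsg.Agent.Helper18.Aut Cfsg.Agent.Helper18.GraphAut
  Cfsg.Agent.Helper36.ChevAut

section

variable {F : Type*} [Field F] [Finite F] (D : ChevalleyDatum)
  (hD : D ∈ [chevG2, chevB2, chevD4, chevF4, chevE6, chevE7, chevE8])

include hD in
/-- the relations between the field automorphisms attached to a graph automorphism -/
theorem graph_rel (π : Equiv.Perm (Fin D.rank)) (g : ↥(D.group F) ≃* ↥(D.group F))
    (hg : GraphAutFor D π g) :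
    ∃ σ : Fin D.rank → F ≃+* F, ∀ (i k : Fin D.rank) (t : F), t ≠ 0 →
      σ k t ^ (D.cartan i (D.simple k)) = σ i t ^ (D.cartan (π i) (D.simple (π k))) := by
  have hX : ∀ (i : Fin D.rank) (t : F), ∃ t', g (xS D hD (D.simple i) t) = xS D hD (D.simple (π i)) t' := by
    intro i t
    refine ⟨t ^ D.graphExp (ringChar F) i (π i), ?_⟩
    apply Subtype.ext
    apply Units.ext
    rw [(hg _ i t).1 (xGL_val D _ (triOK_of_mem D hD) _ _)]
    exact (xGL_val D _ (triOK_of_mem D hD) _ _).symm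
  have hY : ∀ (i : Fin D.rank) (t : F), ∃ t', g (xS D hD (D.neg (D.simple i)) t) =
      xS D hD (D.neg (D.simple (π i))) t' := by
    intro i t
    refine ⟨t ^ D.graphExp (ringChar F) i (π i), ?_⟩
    apply Subtype.ext
    apply Units.ext
    rw [(hg _ i t).2 (xGL_val D _ (triOK_of_mem D hD) _ _)]
    exact (xGL_val D _ (triOK_of_mem D hD) _ _).symm
  obtain ⟨c, σ, -, -, h3⟩ := (chev_L2 (F := F) D hD).main g π hX hY
  exact ⟨σ, h3⟩

/-- a non-trivial graph automorphism of `G₂` needs characteristic `3` (or the field of two elements) -/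
theorem char_of_graph_G2 (g : ↥(chevG2.group F) ≃* ↥(chevG2.group F))
    (hg : GraphAutFor chevG2 (Equiv.swap g20 g21) g) : ringChar F = 3 ∨ ∀ t : F, t = 0 ∨ t = 1 := by
  obtain ⟨σ, R1⟩ := graph_rel chevG2 hG2 _ g hg
  have hcu : ∀ t, t ≠ 0 → σ g20 t = σ g21 t ^ 3 := by
    intro t ht
    have h := R1 g20 g21 t ht
    have e1 : chevG2.cartan (g20 : ℕ) (chevG2.simple (g21 : ℕ)) = -((3 : ℕ) : ℤ) := by decide
    have e2 : chevG2.cartan ((Equiv.swap g20 g21 g20 : Fin chevG2.rank) : ℕ)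
        (chevG2.simple ((Equiv.swap g20 g21 g21 : Fin chevG2.rank) : ℕ)) = -1 := by decide
    rw [e1, e2] at h
    exact zpow_rel 3 h
  exact char_three_of_cube (σ g20) (σ g21) hcu

/-- a non-trivial graph automorphism of `F₄` needs characteristic `2` -/
theorem char_of_graph_F4 (g : ↥(chevF4.group F) ≃* ↥(chevF4.group F))
    (hg : GraphAutFor chevF4 (Equiv.swap f40 f43 * Equiv.swap f41 f42) g) : ringChar F = 2 := by
  obtain ⟨σ, R1⟩ := graph_rel chevF4 hF4 _ g hg
  have hsq : ∀ t, t ≠ 0 → σ f41 t = σ f42 t ^ 2 := by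
    intro t ht
    have h := R1 f41 f42 t ht
    have e1 : chevF4.cartan (f41 : ℕ) (chevF4.simple (f42 : ℕ)) = -((2 : ℕ) : ℤ) := by decide
    have e2 : chevF4.cartan (((Equiv.swap f40 f43 * Equiv.swap f41 f42) f41 : Fin chevF4.rank) : ℕ)
        (chevF4.simple (((Equiv.swap f40 f43 * Equiv.swap f41 f42) f42 : Fin chevF4.rank) : ℕ)) = -1 := by
      decide
    rw [e1, e2] at h
    exact zpow_rel 2 h
  exact char_two_of_sq (σ f41) (σ f42) hsq

end

/-! ### The tables -/

theorem tab_pn_G2 : ∀ r < chevG2.nroots, gdG2.rho.getD r 0 < chevG2.nroots ∧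
    (chevG2.IsPosRoot r → chevG2.IsPosRoot (gdG2.rho.getD r 0)) ∧
    (chevG2.IsNegRoot r → chevG2.IsNegRoot (gdG2.rho.getD r 0)) := by decide +kernel

theorem tab_inv_G2 : ∀ i < chevG2.rank,
    gdG2.rho.getD (gdG2.rho.getD (chevG2.simple i) 0) 0 = chevG2.simple i ∧
    gdG2.lam (chevG2.simple i) * gdG2.lam (gdG2.rho.getD (chevG2.simple i) 0) = 3 ∧
    gdG2.rho.getD (gdG2.rho.getD (chevG2.neg (chevG2.simple i)) 0) 0 = chevG2.neg (chevG2.simple i) ∧
    gdG2.lam (chevG2.neg (chevG2.simple i)) * gdG2.lam (gdG2.rho.getD (chevG2.neg (chevG2.simple i)) 0) = 3 := by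
  decide +kernel

theorem tab_pi_G2 : ∀ i : Fin chevG2.rank,
    gdG2.rho.getD (chevG2.simple i) 0 = chevG2.simple (Equiv.swap g20 g21 i) ∧
    gdG2.rho.getD (chevG2.neg (chevG2.simple i)) 0 = chevG2.neg (chevG2.simple (Equiv.swap g20 g21 i)) ∧
    gdG2.lam (chevG2.simple i) = chevG2.graphExp 3 i (Equiv.swap g20 g21 i) ∧
    gdG2.lam (chevG2.neg (chevG2.simple i)) = chevG2.graphExp 3 i (Equiv.swap g20 g21 i) := by
  decide +kernel

theorem tab_mv_G2 : chevG2.simple 0 ≠ gdG2.rho.getD (chevG2.simple 0) 0 := by decide +kernel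

theorem tab_pn_F4 : ∀ r < chevF4.nroots, gdF4.rho.getD r 0 < chevF4.nroots ∧
    (chevF4.IsPosRoot r → chevF4.IsPosRoot (gdF4.rho.getD r 0)) ∧
    (chevF4.IsNegRoot r → chevF4.IsNegRoot (gdF4.rho.getD r 0)) := by decide +kernel

theorem tab_inv_F4 : ∀ i < chevF4.rank,
    gdF4.rho.getD (gdF4.rho.getD (chevF4.simple i) 0) 0 = chevF4.simple i ∧
    gdF4.lam (chevF4.simple i) * gdF4.lam (gdF4.rho.getD (chevF4.simple i) 0) = 2 ∧
    gdF4.rho.getD (gdF4.rho.getD (chevF4.neg (chevF4.simple i)) 0) 0 = chevF4.neg (chevF4.simple i) ∧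
    gdF4.lam (chevF4.neg (chevF4.simple i)) * gdF4.lam (gdF4.rho.getD (chevF4.neg (chevF4.simple i)) 0) = 2 := by
  decide +kernel

theorem tab_pi_F4 : ∀ i : Fin chevF4.rank,
    gdF4.rho.getD (chevF4.simple i) 0 = chevF4.simple ((Equiv.swap f40 f43 * Equiv.swap f41 f42) i) ∧
    gdF4.rho.getD (chevF4.neg (chevF4.simple i)) 0 =
      chevF4.neg (chevF4.simple ((Equiv.swap f40 f43 * Equiv.swap f41 f42) i)) ∧
    gdF4.lam (chevF4.simple i) = chevF4.graphExp 2 i ((Equiv.swap f40 f43 * Equiv.swap f41 f42) i) ∧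
    gdF4.lam (chevF4.neg (chevF4.simple i)) =
      chevF4.graphExp 2 i ((Equiv.swap f40 f43 * Equiv.swap f41 f42) i) := by
  decide +kernel

theorem tab_mv_F4 : chevF4.simple 0 ≠ gdF4.rho.getD (chevF4.simple 0) 0 := by decide +kernel

end Cfsg.Agent.Helper96.OutChev
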