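import Cfsg.Agent.Helper96.ReeData

/-! Helper96: kernel-checked identities for `²G₂(3)' ≅ PSL₂(8)`, part A (equivariance of `phi`
on unitriangular matrices). -/

set_option autoImplicit false

namespace Cfsg.Agent.Helper96.Ree

open Cfsg Cfsg.Lie Cfsg.Agent.Helper61 Cfsg.Agent.Helper96.Mobius

theorem phi_one : phi 1 = 1 := by decide +kernel

theorem phi_U : ∀ a : F8, ∀ P Q : Option F8,
    (phi (U a)).mulVec (v P Q) = v (mob (U a) P) (mob (U a) Q) := by decide +kernel

theorem phi_L : ∀ a : F8, ∀ P Q : Option F8,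
    (phi (L a)).mulVec (v P Q) = v (mob (L a) P) (mob (L a) Q) := by decide +kernel

end Cfsg.Agent.Helper96.Ree
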