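import Cfsg.Agent.Helper96.ReeData

/-! Helper96: kernel-checked identities for `²G₂(3)' ≅ PSL₂(8)`, part B (the generators `U(t,u,w)`). -/

set_option autoImplicit false
set_option maxRecDepth 100000

namespace Cfsg.Agent.Helper96.Ree

open Cfsg Cfsg.Lie Cfsg.Agent.Helper61 Cfsg.Agent.Helper96.Mobius

theorem fm_eq : fm = WU 0 1 0 := by decide +kernel

theorem WU_eq0 : ∀ u w : ZMod 3, WU 0 u w = DU 0 u w := by decide +kernel
theorem WU_eq1 : ∀ u w : ZMod 3, WU 1 u w = DU 1 u w := by decide +kernel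
theorem WU_eq2 : ∀ u w : ZMod 3, WU 2 u w = DU 2 u w := by decide +kernel

theorem WU_eq (t u w : ZMod 3) : WU t u w = DU t u w := by
  have ht : ∀ t : ZMod 3, t = 0 ∨ t = 1 ∨ t = 2 := by decide
  rcases ht t with rfl | rfl | rfl
  · exact WU_eq0 u w
  · exact WU_eq1 u w
  · exact WU_eq2 u w

end Cfsg.Agent.Helper96.Ree
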