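import Cfsg.Agent.Helper96.ReeData

/-! Helper96: kernel-checked identities for `²G₂(3)' ≅ PSL₂(8)`, part C (the generators `V(t,u,w)`). -/

set_option autoImplicit false
set_option maxRecDepth 100000

namespace Cfsg.Agent.Helper96.Ree

open Cfsg Cfsg.Lie Cfsg.Agent.Helper61 Cfsg.Agent.Helper96.Mobius

theorem WV_eq0 : ∀ u w : ZMod 3, WV 0 u w = DV 0 u w := by decide +kernel
theorem WV_eq1 : ∀ u w : ZMod 3, WV 1 u w = DV 1 u w := by decide +kernel
theorem WV_eq2 : ∀ u w : ZMod 3, WV 2 u w = DV 2 u w := by decide +kernel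

theorem WV_eq (t u w : ZMod 3) : WV t u w = DV t u w := by
  have ht : ∀ t : ZMod 3, t = 0 ∨ t = 1 ∨ t = 2 := by decide
  rcases ht t with rfl | rfl | rfl
  · exact WV_eq0 u w
  · exact WV_eq1 u w
  · exact WV_eq2 u w

end Cfsg.Agent.Helper96.Ree
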