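import Cfsg.Agent.Helper96.ReeData

/-! Helper96: kernel-checked identities for `²G₂(3)' ≅ PSL₂(8)`, part D (injectivity, conjugation by `f`,
words for the unitriangular matrices). -/

set_option autoImplicit false
set_option maxRecDepth 100000

namespace Cfsg.Agent.Helper96.Ree

open Cfsg Cfsg.Lie Cfsg.Agent.Helper61 Cfsg.Agent.Helper96.Mobius

theorem v_inj : ∀ P Q P' Q' : Option F8, P ≠ Q → v P Q = v P' Q' → P' = P ∧ Q' = Q := by
  decide +kernel

theorem mob_faithful : ∀ a b c d : F8, a * d - b * c = 1 →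
    (∀ P : Option F8, mob !![a, b; c, d] P = P) → a = 1 ∧ b = 0 ∧ c = 0 ∧ d = 1 := by
  decide +kernel

theorem fm_cube : fm * (fm * fm) = 1 := by decide +kernel

theorem det_gU : ∀ t u w : ZMod 3,
    gU t u w 0 0 * gU t u w 1 1 - gU t u w 0 1 * gU t u w 1 0 = 1 := by decide +kernel

theorem det_gV : ∀ t u w : ZMod 3,
    gV t u w 0 0 * gV t u w 1 1 - gV t u w 0 1 * gV t u w 1 0 = 1 := by decide +kernel

theorem det_conjF_U : ∀ a : F8,
    conjF (U a) 0 0 * conjF (U a) 1 1 - conjF (U a) 0 1 * conjF (U a) 1 0 = 1 := by decide +kernel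

theorem det_conjF_L : ∀ a : F8,
    conjF (L a) 0 0 * conjF (L a) 1 1 - conjF (L a) 0 1 * conjF (L a) 1 0 = 1 := by decide +kernel

theorem conj_U : ∀ a : F8, fm * phi (U a) = phi (conjF (U a)) * fm := by decide +kernel

theorem conj_L : ∀ a : F8, fm * phi (L a) = phi (conjF (L a)) * fm := by decide +kernel

theorem words_U : ∀ a : Fin 8, phi (U (f8 a)) = ((wUTab a).map DG).prod := by decide +kernel

theorem words_L : ∀ a : Fin 8, phi (L (f8 a)) = ((wLTab a).map DG).prod := by decide +kernel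

theorem f8_surj : ∀ a : F8, ∃ i : Fin 8, f8 i = a := by decide

end Cfsg.Agent.Helper96.Ree
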