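import Mathlib
import Cfsg.Prelude.Def_LieTwisted
import Cfsg.Agent.Helper96.ReeCheckA
import Cfsg.Agent.Helper96.ReeCheckB
import Cfsg.Agent.Helper96.ReeCheckC
import Cfsg.Agent.Helper96.ReeCheckD
import Cfsg.Agent.Helper96.CommGen
import Cfsg.Agent.Helper96.PSLTwoElt
import Cfsg.Agent.Helper5.PSL2Simple
import Cfsg.Agent.S0243

/-!
Helper96: the derived subgroup of the Ree group `²G₂(3)` (realised over `ZMod 3`, `θ = id`) has order
504 and is isomorphic to `PSL₂` over any field with eight elements (`Ree.card_and_nonempty_mulEquiv`).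
-/

set_option autoImplicit false

namespace Cfsg.Agent.Helper96.Ree

open Cfsg Cfsg.Lie Cfsg.Agent.Helper61 Cfsg.Agent.Helper96.Mobius Matrix
open scoped commutatorElement

/-- `SL₂` over the explicit field with eight elements -/
abbrev SL2 := Matrix.SpecialLinearGroup (Fin 2) F8

/-- `phi M` moves the vectors `v P Q` like `M` moves the pairs of points -/
def Equi (M : Matrix (Fin 2) (Fin 2) F8) : Prop :=
  ∀ P Q : Option F8, (phi M).mulVec (v P Q) = v (mob M P) (mob M Q)

theorem phi_mul_of {A B : Matrix (Fin 2) (Fin 2) F8} (hA : Equi A) (hB : B.det ≠ 0) :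
    phi (A * B) = phi A * phi B := by
  ext a b
  have h' : ∀ P Q : Option F8, v (mob A P) (mob A Q) a = ∑ c, phi A a c * v P Q c := by
    intro P Q
    rw [← hA P Q]
    rfl
  rw [Matrix.mul_apply]
  have e1 : phi (A * B) a b =
      ∑ k : Fin 14, v (mob A (mob B (bp k).1)) (mob A (mob B (bp k).2)) a * binv k b := by
    show ∑ k : Fin 14, v (mob (A * B) (bp k).1) (mob (A * B) (bp k).2) a * binv k b = _
    refine Finset.sum_congr rfl fun k _ => ?_
    rw [mob_mul A B hB, mob_mul A B hB]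
  have e2 : ∀ c, phi B c b = ∑ k : Fin 14, v (mob B (bp k).1) (mob B (bp k).2) c * binv k b :=
    fun c => rfl
  rw [e1]
  simp only [e2, h', Finset.sum_mul, Finset.mul_sum]
  rw [Finset.sum_comm]
  refine Finset.sum_congr rfl fun c _ => Finset.sum_congr rfl fun k _ => ?_
  ring

theorem equi_mul {A B : Matrix (Fin 2) (Fin 2) F8} (hA : Equi A) (hB : Equi B) (hBd : B.det ≠ 0) :
    Equi (A * B) := by
  intro P Q
  rw [phi_mul_of hA hBd, ← Matrix.mulVec_mulVec, hB P Q, hA, mob_mul A B hBd, mob_mul A B hBd]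

theorem transvection_eq_U {i j : Fin 2} (hij : i ≠ j) (a : F8) :
    ((Matrix.SpecialLinearGroup.transvection hij a : SL2) : Matrix (Fin 2) (Fin 2) F8) = U a ∨
    ((Matrix.SpecialLinearGroup.transvection hij a : SL2) : Matrix (Fin 2) (Fin 2) F8) = L a := by
  fin_cases i <;> fin_cases j
  · exact absurd rfl hij
  · left
    rw [Matrix.SpecialLinearGroup.transvection_coe]
    ext k l
    fin_cases k <;> fin_cases l <;> simp [U]
  · right
    rw [Matrix.SpecialLinearGroup.transvection_coe]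
    ext k l
    fin_cases k <;> fin_cases l <;> simp [L]
  · exact absurd rfl hij

theorem equi_sl (g : SL2) : Equi (g : Matrix (Fin 2) (Fin 2) F8) := by
  refine Cfsg.Agent.Helper5.transvection_induction
    (fun g : SL2 => Equi (g : Matrix (Fin 2) (Fin 2) F8)) ?_ ?_ g
  · intro i j hij a
    rcases transvection_eq_U hij a with h | h
    · show Equi _
      rw [h]; exact phi_U a
    · show Equi _
      rw [h]; exact phi_L a
  · intro A B hA hB
    show Equi _
    rw [Matrix.SpecialLinearGroup.coe_mul]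
    exact equi_mul hA hB (by rw [B.det_coe]; exact one_ne_zero)

/-- the representation of `SL₂(F8)` on the adjoint module -/
def phiHom : SL2 →* Matrix I14 I14 (ZMod 3) where
  toFun g := phi (g : Matrix (Fin 2) (Fin 2) F8)
  map_one' := by rw [Matrix.SpecialLinearGroup.coe_one]; exact phi_one
  map_mul' A B := by
    rw [Matrix.SpecialLinearGroup.coe_mul]
    exact phi_mul_of (equi_sl A) (by rw [B.det_coe]; exact one_ne_zero)

/-- the representation as a homomorphism into the general linear group -/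
def phiGL : SL2 →* GL I14 (ZMod 3) := phiHom.toHomUnits

theorem phiGL_coe (g : SL2) :
    ((phiGL g : GL I14 (ZMod 3)) : Matrix I14 I14 (ZMod 3)) =
      phi (g : Matrix (Fin 2) (Fin 2) F8) := rfl

theorem exists_ne (P : Option F8) : ∃ Q : Option F8, P ≠ Q := by
  cases P with
  | none => exact ⟨some 0, by simp⟩
  | some a => exact ⟨none, by simp⟩

theorem phiGL_injective : Function.Injective phiGL := by
  rw [injective_iff_map_eq_one]
  intro g hg
  have h1 : phi (g : Matrix (Fin 2) (Fin 2) F8) = 1 := by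
    rw [← phiGL_coe, hg]; rfl
  have hfix : ∀ P : Option F8, mob (g : Matrix (Fin 2) (Fin 2) F8) P = P := by
    intro P
    obtain ⟨Q, hPQ⟩ := exists_ne P
    have h2 := equi_sl g P Q
    rw [h1, Matrix.one_mulVec] at h2
    exact (v_inj P Q _ _ hPQ h2).1
  have hdet := g.det_coe
  rw [Matrix.det_fin_two] at hdet
  have heta := Matrix.eta_fin_two (g : Matrix (Fin 2) (Fin 2) F8)
  rw [heta] at hfix
  obtain ⟨ha, hb, hc, hd⟩ := mob_faithful _ _ _ _ hdet hfix
  apply Subtype.ext
  rw [heta, ha, hb, hc, hd, Matrix.SpecialLinearGroup.coe_one]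
  exact Matrix.one_fin_two.symm

/-- the element `f` as a unit -/
def fGL : GL I14 (ZMod 3) :=
  ⟨fm, fm * fm, fm_cube, by rw [Matrix.mul_assoc]; exact fm_cube⟩

theorem fGL_pow_three : fGL ^ (2 + 1) = 1 := by
  apply Units.ext
  rw [pow_succ, pow_two]
  show fm * fm * fm = 1
  rw [Matrix.mul_assoc]; exact fm_cube

theorem fpow_eq (k : Fin 3) :
    fpow k = ((fGL ^ (k : ℕ) : GL I14 (ZMod 3)) : Matrix I14 I14 (ZMod 3)) := by
  fin_cases k
  · rfl
  · show fm = ((fGL ^ 1 : GL I14 (ZMod 3)) : Matrix I14 I14 (ZMod 3))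
    rw [pow_one]; rfl
  · show fm * fm = ((fGL ^ 2 : GL I14 (ZMod 3)) : Matrix I14 I14 (ZMod 3))
    rw [pow_two]; rfl

/-- a matrix of determinant one as an element of `SL₂(F8)` -/
def toSL (M : Matrix (Fin 2) (Fin 2) F8) (h : M 0 0 * M 1 1 - M 0 1 * M 1 0 = 1) : SL2 :=
  ⟨M, by rw [Matrix.det_fin_two]; exact h⟩

/-- the generators of the Ree group as elements of `GL` (`true` for `V`) -/
def genGL (x : Bool × ZMod 3 × ZMod 3 × ZMod 3) : GL I14 (ZMod 3) :=
  if x.1 then
    phiGL (toSL (gV x.2.1 x.2.2.1 x.2.2.2) (det_gV _ _ _)) * fGL ^ ((kVTab (idx27 x.2.1 x.2.2.1 x.2.2.2) : Fin 3) : ℕ)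
  else
    phiGL (toSL (gU x.2.1 x.2.2.1 x.2.2.2) (det_gU _ _ _)) * fGL ^ ((kUTab (idx27 x.2.1 x.2.2.1 x.2.2.2) : Fin 3) : ℕ)

theorem genGL_coe (x : Bool × ZMod 3 × ZMod 3 × ZMod 3) :
    ((genGL x : GL I14 (ZMod 3)) : Matrix I14 I14 (ZMod 3)) = DG x := by
  obtain ⟨b, t, u, w⟩ := x
  cases b
  · show ((phiGL _ * fGL ^ _ : GL I14 (ZMod 3)) : Matrix I14 I14 (ZMod 3)) = DU t u w
    rw [Units.val_mul, ← fpow_eq]; rfl
  · show ((phiGL _ * fGL ^ _ : GL I14 (ZMod 3)) : Matrix I14 I14 (ZMod 3)) = DV t u w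
    rw [Units.val_mul, ← fpow_eq]; rfl

/-- the word of a generator -/
def genWord (x : Bool × ZMod 3 × ZMod 3 × ZMod 3) : List (ℕ × ZMod 3) :=
  if x.1 then reeWordV 1 x.2.1 x.2.2.1 x.2.2.2 else reeWordU 1 x.2.1 x.2.2.1 x.2.2.2

theorem genWord_mem (x : Bool × ZMod 3 × ZMod 3 × ZMod 3) : genWord x ∈ g2Words (ZMod 3) 1 := by
  obtain ⟨b, t, u, w⟩ := x
  cases b
  · exact ⟨t, u, w, Or.inl rfl⟩
  · exact ⟨t, u, w, Or.inr rfl⟩

theorem DG_eq (x : Bool × ZMod 3 × ZMod 3 × ZMod 3) :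
    DG x = chevG2.wordMat (ZMod 3) (genWord x) := by
  obtain ⟨b, t, u, w⟩ := x
  cases b
  · exact (WU_eq t u w).symm
  · exact (WV_eq t u w).symm

/-- the Ree group `²G₂(3)` -/
abbrev R3 : Subgroup (GL I14 (ZMod 3)) := twistedG2 (ZMod 3) 1

/-- the generating set of the Ree group -/
def gset : Set (GL I14 (ZMod 3)) :=
  {g | ∃ w ∈ g2Words (ZMod 3) 1, (g : Matrix I14 I14 (ZMod 3)) = chevG2.wordMat (ZMod 3) w}

theorem R3_eq : R3 = Subgroup.closure gset := rfl

theorem genGL_mem_gset (x : Bool × ZMod 3 × ZMod 3 × ZMod 3) : genGL x ∈ gset :=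
  ⟨genWord x, genWord_mem x, (genGL_coe x).trans (DG_eq x)⟩

theorem genGL_mem (x : Bool × ZMod 3 × ZMod 3 × ZMod 3) : genGL x ∈ R3 :=
  Subgroup.subset_closure (genGL_mem_gset x)

theorem fGL_mem : fGL ∈ R3 := by
  refine Subgroup.subset_closure ⟨reeWordU 1 0 1 0, ⟨0, 1, 0, Or.inl rfl⟩, ?_⟩
  show fm = _
  rw [fm_eq]; rfl

/-- the image of `SL₂(F8)` -/
abbrev N : Subgroup (GL I14 (ZMod 3)) := phiGL.range

theorem U_L_cases {P : SL2 → Prop}
    (hU : ∀ a : F8, ∀ h, P (toSL (U a) h)) (hL : ∀ a : F8, ∀ h, P (toSL (L a) h))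
    {i j : Fin 2} (hij : i ≠ j) (a : F8) : P (Matrix.SpecialLinearGroup.transvection hij a) := by
  rcases transvection_eq_U hij a with h | h
  · have hd : U a 0 0 * U a 1 1 - U a 0 1 * U a 1 0 = 1 := by simp [U]
    have : Matrix.SpecialLinearGroup.transvection hij a = toSL (U a) hd := Subtype.ext h
    rw [this]; exact hU a hd
  · have hd : L a 0 0 * L a 1 1 - L a 0 1 * L a 1 0 = 1 := by simp [L]
    have : Matrix.SpecialLinearGroup.transvection hij a = toSL (L a) hd := Subtype.ext h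
    rw [this]; exact hL a hd

theorem list_prod_coe (l : List (Bool × ZMod 3 × ZMod 3 × ZMod 3)) :
    (((l.map genGL).prod : GL I14 (ZMod 3)) : Matrix I14 I14 (ZMod 3)) =
      (l.map DG).prod := by
  induction l with
  | nil => rfl
  | cons x l ih =>
    rw [List.map_cons, List.prod_cons, Units.val_mul, ih, genGL_coe, List.map_cons, List.prod_cons]

theorem N_le : N ≤ R3 := by
  rintro _ ⟨g, rfl⟩
  refine Cfsg.Agent.Helper5.transvection_induction (fun g : SL2 => phiGL g ∈ R3) ?_ ?_ g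
  · intro i j hij a
    refine U_L_cases (P := fun g : SL2 => phiGL g ∈ R3) ?_ ?_ hij a
    · intro a h
      obtain ⟨k, rfl⟩ := f8_surj a
      have : phiGL (toSL (U (f8 k)) h) = ((wUTab k).map genGL).prod := by
        apply Units.ext
        rw [list_prod_coe, ← words_U k]; rfl
      show phiGL (toSL (U (f8 k)) h) ∈ R3
      rw [this]
      refine Subgroup.list_prod_mem _ ?_
      intro y hy
      obtain ⟨x, _, rfl⟩ := List.mem_map.1 hy
      exact genGL_mem x
    · intro a h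
      obtain ⟨k, rfl⟩ := f8_surj a
      have : phiGL (toSL (L (f8 k)) h) = ((wLTab k).map genGL).prod := by
        apply Units.ext
        rw [list_prod_coe, ← words_L k]; rfl
      show phiGL (toSL (L (f8 k)) h) ∈ R3
      rw [this]
      refine Subgroup.list_prod_mem _ ?_
      intro y hy
      obtain ⟨x, _, rfl⟩ := List.mem_map.1 hy
      exact genGL_mem x
  · intro A B hA hB
    show phiGL (A * B) ∈ R3
    rw [map_mul]; exact mul_mem hA hB

theorem fGL_conj_mem : ∀ n ∈ N, fGL * n * fGL⁻¹ ∈ N := by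
  rintro _ ⟨g, rfl⟩
  refine Cfsg.Agent.Helper5.transvection_induction
    (fun g : SL2 => fGL * phiGL g * fGL⁻¹ ∈ N) ?_ ?_ g
  · intro i j hij a
    refine U_L_cases (P := fun g : SL2 => fGL * phiGL g * fGL⁻¹ ∈ N) ?_ ?_ hij a
    · intro a h
      refine ⟨toSL (conjF (U a)) (det_conjF_U a), ?_⟩
      rw [eq_mul_inv_iff_mul_eq]
      apply Units.ext
      rw [Units.val_mul, Units.val_mul]
      exact (conj_U a).symm
    · intro a h
      refine ⟨toSL (conjF (L a)) (det_conjF_L a), ?_⟩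
      rw [eq_mul_inv_iff_mul_eq]
      apply Units.ext
      rw [Units.val_mul, Units.val_mul]
      exact (conj_L a).symm
  · intro A B hA hB
    show fGL * phiGL (A * B) * fGL⁻¹ ∈ N
    have : fGL * phiGL (A * B) * fGL⁻¹ = (fGL * phiGL A * fGL⁻¹) * (fGL * phiGL B * fGL⁻¹) := by
      rw [map_mul]; group
    rw [this]; exact mul_mem hA hB

theorem fGL_mem_normalizer : fGL ∈ Subgroup.normalizer (N : Set (GL I14 (ZMod 3))) :=
  mem_normalizer_of_conj_mem_of_pow N fGL 2 fGL_pow_three fGL_conj_mem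

theorem gset_decomp : ∀ s ∈ gset, ∃ n ∈ N, ∃ k : ℕ, s = n * fGL ^ k := by
  rintro s ⟨w, ⟨t, u, x, hw | hw⟩, hs⟩
  · refine ⟨phiGL (toSL (gU t u x) (det_gU _ _ _)), ⟨_, rfl⟩, ((kUTab (idx27 t u x) : Fin 3) : ℕ), ?_⟩
    apply Units.ext
    rw [hs, hw]
    have := genGL_coe (false, t, u, x)
    rw [DG_eq] at this
    exact this.symm
  · refine ⟨phiGL (toSL (gV t u x) (det_gV _ _ _)), ⟨_, rfl⟩, ((kVTab (idx27 t u x) : Fin 3) : ℕ), ?_⟩
    apply Units.ext
    rw [hs, hw]
    have := genGL_coe (true, t, u, x)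
    rw [DG_eq] at this
    exact this.symm

theorem commutator_le : ⁅R3, R3⁆ ≤ N := by
  rw [R3_eq]
  exact commutator_closure_le_of_normalizer N fGL fGL_mem_normalizer gset gset_decomp

theorem exists_sq_ne_one : ∃ a : F8, a ≠ 0 ∧ a ^ 2 ≠ 1 := by decide

theorem N_perfect : ⁅N, N⁆ = N := by
  have h := Cfsg.Agent.Helper5.commutator_SL_eq_top_of_exists (ι := Fin 2) (F := F8) exists_sq_ne_one
  rw [commutator_def] at h
  have h2 := Subgroup.map_commutator (⊤ : Subgroup SL2) ⊤ phiGL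
  rw [h, ← MonoidHom.range_eq_map] at h2
  exact h2.symm

theorem commutator_eq : ⁅R3, R3⁆ = N := by
  apply le_antisymm commutator_le
  rw [← N_perfect]
  exact Subgroup.commutator_mono N_le N_le

/-- the derived subgroup of the Ree group `²G₂(3)` is isomorphic to `SL₂(F8)` -/
noncomputable def commutatorEquivSL : ↥(commutator ↥R3) ≃* SL2 :=
  ((Subgroup.equivMapOfInjective (commutator ↥R3) R3.subtype Subtype.coe_injective).trans
    (MulEquiv.subgroupCongr ((Subgroup.map_subtype_commutator R3).trans commutator_eq))).trans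
    (MonoidHom.ofInjective phiGL_injective).symm

theorem sl_two_center_eq_bot {F : Type*} [Field F] (h : ∀ r : F, r ^ 2 = 1 → r = 1) :
    Subgroup.center (Matrix.SpecialLinearGroup (Fin 2) F) = ⊥ := by
  rw [eq_bot_iff]
  intro A hA
  rw [Subgroup.mem_bot]
  rw [Matrix.SpecialLinearGroup.mem_center_iff] at hA
  obtain ⟨r, hr, hA⟩ := hA
  have hr1 : r = 1 := h r (by simpa using hr)
  apply Subtype.ext
  rw [← hA, hr1]
  simp

/-- `²G₂(3)' ≅ PSL₂(8)`, and its order is 504. -/
theorem card_and_nonempty_mulEquiv {K : Type*} [Field K] [Fintype K] (hK : Fintype.card K = 8) :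
    Nat.card ↥(commutator ↥(twistedG2 (ZMod 3) 1)) = 504 ∧
      Nonempty (↥(commutator ↥(twistedG2 (ZMod 3) 1)) ≃*
        Matrix.ProjectiveSpecialLinearGroup (Fin 2) K) := by
  have hF8 : Fintype.card F8 = 8 := by decide
  have e : F8 ≃+* K := FiniteField.ringEquivOfCardEq (hF8.trans hK.symm)
  have hsq : ∀ r : K, r ^ 2 = 1 → r = 1 := by
    intro r hr
    have h8 : ∀ x : F8, x ^ 2 = 1 → x = 1 := by decide
    have := h8 (e.symm r) (by rw [← map_pow, hr, map_one])
    rw [← e.apply_symm_apply r, this, map_one]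
  have e1 : Matrix.ProjectiveSpecialLinearGroup (Fin 2) K ≃* Matrix.SpecialLinearGroup (Fin 2) K :=
    (QuotientGroup.quotientMulEquivOfEq (sl_two_center_eq_bot hsq)).trans QuotientGroup.quotientBot
  have e2 : ↥(commutator ↥(twistedG2 (ZMod 3) 1)) ≃* Matrix.ProjectiveSpecialLinearGroup (Fin 2) K :=
    (commutatorEquivSL.trans (Cfsg.Agent.Helper96.slMapEquiv e)).trans e1.symm
  refine ⟨?_, ⟨e2⟩⟩
  rw [Nat.card_congr e2.toEquiv]
  have h := Cfsg.Agent.S0243.result (F := K) (q := 8) hK 2 le_rfl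
  norm_num [Fin.prod_univ_two] at h
  omega

end Cfsg.Agent.Helper96.Ree
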