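import Mathlib
import Cfsg.Prelude.Def_LieTwisted
import Cfsg.Agent.Helper61.F8
import Cfsg.Agent.Helper96.Mobius

/-!
Helper96: data for `²G₂(3)' ≅ PSL₂(8)`. The adjoint module of `G₂` over `ZMod 3` contains 72 vectors
`v P Q` (`P ≠ Q` points of the projective line over `F8`) permuted by the derived group of the Ree group
`²G₂(3)` like `SL₂(F8)` permutes the ordered pairs of points; the vectors span the module.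
-/

set_option autoImplicit false

namespace Cfsg.Agent.Helper96.Ree

open Cfsg Cfsg.Lie Cfsg.Agent.Helper61 Cfsg.Agent.Helper96.Mobius

/-- the coordinate index set of the adjoint module -/
abbrev I14 := Fin 2 ⊕ Fin 12

/-- linear order of the coordinates -/
def code14 : I14 → Fin 14
  | Sum.inl i => ⟨i.val, by omega⟩
  | Sum.inr u => ⟨2 + u.val, by omega⟩

/-- the elements of `F8`, numbered by `a0 + 2 a1 + 4 a2` -/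
def f8 : Fin 8 → F8 :=
  ![⟨false,false,false⟩, ⟨true,false,false⟩, ⟨false,true,false⟩, ⟨true,true,false⟩,
    ⟨false,false,true⟩, ⟨true,false,true⟩, ⟨false,true,true⟩, ⟨true,true,true⟩]

/-- the points of the projective line, numbered (`8 = ∞`) -/
def dec9 : Fin 9 → Option F8 :=
  ![some (f8 0), some (f8 1), some (f8 2), some (f8 3), some (f8 4), some (f8 5), some (f8 6),
    some (f8 7), none]

/-- the number of a point of the projective line -/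
def code9 : Option F8 → Fin 9
  | none => 8
  | some ⟨false,false,false⟩ => 0
  | some ⟨true,false,false⟩ => 1
  | some ⟨false,true,false⟩ => 2
  | some ⟨true,true,false⟩ => 3
  | some ⟨false,false,true⟩ => 4
  | some ⟨true,false,true⟩ => 5
  | some ⟨false,true,true⟩ => 6
  | some ⟨true,true,true⟩ => 7

/-- table of the 72 vectors -/
def vtab : Fin 9 → Fin 9 → Fin 14 → ZMod 3 :=
![
  ![![0,0,0,0,0,0,0,0,0,0,0,0,0,0],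
    ![1,1,0,0,2,1,0,1,1,2,2,0,1,1],
    ![0,2,2,0,2,1,0,0,2,2,1,0,1,2],
    ![2,0,1,1,0,0,0,1,2,1,0,1,0,0],
    ![0,2,0,0,1,2,0,2,2,2,0,0,1,1],
    ![0,0,2,0,2,0,0,2,1,2,0,2,0,0],
    ![2,0,1,1,0,2,1,2,1,2,2,0,1,2],
    ![1,0,1,1,0,1,0,0,0,0,1,0,1,1],
    ![0,1,2,0,2,2,2,1,0,1,0,0,1,2]],
  ![![2,2,0,0,1,2,0,2,2,1,1,0,2,2],
    ![0,0,0,0,0,0,0,0,0,0,0,0,0,0],
    ![0,1,2,0,2,2,0,2,1,0,2,1,0,1],
    ![2,2,1,1,0,2,1,0,1,0,2,0,2,2],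
    ![2,1,0,0,2,1,0,1,1,0,1,2,0,0],
    ![0,2,2,0,2,1,2,1,0,1,0,0,2,2],
    ![0,2,1,1,0,1,1,1,0,0,1,1,0,1],
    ![0,2,1,1,0,0,2,2,2,0,2,1,0,0],
    ![0,0,2,0,2,0,0,0,2,1,0,1,0,1]],
  ![![0,1,1,0,1,2,0,0,1,1,2,0,2,1],
    ![0,2,1,0,1,1,0,1,2,0,1,2,0,2],
    ![0,0,0,0,0,0,0,0,0,0,0,0,0,0],
    ![1,1,2,1,0,1,0,1,0,1,1,0,2,1],
    ![0,0,1,0,1,0,1,2,0,0,0,2,0,2],
    ![0,1,0,0,1,1,0,2,2,2,0,0,2,1],
    ![1,1,2,1,0,2,1,2,2,0,1,1,0,0],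
    ![0,1,2,1,0,0,1,0,1,2,2,2,0,2],
    ![1,2,0,0,2,2,0,1,1,0,2,2,0,0]],
  ![![1,0,2,2,0,0,0,2,1,2,0,2,0,0],
    ![1,1,2,2,0,1,2,0,2,0,1,0,1,1],
    ![2,2,1,2,0,2,0,2,0,2,2,0,1,2],
    ![0,0,0,0,0,0,0,0,0,0,0,0,0,0],
    ![2,2,2,2,0,2,0,1,0,1,2,0,1,1],
    ![1,0,1,2,0,0,0,1,2,1,0,1,0,0],
    ![2,0,0,0,2,0,2,1,2,0,0,0,1,2],
    ![2,0,0,0,1,0,1,2,1,0,0,0,1,1],
    ![1,1,1,2,0,1,1,0,1,0,1,0,1,2]],
  ![![0,1,0,0,2,1,0,1,1,1,0,0,2,2],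
    ![1,2,0,0,1,2,0,2,2,0,2,1,0,0],
    ![0,0,2,0,2,0,2,1,0,0,0,1,0,1],
    ![1,1,1,1,0,1,0,2,0,2,1,0,2,2],
    ![0,0,0,0,0,0,0,0,0,0,0,0,0,0],
    ![0,1,2,0,2,2,0,0,2,2,2,0,2,2],
    ![0,1,1,1,0,0,2,0,2,1,2,1,0,1],
    ![1,1,1,1,0,2,2,1,1,0,1,2,0,0],
    ![0,2,2,0,2,1,0,2,1,0,1,1,0,1]],
  ![![0,0,1,0,1,0,0,1,2,1,0,1,0,0],
    ![0,1,1,0,1,2,1,2,0,2,0,0,1,1],
    ![0,2,0,0,2,2,0,1,1,1,0,0,1,2],
    ![2,0,2,1,0,0,0,2,1,2,0,2,0,0],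
    ![0,2,1,0,1,1,0,0,1,1,1,0,1,1],
    ![0,0,0,0,0,0,0,0,0,0,0,0,0,0],
    ![1,0,2,1,0,1,0,0,0,0,1,0,1,2],
    ![2,0,2,1,0,2,2,1,2,1,2,0,1,1],
    ![1,1,0,0,1,1,0,2,2,1,2,0,1,2]],
  ![![1,0,2,2,0,1,2,1,2,1,1,0,2,1],
    ![0,1,2,2,0,2,2,2,0,0,2,2,0,2],
    ![2,2,1,2,0,1,2,1,1,0,2,2,0,0],
    ![1,0,0,0,1,0,1,2,1,0,0,0,2,1],
    ![0,2,2,2,0,0,1,0,1,2,1,2,0,2],
    ![2,0,1,2,0,2,0,0,0,0,2,0,2,1],
    ![0,0,0,0,0,0,0,0,0,0,0,0,0,0],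
    ![0,0,0,0,2,0,2,1,2,0,0,2,0,2],
    ![0,1,1,2,0,0,2,2,2,0,1,1,0,0]],
  ![![2,0,2,2,0,2,0,0,0,0,2,0,2,2],
    ![0,1,2,2,0,0,1,1,1,0,1,2,0,0],
    ![0,2,1,2,0,0,2,0,2,1,1,1,0,1],
    ![1,0,0,0,2,0,2,1,2,0,0,0,2,2],
    ![2,2,2,2,0,1,1,2,2,0,2,1,0,0],
    ![1,0,1,2,0,1,1,2,1,2,1,0,2,2],
    ![0,0,0,0,1,0,1,2,1,0,0,1,0,1],
    ![0,0,0,0,0,0,0,0,0,0,0,0,0,0],
    ![0,1,1,2,0,2,1,1,0,0,2,1,0,1]],
  ![![0,2,1,0,1,1,1,2,0,2,0,0,2,1],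
    ![0,0,1,0,1,0,0,0,1,2,0,2,0,2],
    ![2,1,0,0,1,1,0,2,2,0,1,1,0,0],
    ![2,2,2,1,0,2,2,0,2,0,2,0,2,1],
    ![0,1,1,0,1,2,0,1,2,0,2,2,0,2],
    ![2,2,0,0,2,2,0,1,1,2,1,0,2,1],
    ![0,2,2,1,0,0,1,1,1,0,2,2,0,0],
    ![0,2,2,1,0,1,2,2,0,0,1,2,0,2],
    ![0,0,0,0,0,0,0,0,0,0,0,0,0,0]]]

/-- the vector attached to the ordered pair `(P, Q)` (zero for `P = Q`) -/
def v (P Q : Option F8) : I14 → ZMod 3 := fun a => vtab (code9 P) (code9 Q) (code14 a)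

/-- fourteen pairs whose vectors form a basis (numbers of the points) -/
def bpTab : Fin 14 → Fin 9 × Fin 9 :=
  ![(0,1),(0,2),(0,3),(0,4),(0,5),(0,6),(0,7),(1,2),(1,3),(1,4),(1,5),(1,6),(1,7),(2,3)]

/-- fourteen pairs whose vectors form a basis -/
def bp (k : Fin 14) : Option F8 × Option F8 := (dec9 (bpTab k).1, dec9 (bpTab k).2)

/-- table of the inverse of the basis matrix -/
def binvTab : Fin 14 → Fin 14 → ZMod 3 :=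
![
  ![1,0,0,0,2,0,0,0,0,2,2,2,1,2],
  ![2,0,0,0,1,2,2,0,1,0,0,0,0,2],
  ![0,2,2,2,1,2,2,1,1,0,1,0,1,1],
  ![0,0,0,2,2,2,2,0,0,0,1,1,0,1],
  ![2,1,1,1,1,1,0,1,0,2,0,0,1,0],
  ![1,1,2,2,1,0,2,0,0,0,1,0,0,0],
  ![0,0,2,1,1,2,1,1,0,2,1,0,0,1],
  ![0,0,0,0,0,2,2,0,1,1,0,0,2,2],
  ![1,1,0,2,1,0,0,1,1,2,2,0,2,2],
  ![0,1,1,1,1,1,1,1,2,0,2,2,0,1],
  ![1,1,1,0,2,2,0,1,2,1,0,0,2,0],
  ![2,1,1,1,2,0,1,2,2,0,2,0,2,1],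
  ![0,2,2,2,2,1,2,2,1,1,2,0,2,0],
  ![2,2,0,0,1,1,1,2,1,1,0,0,2,1]]

/-- the inverse of the basis matrix -/
def binv (k : Fin 14) (b : I14) : ZMod 3 := binvTab k (code14 b)

/-- the matrix by which a `2 × 2` matrix over `F8` acts on the adjoint module -/
def phi (M : Matrix (Fin 2) (Fin 2) F8) : Matrix I14 I14 (ZMod 3) :=
  Matrix.of fun a b => ∑ k : Fin 14, v (mob M (bp k).1) (mob M (bp k).2) a * binv k b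

/-- upper unitriangular matrices -/
def U (a : F8) : Matrix (Fin 2) (Fin 2) F8 := !![1, a; 0, 1]

/-- lower unitriangular matrices -/
def L (a : F8) : Matrix (Fin 2) (Fin 2) F8 := !![1, 0; a, 1]

/-- a `2 × 2` matrix from a table of numbers -/
def mat4 (x : Fin 4 → Fin 8) : Matrix (Fin 2) (Fin 2) F8 := !![f8 (x 0), f8 (x 1); f8 (x 2), f8 (x 3)]

/-- index of a triple -/
def idx27 (t u w : ZMod 3) : Fin 27 := ⟨9 * t.val + 3 * u.val + w.val, by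
  have := ZMod.val_lt t; have := ZMod.val_lt u; have := ZMod.val_lt w; omega⟩

def gUTab : Fin 27 → Fin 4 → Fin 8 := ![![1,0,0,1],![2,3,4,3],![3,3,4,2],![1,0,0,1],![2,3,4,3],![3,3,4,2],![1,0,0,1],![2,3,4,3],![3,3,4,2],![3,1,5,5],![2,6,3,0],![1,7,6,5],![3,1,5,5],![2,6,3,0],![1,7,6,5],![3,1,5,5],![2,6,3,0],![1,7,6,5],![5,1,5,3],![5,7,6,1],![0,6,3,2],![5,1,5,3],![5,7,6,1],![0,6,3,2],![5,1,5,3],![5,7,6,1],![0,6,3,2]]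
def kUTab : Fin 27 → Fin 3 := ![0,0,0,1,1,1,2,2,2,2,2,2,0,0,0,1,1,1,2,2,2,0,0,0,1,1,1]
def gVTab : Fin 27 → Fin 4 → Fin 8 := ![![1,0,0,1],![5,7,7,4],![4,7,7,5],![7,1,2,7],![3,6,0,6],![4,7,2,1],![4,4,3,4],![0,3,6,7],![4,7,5,3],![6,7,5,2],![5,3,6,0],![3,4,3,2],![7,4,4,1],![7,5,5,5],![0,1,1,4],![0,6,3,3],![2,1,7,3],![2,7,4,0],![3,2,4,7],![5,2,4,4],![6,0,0,3],![1,4,4,7],![4,1,1,0],![5,5,5,7],![4,0,4,7],![3,3,7,1],![7,3,3,6]]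
def kVTab : Fin 27 → Fin 3 := ![0,0,0,1,1,1,2,2,2,2,2,2,0,0,0,1,1,1,2,2,2,0,0,0,1,1,1]

/-- the `SL₂(F8)`-part of the generator `U(t,u,w)` -/
def gU (t u w : ZMod 3) : Matrix (Fin 2) (Fin 2) F8 := mat4 (gUTab (idx27 t u w))
/-- the `SL₂(F8)`-part of the generator `V(t,u,w)` -/
def gV (t u w : ZMod 3) : Matrix (Fin 2) (Fin 2) F8 := mat4 (gVTab (idx27 t u w))

/-- table of the element `f = U(0,1,0)` -/
def fmTab : Fin 14 → Fin 14 → ZMod 3 :=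
![
  ![1,0,0,1,0,1,0,0,0,0,0,0,0,0],
  ![0,1,0,1,0,0,0,0,0,0,0,0,0,0],
  ![0,0,1,0,0,0,0,0,0,0,0,0,0,0],
  ![0,0,0,1,0,0,0,0,0,0,0,0,0,0],
  ![0,0,2,0,1,0,0,0,0,0,0,0,0,0],
  ![0,0,0,0,0,1,0,0,0,0,0,0,0,0],
  ![0,0,1,0,1,0,1,0,0,0,0,0,0,0],
  ![0,0,1,0,0,0,0,1,0,0,0,0,0,0],
  ![0,0,1,0,0,0,0,0,1,0,0,0,0,0],
  ![0,0,2,0,1,0,0,2,0,1,0,0,0,0],
  ![1,2,0,0,0,2,0,0,0,0,1,0,0,0],
  ![0,0,2,0,2,0,2,2,0,2,0,1,0,0],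
  ![0,1,0,2,0,0,0,0,0,0,0,0,1,0],
  ![0,0,2,0,0,0,0,2,2,0,0,0,0,1]]

/-- the element `f = U(0,1,0)` of order 3 outside the derived group -/
def fm : Matrix I14 I14 (ZMod 3) := Matrix.of fun a b => fmTab (code14 a) (code14 b)

/-- powers of `f` -/
def fpow : Fin 3 → Matrix I14 I14 (ZMod 3) := ![1, fm, fm * fm]

/-- the generators of the Ree group, with the index types in normal form -/
def WU (t u w : ZMod 3) : Matrix I14 I14 (ZMod 3) := chevG2.wordMat (ZMod 3) (reeWordU 1 t u w)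
/-- the generators of the Ree group, with the index types in normal form -/
def WV (t u w : ZMod 3) : Matrix I14 I14 (ZMod 3) := chevG2.wordMat (ZMod 3) (reeWordV 1 t u w)

/-- the decomposed form of a generator -/
def DU (t u w : ZMod 3) : Matrix I14 I14 (ZMod 3) := phi (gU t u w) * fpow (kUTab (idx27 t u w))
/-- the decomposed form of a generator -/
def DV (t u w : ZMod 3) : Matrix I14 I14 (ZMod 3) := phi (gV t u w) * fpow (kVTab (idx27 t u w))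

/-- the decomposed form of a generator (`true` for `V`) -/
def DG (x : Bool × ZMod 3 × ZMod 3 × ZMod 3) : Matrix I14 I14 (ZMod 3) :=
  if x.1 then DV x.2.1 x.2.2.1 x.2.2.2 else DU x.2.1 x.2.2.1 x.2.2.2

/-- words for the upper unitriangular matrices -/
def wUTab : Fin 8 → List (Bool × ZMod 3 × ZMod 3 × ZMod 3) := ![[],[(true,1,0,2),(false,1,2,0)],[(true,0,2,2),(false,1,2,2)],[(false,1,1,0),(true,2,1,2)],[(false,0,0,2),(true,0,0,2),(false,2,1,2)],[(false,0,0,1),(true,1,1,0),(false,2,1,1)],[(false,0,0,1),(true,2,0,0),(false,0,1,0)],[(true,0,0,1),(false,1,2,2),(true,0,2,1)]]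
/-- words for the lower unitriangular matrices -/
def wLTab : Fin 8 → List (Bool × ZMod 3 × ZMod 3 × ZMod 3) := ![[],[(false,0,1,2),(true,1,0,0)],[(true,0,0,1),(false,1,1,2)],[(true,1,2,0),(false,1,0,2)],[(false,0,0,1),(true,1,0,1),(false,1,2,0)],[(false,0,0,2),(true,2,0,1),(false,2,2,1)],[(true,0,0,2),(false,0,1,0),(true,0,2,1)],[(false,0,0,1),(true,2,1,0),(false,1,1,0)]]

/-- conjugation by `f` on `SL₂(F8)` -/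
def conjF (M : Matrix (Fin 2) (Fin 2) F8) : Matrix (Fin 2) (Fin 2) F8 :=
  mat4 ![6, 6, 7, 4] * M.map (fun x => x ^ 4) * mat4 ![4, 6, 7, 6]

end Cfsg.Agent.Helper96.Ree
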