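import Cfsg.Agent.Helper96.StemBoundB

/-!
# The twisting argument for elementary abelian subgroups of rank two

If `σ x`, `σ y` commute and some `σ g` inverts `σ x` and centralises `σ y`, then lifts `x`, `y`
commute as soon as `σ x` has odd order.
-/

set_option autoImplicit false

namespace Cfsg.Agent.Helper96.StemBound

open Subgroup
open scoped commutatorElement

universe u v

variable {Γ : Type u} {G : Type v} [Group Γ] [Group G]

theorem commElt_eq_one_of_twist (σ : Γ →* G) (hσ : Cfsg.IsStemExtension σ) (x y g : Γ)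
    (hcomm : σ x * σ y = σ y * σ x) (hgx : σ g * σ x * (σ g)⁻¹ = (σ x)⁻¹)
    (hgy : σ g * σ y * (σ g)⁻¹ = σ y) (p : ℕ) (hp : Odd p) (hxp : σ x ^ p = 1) :
    ⁅x, y⁆ = 1 := by
  have hnorm : σ y * σ x * (σ y)⁻¹ ∈ zpowers (σ x) := by
    rw [← hcomm, mul_inv_cancel_right]
    exact Subgroup.mem_zpowers _
  have hd : ⁅x, y⁆ ∈ σ.ker := by
    rw [MonoidHom.mem_ker, map_commutatorElement, commutatorElement_eq_one_iff_mul_comm]
    exact hcomm
  -- the kernel elements measuring the action of `g`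
  have hz₁ : x * (g * x * g⁻¹) ∈ σ.ker := by
    rw [MonoidHom.mem_ker, map_mul, map_mul, map_mul, map_inv, hgx, mul_inv_cancel]
  have hz₂ : y⁻¹ * (g * y * g⁻¹) ∈ σ.ker := by
    rw [MonoidHom.mem_ker, map_mul, map_mul, map_mul, map_inv, map_inv, hgy, inv_mul_cancel]
  have ex : g * x * g⁻¹ = x ^ (-1 : ℤ) * (x * (g * x * g⁻¹)) := by group
  have ey : g * y * g⁻¹ = y * (y⁻¹ * (g * y * g⁻¹)) := by group
  have h1 : g * ⁅x, y⁆ * g⁻¹ = ⁅g * x * g⁻¹, g * y * g⁻¹⁆ := by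
    rw [commutatorElement_def, commutatorElement_def]; group
  have h2 : g * ⁅x, y⁆ * g⁻¹ = ⁅x, y⁆ := by
    rw [ker_comm σ hσ hd g, mul_inv_cancel_right]
  have hN₁ : x ^ (-1 : ℤ) * (x * (g * x * g⁻¹)) ∈ (zpowers (σ x)).comap σ := by
    rw [← ex, Subgroup.mem_comap, map_mul, map_mul, map_inv, hgx]
    exact inv_mem (Subgroup.mem_zpowers _)
  have hN₂ : y⁻¹ * (g * y * g⁻¹) ∈ (zpowers (σ x)).comap σ :=
    ker_le_comap σ _ hz₂
  have h3 : ⁅g * x * g⁻¹, g * y * g⁻¹⁆ = ⁅x, y⁆ ^ (-1 : ℤ) := by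
    rw [ex, ey, commElt_mul_right σ hσ x y hN₁ hN₂, commElt_zpow_mul σ hσ x y hnorm (-1) hz₁]
  -- now `d = d⁻¹` and `d ^ p = 1` with `p` odd
  have hinv : ⁅x, y⁆ = ⁅x, y⁆ ^ (-1 : ℤ) := by rw [← h3, ← h1, h2]
  have hsq : ⁅x, y⁆ ^ 2 = 1 := by
    have : ⁅x, y⁆ * ⁅x, y⁆ = 1 := by
      nth_rewrite 2 [hinv]
      rw [zpow_neg, zpow_one, mul_inv_cancel]
    rw [pow_two]; exact this
  have hdp' : ⁅x, y⁆ ^ p = 1 := commElt_pow_eq_one_of_comm σ hσ x y hcomm p hxp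
  obtain ⟨k, hk⟩ := hp
  rw [hk, pow_succ, pow_mul, hsq, one_pow, one_mul] at hdp'
  exact hdp'

end Cfsg.Agent.Helper96.StemBound
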