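import Cfsg.Agent.Helper96.StemBound
import Cfsg.Agent.Helper96.PSLTwoElt

/-!
# Stem extensions of `SL₃(2)` have kernel of order at most two
-/

set_option autoImplicit false

namespace Cfsg.Agent.Helper96.StemPSLThree

open Matrix Subgroup
open scoped commutatorElement

abbrev S := Matrix.SpecialLinearGroup (Fin 3) (ZMod 2)

def rb : S := ⟨!![1,1,0;0,1,1;0,0,1], by decide⟩
def sb : S := ⟨!![1,1,0;0,1,0;0,0,1], by decide⟩
def g3 : S := ⟨!![0,1,0;1,1,0;0,0,1], by decide⟩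
def g7 : S := ⟨!![0,0,1;1,0,1;0,1,0], by decide⟩

/-- upper unitriangular -/
def ut (g : S) : Prop := g.1 1 0 = 0 ∧ g.1 2 0 = 0 ∧ g.1 2 1 = 0

instance decUt : DecidablePred ut := fun g => by unfold ut; infer_instance

set_option maxRecDepth 100000 in
theorem ut_mul : ∀ a b : S, ut a → ut b → ut (a * b) := by decide +kernel

set_option maxRecDepth 100000 in
theorem ut_inv : ∀ a : S, ut a → ut a⁻¹ := by decide +kernel

/-- the Sylow 2-subgroup of upper unitriangular matrices -/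
def P : Subgroup S where
  carrier := {g | ut g}
  mul_mem' := fun {a b} ha hb => ut_mul a b ha hb
  one_mem' := by decide
  inv_mem' := fun {a} ha => ut_inv a ha

instance decMemP : DecidablePred (· ∈ P) := fun g => inferInstanceAs (Decidable (ut g))

set_option maxRecDepth 100000 in
theorem card_S : Fintype.card S = 168 := by decide +kernel

set_option maxRecDepth 100000 in
theorem card_P : Fintype.card P = 8 := by decide +kernel

set_option maxRecDepth 100000 in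
theorem P_form : ∀ g : S, ut g → (∃ k : Fin 4, g = rb ^ (k : ℕ)) ∨ (∃ k : Fin 4, sb⁻¹ * g = rb ^ (k : ℕ)) := by
  decide +kernel

theorem conj_rb : sb * rb * sb⁻¹ = rb ^ 3 := by decide +kernel

theorem rb_pow : rb ^ 4 = 1 := by decide +kernel

theorem comm_ne : ⁅rb, sb⁆ ≠ 1 := by decide +kernel

theorem comm_sq : ⁅rb, sb⁆ ^ 2 = 1 := by decide +kernel

theorem g3_pow : g3 ^ 3 = 1 := by decide +kernel

theorem g3_ne : g3 ≠ 1 := by decide +kernel

theorem g7_pow : g7 ^ 7 = 1 := by decide +kernel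

theorem g7_ne : g7 ≠ 1 := by decide +kernel

theorem index_P : P.index = 21 := by
  have h := Subgroup.index_mul_card P
  rw [Nat.card_eq_fintype_card, Nat.card_eq_fintype_card, card_S, card_P] at h
  omega

theorem index_g3 : (zpowers g3).index = 56 := by
  have h := Subgroup.index_mul_card (zpowers g3)
  have ho : orderOf g3 = 3 := orderOf_eq_prime g3_pow g3_ne
  rw [Nat.card_zpowers, ho, Nat.card_eq_fintype_card, card_S] at h
  omega

theorem index_g7 : (zpowers g7).index = 24 := by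
  have h := Subgroup.index_mul_card (zpowers g7)
  have : Fact (Nat.Prime 7) := ⟨by norm_num⟩
  have ho : orderOf g7 = 7 := orderOf_eq_prime g7_pow g7_ne
  rw [Nat.card_zpowers, ho, Nat.card_eq_fintype_card, card_S] at h
  omega

/-- The kernel of a finite stem extension of `SL₃(2)` has at most two elements. -/
theorem ker_bound {Γ : Type*} [Group Γ] [Finite Γ] (σ : Γ →* S)
    (hσ : Cfsg.IsStemExtension σ) :
    ∃ z₀ ∈ σ.ker, z₀ ^ 2 = 1 ∧ ∀ z ∈ σ.ker, z = 1 ∨ z = z₀ := by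
  obtain ⟨r, hr⟩ := hσ.1 rb
  obtain ⟨s, hs⟩ := hσ.1 sb
  have hnorm : σ s * σ r * (σ s)⁻¹ ∈ zpowers (σ r) := by
    rw [hr, hs, conj_rb]
    exact Subgroup.npow_mem_zpowers _ 3
  have hPf : ∀ g ∈ P, g ∈ zpowers (σ r) ∨ (σ s)⁻¹ * g ∈ zpowers (σ r) := by
    intro g hg
    rw [hr, hs]
    rcases P_form g hg with ⟨k, hk⟩ | ⟨k, hk⟩
    · left; rw [hk]; exact Subgroup.npow_mem_zpowers _ _
    · right; rw [hk]; exact Subgroup.npow_mem_zpowers _ _
  have hle := StemBound.commutator_comap_le_zpowers σ hσ r s P hPf hnorm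
  have hc4 : ⁅r, s⁆ ^ 4 = 1 :=
    StemBound.commElt_pow_eq_one_of_pow σ hσ r s hnorm 4 (by rw [hr, rb_pow])
  have hσc : σ ⁅r, s⁆ = ⁅rb, sb⁆ := by rw [map_commutatorElement, hr, hs]
  have hord : orderOf (σ ⁅r, s⁆) = 2 := by
    rw [hσc]
    exact orderOf_eq_prime comm_sq comm_ne
  have hc2ker : ⁅r, s⁆ ^ 2 ∈ σ.ker := by
    rw [MonoidHom.mem_ker, map_pow, hσc, comm_sq]
  have hc22 : (⁅r, s⁆ ^ 2) ^ 2 = 1 := by rw [← pow_mul]; exact hc4
  refine ⟨⁅r, s⁆ ^ 2, hc2ker, hc22, ?_⟩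
  intro z hz
  have h21 : z ^ 21 ∈ zpowers (⁅r, s⁆ ^ 2) := by
    have h1 := hle (index_P ▸ StemBound.ker_pow_index_mem σ hσ P hz)
    have h2 := StemBound.mem_zpowers_pow_of_mem_ker σ ⁅r, s⁆ (pow_mem hz 21) h1
    rwa [hord] at h2
  have h56 : z ^ 56 = 1 := index_g3 ▸ StemBound.ker_pow_index_zpowers σ hσ g3 hz
  have h24 : z ^ 24 = 1 := index_g7 ▸ StemBound.ker_pow_index_zpowers σ hσ g7 hz
  have h8 : z ^ 8 = 1 := by
    have := (pow_gcd_eq_one (a := z) (m := 56) (n := 24)).mpr ⟨h56, h24⟩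
    simpa using this
  have hz5 : z = (z ^ 21) ^ 5 := by
    rw [← pow_mul]
    have : z ^ (21 * 5) = z ^ (8 * 13) * z := by rw [← pow_succ]
    rw [this, pow_mul, h8, one_pow, one_mul]
  rw [Subgroup.mem_zpowers_iff] at h21
  obtain ⟨k, hk⟩ := h21
  rcases Int.even_or_odd k with ⟨l, hl⟩ | ⟨l, hl⟩
  · left
    have e : (⁅r, s⁆ ^ 2) ^ k = 1 := by
      rw [hl, ← two_mul, _root_.zpow_mul, zpow_ofNat, hc22, _root_.one_zpow]
    rw [hz5, ← hk, e, one_pow]
  · right
    have e : (⁅r, s⁆ ^ 2) ^ k = ⁅r, s⁆ ^ 2 := by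
      rw [hl, _root_.zpow_add, _root_.zpow_mul, zpow_ofNat, hc22, _root_.one_zpow, one_mul, zpow_one]
    rw [hz5, ← hk, e]
    generalize ⁅r, s⁆ ^ 2 = d at hc22 ⊢
    have : d ^ 5 = (d ^ 2) ^ 2 * d := by
      rw [← pow_mul, ← pow_succ]
    rw [this, hc22, one_pow, one_mul]

end Cfsg.Agent.Helper96.StemPSLThree
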