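import Mathlib
import Cfsg.Prelude.Def_KGroupFacts

/-!
# A stem extension as a pullback

`τ : T →* A` with central kernel generated by a commutator `z₀ = ⁅X, Y⁆` of order three, and
`ρ : S →* A` with the same range and kernel of exponent two: the pullback `{(t, s) | τ t = ρ s}`
with its projection to `S` is a stem extension of `S` with kernel of order three.
-/

set_option autoImplicit false

namespace Cfsg.Agent.Helper96.StemPullback

open Subgroup
open scoped commutatorElement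

universe u v w

variable {T : Type u} {S : Type v} {A : Type w} [Group T] [Group S] [Group A]

/-- the pullback of `τ` and `ρ` -/
def pull (τ : T →* A) (ρ : S →* A) : Subgroup (T × S) :=
  (τ.comp (MonoidHom.fst T S)).eqLocus (ρ.comp (MonoidHom.snd T S))

theorem mem_pull (τ : T →* A) (ρ : S →* A) (p : T × S) : p ∈ pull τ ρ ↔ τ p.1 = ρ p.2 := Iff.rfl

/-- the projection of the pullback to the second factor -/
def proj (τ : T →* A) (ρ : S →* A) : pull τ ρ →* S :=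
  (MonoidHom.snd T S).comp (pull τ ρ).subtype

theorem proj_apply (τ : T →* A) (ρ : S →* A) (p : pull τ ρ) : proj τ ρ p = p.1.2 := rfl

variable (τ : T →* A) (ρ : S →* A)

theorem proj_surjective (hrange : ρ.range ≤ τ.range) : Function.Surjective (proj τ ρ) := by
  intro s
  obtain ⟨t, ht⟩ := hrange ⟨s, rfl⟩
  exact ⟨⟨(t, s), ht⟩, rfl⟩

theorem mem_ker_proj (p : pull τ ρ) : p ∈ (proj τ ρ).ker ↔ p.1.2 = 1 := Iff.rfl

theorem fst_mem_ker_of_mem_ker_proj {p : pull τ ρ} (hp : p ∈ (proj τ ρ).ker) : p.1.1 ∈ τ.ker := by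
  have h1 : p.1.2 = 1 := hp
  have h2 : τ p.1.1 = ρ p.1.2 := p.2
  rw [MonoidHom.mem_ker, h2, h1, map_one]

theorem pull_ext {p q : pull τ ρ} (h1 : p.1.1 = q.1.1) (h2 : p.1.2 = q.1.2) : p = q :=
  Subtype.ext (Prod.ext h1 h2)

/-- The pullback is a stem extension with kernel of order three. -/
theorem isStem_proj (hrange : ρ.range = τ.range) (hcen : τ.ker ≤ Subgroup.center T)
    (X Y : T) (hz : ⁅X, Y⁆ ∈ τ.ker) (hz3 : ⁅X, Y⁆ ^ 3 = 1) (hz1 : ⁅X, Y⁆ ≠ 1)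
    (hgen : τ.ker ≤ zpowers ⁅X, Y⁆) (hker2 : ∀ s ∈ ρ.ker, s ^ 2 = 1) :
    Cfsg.IsStemExtension (proj τ ρ) ∧ Nat.card (proj τ ρ).ker = 3 := by
  -- lifts of `X`, `Y`
  obtain ⟨sX, hsX⟩ : ∃ s, ρ s = τ X := by
    have : τ X ∈ ρ.range := by rw [hrange]; exact ⟨X, rfl⟩
    exact this
  obtain ⟨sY, hsY⟩ : ∃ s, ρ s = τ Y := by
    have : τ Y ∈ ρ.range := by rw [hrange]; exact ⟨Y, rfl⟩
    exact this
  let Xh : pull τ ρ := ⟨(X, sX), hsX.symm⟩
  let Yh : pull τ ρ := ⟨(Y, sY), hsY.symm⟩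
  have hε : ⁅sX, sY⁆ ∈ ρ.ker := by
    rw [MonoidHom.mem_ker, map_commutatorElement, hsX, hsY, ← map_commutatorElement]
    exact hz
  have hε2 : ⁅sX, sY⁆ ^ 2 = 1 := hker2 _ hε
  let Zh : pull τ ρ := ⟨(⁅X, Y⁆, 1), by
    show τ ⁅X, Y⁆ = ρ 1
    rw [map_one]; exact hz⟩
  have hZh : ⁅Xh, Yh⁆ ^ 4 = Zh := by
    apply pull_ext
    · show (⁅Xh, Yh⁆ ^ 4).1.1 = ⁅X, Y⁆
      have e : (⁅Xh, Yh⁆ ^ 4).1.1 = ⁅X, Y⁆ ^ 4 := rfl
      rw [e]
      have : ⁅X, Y⁆ ^ 4 = ⁅X, Y⁆ ^ 3 * ⁅X, Y⁆ := by rw [← pow_succ]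
      rw [this, hz3, one_mul]
    · show (⁅Xh, Yh⁆ ^ 4).1.2 = 1
      have e : (⁅Xh, Yh⁆ ^ 4).1.2 = ⁅sX, sY⁆ ^ 4 := rfl
      rw [e]
      have : ⁅sX, sY⁆ ^ 4 = (⁅sX, sY⁆ ^ 2) ^ 2 := by rw [← pow_mul]
      rw [this, hε2, one_pow]
  have hZcomm : Zh ∈ commutator (pull τ ρ) := by
    rw [← hZh]
    exact pow_mem (Subgroup.commutator_mem_commutator (Subgroup.mem_top _) (Subgroup.mem_top _)) 4
  have hZker : Zh ∈ (proj τ ρ).ker := rfl
  have hkerle : (proj τ ρ).ker ≤ zpowers Zh := by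
    intro p hp
    have h1 := hgen (fst_mem_ker_of_mem_ker_proj τ ρ hp)
    obtain ⟨k, hk⟩ := Subgroup.mem_zpowers_iff.mp h1
    rw [Subgroup.mem_zpowers_iff]
    refine ⟨k, ?_⟩
    apply pull_ext
    · show (Zh ^ k).1.1 = p.1.1
      have e : (Zh ^ k).1.1 = ⁅X, Y⁆ ^ k := by
        have := map_zpow ((MonoidHom.fst T S).comp (pull τ ρ).subtype) Zh k
        exact this
      rw [e, hk]
    · show (Zh ^ k).1.2 = p.1.2
      have e : (Zh ^ k).1.2 = (1 : S) ^ k := by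
        have := map_zpow ((MonoidHom.snd T S).comp (pull τ ρ).subtype) Zh k
        exact this
      rw [e, one_zpow]
      exact ((mem_ker_proj τ ρ p).mp hp).symm
  refine ⟨⟨proj_surjective τ ρ hrange.le, ?_, ?_⟩, ?_⟩
  · intro p hp
    rw [Subgroup.mem_center_iff]
    intro q
    have hc := Subgroup.mem_center_iff.mp (hcen (fst_mem_ker_of_mem_ker_proj τ ρ hp)) q.1.1
    have h2 : p.1.2 = 1 := hp
    apply pull_ext
    · exact hc
    · show q.1.2 * p.1.2 = p.1.2 * q.1.2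
      rw [h2, mul_one, one_mul]
  · intro p hp
    obtain ⟨k, hk⟩ := Subgroup.mem_zpowers_iff.mp (hkerle hp)
    rw [← hk]
    exact Subgroup.zpow_mem _ hZcomm k
  · have heq : (proj τ ρ).ker = zpowers Zh :=
      le_antisymm hkerle (by rw [Subgroup.zpowers_le]; exact hZker)
    rw [heq, Nat.card_zpowers]
    have : Fact (Nat.Prime 3) := ⟨Nat.prime_three⟩
    apply orderOf_eq_prime
    · apply pull_ext
      · show (Zh ^ 3).1.1 = 1
        have e : (Zh ^ 3).1.1 = ⁅X, Y⁆ ^ 3 := rfl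
        rw [e, hz3]
      · show (Zh ^ 3).1.2 = 1
        have e : (Zh ^ 3).1.2 = (1 : S) ^ 3 := rfl
        rw [e, one_pow]
    · intro h
      apply hz1
      have := congrArg (fun p : pull τ ρ => p.1.1) h
      exact this

end Cfsg.Agent.Helper96.StemPullback
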