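import Cfsg.Agent.Helper96.StemBoundB
import Cfsg.Agent.Helper98.GF9
import Cfsg.Agent.S0242

/-!
# Stem extensions of `SL₂(9)` have kernel of order at most three
-/

set_option autoImplicit false

namespace Cfsg.Agent.Helper96.StemSLTwoNine

open Matrix Subgroup Cfsg.Agent.Helper98
open scoped commutatorElement

abbrev S := Matrix.SpecialLinearGroup (Fin 2) GF9

/-- a generator of the multiplicative group of `GF9` -/
def ζ : GF9 := ⟨1, 1⟩
def ζi : GF9 := ⟨2, 1⟩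
def ii : GF9 := ⟨0, 1⟩

def rb : S := ⟨!![ζ, 0; 0, ζi], by decide⟩
def sb : S := ⟨!![0, 1; -1, 0], by decide⟩
def xb : S := ⟨!![1, 1; 0, 1], by decide⟩
def yb : S := ⟨!![1, ii; 0, 1], by decide⟩
def g5 : S := ⟨!![0, -1; 1, ζ], by decide⟩

theorem card_S : Nat.card S = 720 := by
  have h := Cfsg.Agent.S0242.result (F := GF9) (q := 9) card_GF9 2 (by norm_num)
  rw [Fin.prod_univ_two] at h
  have e : (9 ^ 2 - 9 ^ ((0 : Fin 2) : ℕ)) * (9 ^ 2 - 9 ^ ((1 : Fin 2) : ℕ)) = 5760 := by decide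
  rw [e] at h
  change 8 * Nat.card S = 5760 at h
  omega

/-! ### the quaternion Sylow 2-subgroup -/

def fQ (p : Fin 2 × Fin 8) : S := sb ^ (p.1 : ℕ) * rb ^ (p.2 : ℕ)

theorem q_mul : ∀ p q : Fin 2 × Fin 8, ∃ t : Fin 2 × Fin 8, fQ p * fQ q = fQ t := by decide +kernel

theorem q_inv : ∀ p : Fin 2 × Fin 8, ∃ t : Fin 2 × Fin 8, (fQ p)⁻¹ = fQ t := by decide +kernel

theorem q_inj : ∀ p q : Fin 2 × Fin 8, fQ p = fQ q → p = q := by decide +kernel

def Q : Subgroup S where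
  carrier := Set.range fQ
  mul_mem' := by
    rintro a b ⟨p, rfl⟩ ⟨q, rfl⟩
    obtain ⟨t, ht⟩ := q_mul p q
    exact ⟨t, ht.symm⟩
  one_mem' := ⟨(0, 0), by decide⟩
  inv_mem' := by
    rintro a ⟨p, rfl⟩
    obtain ⟨t, ht⟩ := q_inv p
    exact ⟨t, ht.symm⟩

theorem card_Q : Nat.card Q = 16 := by
  have h : Nat.card Q = Nat.card (Set.range fQ) := rfl
  rw [h, Nat.card_range_of_injective (fun p q h => q_inj p q h)]
  simp

theorem conj_rb : sb * rb * sb⁻¹ = rb ^ 7 := by decide +kernel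

theorem sb_sq : (sb * rb ^ 0) ^ 2 = rb ^ 4 := by decide +kernel

theorem comm_rs : ⁅rb, sb⁆ = rb ^ 2 := by decide +kernel

theorem rb_pow_ne : ∀ k : Fin 8, (k : ℕ) ≠ 0 → rb ^ (k : ℕ) ≠ 1 := by decide +kernel

theorem rb_pow : rb ^ 8 = 1 := by decide +kernel

theorem orderOf_comm_rs : orderOf ⁅rb, sb⁆ = 4 := by
  rw [comm_rs]
  have h8 : orderOf rb = 8 := by
    apply (orderOf_eq_iff (by norm_num)).mpr
    refine ⟨rb_pow, fun m hm hm0 => ?_⟩
    exact rb_pow_ne ⟨m, hm⟩ (by simpa using hm0.ne')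
  rw [orderOf_pow' rb (by norm_num), h8]
  rfl

/-! ### the elementary abelian Sylow 3-subgroup -/

def fE (p : Fin 3 × Fin 3) : S := xb ^ (p.1 : ℕ) * yb ^ (p.2 : ℕ)

theorem e_mul : ∀ p q : Fin 3 × Fin 3, ∃ t : Fin 3 × Fin 3, fE p * fE q = fE t := by decide +kernel

theorem e_inv : ∀ p : Fin 3 × Fin 3, ∃ t : Fin 3 × Fin 3, (fE p)⁻¹ = fE t := by decide +kernel

theorem e_inj : ∀ p q : Fin 3 × Fin 3, fE p = fE q → p = q := by decide +kernel

def E : Subgroup S where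
  carrier := Set.range fE
  mul_mem' := by
    rintro a b ⟨p, rfl⟩ ⟨q, rfl⟩
    obtain ⟨t, ht⟩ := e_mul p q
    exact ⟨t, ht.symm⟩
  one_mem' := ⟨(0, 0), by decide⟩
  inv_mem' := by
    rintro a ⟨p, rfl⟩
    obtain ⟨t, ht⟩ := e_inv p
    exact ⟨t, ht.symm⟩

theorem card_E : Nat.card E = 9 := by
  have h : Nat.card E = Nat.card (Set.range fE) := rfl
  rw [h, Nat.card_range_of_injective (fun p q h => e_inj p q h)]
  simp

theorem xy_comm : xb * yb = yb * xb := by decide +kernel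

theorem xb_pow : xb ^ 3 = 1 := by decide +kernel

theorem g5_pow : g5 ^ 5 = 1 := by decide +kernel

theorem g5_ne : g5 ≠ 1 := by decide +kernel

theorem index_Q : Q.index = 45 := by
  have h := Subgroup.index_mul_card Q
  rw [card_S, card_Q] at h
  omega

theorem index_E : E.index = 80 := by
  have h := Subgroup.index_mul_card E
  rw [card_S, card_E] at h
  omega

theorem index_g5 : (zpowers g5).index = 144 := by
  have h := Subgroup.index_mul_card (zpowers g5)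
  have : Fact (Nat.Prime 5) := ⟨by norm_num⟩
  have ho : orderOf g5 = 5 := orderOf_eq_prime g5_pow g5_ne
  rw [Nat.card_zpowers, ho, card_S] at h
  omega

/-- The kernel of a finite stem extension of `SL₂(9)` is cyclic of order dividing three. -/
theorem ker_bound {Γ : Type*} [Group Γ] [Finite Γ] (σ : Γ →* S)
    (hσ : Cfsg.IsStemExtension σ) :
    ∃ z₀ ∈ σ.ker, z₀ ^ 3 = 1 ∧ σ.ker ≤ zpowers z₀ := by
  obtain ⟨r, hr⟩ := hσ.1 rb
  obtain ⟨s, hs⟩ := hσ.1 sb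
  obtain ⟨x, hx⟩ := hσ.1 xb
  obtain ⟨y, hy⟩ := hσ.1 yb
  -- the 2-part
  have hnorm : σ s * σ r * (σ s)⁻¹ ∈ zpowers (σ r) := by
    rw [hr, hs, conj_rb]
    exact Subgroup.npow_mem_zpowers _ 7
  have hQf : ∀ g ∈ Q, g ∈ zpowers (σ r) ∨ (σ s)⁻¹ * g ∈ zpowers (σ r) := by
    intro g hg
    rw [hr, hs]
    obtain ⟨⟨e, k⟩, rfl⟩ := hg
    have he : ∀ e : Fin 2, e = 0 ∨ e = 1 := by decide
    rcases he e with rfl | rfl
    · left
      show sb ^ 0 * rb ^ (k : ℕ) ∈ _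
      rw [pow_zero, one_mul]; exact Subgroup.npow_mem_zpowers _ _
    · right
      show sb⁻¹ * (sb ^ 1 * rb ^ (k : ℕ)) ∈ _
      rw [pow_one, inv_mul_cancel_left]; exact Subgroup.npow_mem_zpowers _ _
  have hleQ := StemBound.commutator_comap_le_zpowers σ hσ r s Q hQf hnorm
  have hc4 : ⁅r, s⁆ ^ 4 = 1 :=
    StemBound.commElt_pow_eq_one_of_sq σ hσ r s hnorm 0 4 (by rw [hr, hs, sb_sq])
  have hσc : σ ⁅r, s⁆ = ⁅rb, sb⁆ := by rw [map_commutatorElement, hr, hs]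
  have hordc : orderOf (σ ⁅r, s⁆) = 4 := by rw [hσc, orderOf_comm_rs]
  -- the 3-part
  have hcomm : σ x * σ y = σ y * σ x := by rw [hx, hy, xy_comm]
  have hEf : ∀ g ∈ E, ∃ i j : ℕ, g = σ x ^ i * σ y ^ j := by
    rintro g ⟨⟨i, j⟩, rfl⟩
    exact ⟨i, j, by rw [hx, hy]; rfl⟩
  have hleE := StemBound.commutator_comap_le_zpowers_of_comm σ hσ x y E hcomm hEf
  have hd3 : ⁅x, y⁆ ^ 3 = 1 :=
    StemBound.commElt_pow_eq_one_of_comm σ hσ x y hcomm 3 (by rw [hx, xb_pow])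
  have hdker : ⁅x, y⁆ ∈ σ.ker := by
    rw [MonoidHom.mem_ker, map_commutatorElement, commutatorElement_eq_one_iff_mul_comm]
    exact hcomm
  refine ⟨⁅x, y⁆, hdker, hd3, ?_⟩
  intro z hz
  have h45 : z ^ 45 = 1 := by
    have h1 := hleQ (index_Q ▸ StemBound.ker_pow_index_mem σ hσ Q hz)
    have h2 := StemBound.mem_zpowers_pow_of_mem_ker σ ⁅r, s⁆ (pow_mem hz 45) h1
    rw [hordc, hc4, Subgroup.zpowers_one_eq_bot, Subgroup.mem_bot] at h2
    exact h2
  have h144 : z ^ 144 = 1 := index_g5 ▸ StemBound.ker_pow_index_zpowers σ hσ g5 hz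
  have h9 : z ^ 9 = 1 := by
    have := (pow_gcd_eq_one (a := z) (m := 144) (n := 45)).mpr ⟨h144, h45⟩
    simpa using this
  have h80 : z ^ 80 ∈ zpowers ⁅x, y⁆ := hleE (index_E ▸ StemBound.ker_pow_index_mem σ hσ E hz)
  have hz' : z = (z ^ 80)⁻¹ := by
    have e : z ^ 81 = 1 := by
      have : z ^ 81 = (z ^ 9) ^ 9 := by rw [← pow_mul]
      rw [this, h9, one_pow]
    have e2 : z ^ 80 * z = 1 := by rw [← pow_succ]; exact e
    exact (inv_eq_of_mul_eq_one_right e2).symm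
  rw [hz']
  exact inv_mem h80

end Cfsg.Agent.Helper96.StemSLTwoNine
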