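import Cfsg.Agent.Helper96.SylTreeData

/-! Helper96: kernel-checked identities for the tree group `T3`, part B (the embedding into `O⁻₆(2)`). -/

set_option autoImplicit false
set_option maxRecDepth 100000

namespace Cfsg.Agent.Helper96.SylTree

open Cfsg

theorem matB_one : matB 1 = 1 := by decide +kernel

theorem matB_gen : ∀ t : T3, ∀ k : Fin 3, matB (t * genT k) = matB t * matB (genT k) := by decide +kernel

theorem matB_isom : ∀ k : Fin 3, ∀ v : I6 → ZMod 2, Q6 ((matB (genT k)).mulVec v) = Q6 v := by decide +kernel

theorem matB_inj : ∀ t : T3, matB t = 1 → t = 1 := by decide +kernel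

end Cfsg.Agent.Helper96.SylTree
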