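import Cfsg.Agent.Helper96.SylTreeData

/-! Helper96: kernel-checked identities for the tree group `T3`, part C (the embedding of the even part into
`PSp₄(3)`). -/

set_option autoImplicit false
set_option maxRecDepth 100000

namespace Cfsg.Agent.Helper96.SylTree

open Cfsg

theorem matA_one : matA 1 = 1 := by decide +kernel

theorem matA_isSp : ∀ t : T3, UFour.IsSp (matA t) := by decide +kernel

theorem matA_gen : ∀ t : T3, ev t = true → ∀ k : Fin 3,
    (matA (t * genA k) = matA t * matA (genA k) ∨ matA (t * genA k) = -(matA t * matA (genA k))) := by
  decide +kernel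

theorem matA_inj : ∀ t : T3, ev t = true → (matA t = 1 ∨ matA t = -1) → t = 1 := by decide +kernel

end Cfsg.Agent.Helper96.SylTree
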