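import Cfsg.Agent.Helper96.SylTreePerm

/-! Helper96: kernel-checked identities for the tree group `T3`, part D (signs). -/

set_option autoImplicit false
set_option maxRecDepth 100000

namespace Cfsg.Agent.Helper96.SylTree

open Cfsg

theorem sign_ev : ∀ t : T3, (ev t = true ↔ Equiv.Perm.sign (permOf t) = 1) := by decide +kernel

end Cfsg.Agent.Helper96.SylTree
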