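import Mathlib
import Cfsg.Prelude.Def_Classical
import Cfsg.Agent.Helper96.SylTreeCheckB
import Cfsg.Agent.Helper96.SylTreeCheckC
import Cfsg.Agent.Helper96.SylTreeCheckD
import Cfsg.Agent.Helper96.UFour
import Cfsg.Agent.Helper96.IsomMap
import Cfsg.Agent.Helper96.SUEquiv
import Cfsg.Agent.Helper96.SpFour
import Cfsg.Agent.S0288

/-!
Helper96: the Sylow 2-subgroups of `A₈` and `PSp₄(3)` are isomorphic, and so are those of `S₈` and `O⁻₆(2)`
(`SylTree.sylow_equivs`): all four are images of the tree group `T3 = C₂ ≀ C₂ ≀ C₂` or of its even part.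
-/

set_option autoImplicit false

namespace Cfsg.Agent.Helper96.SylTree

open Cfsg Matrix

/-- a subgroup of the order of the full `p`-part is isomorphic to every Sylow `p`-subgroup -/
theorem sylow_equiv_of_injective {G T : Type*} [Group G] [Finite G] [Group T] {p : ℕ} [Fact p.Prime]
    (f : T →* G) (hf : Function.Injective f) (k : ℕ) (hT : Nat.card T = p ^ k)
    (hG : ¬ p ^ (k + 1) ∣ Nat.card G) (P : Sylow p G) : Nonempty (↥(P : Subgroup G) ≃* T) := by
  have hp : p.Prime := Fact.out
  have e : T ≃* f.range := MonoidHom.ofInjective hf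
  have hR : Nat.card f.range = p ^ k := by rw [← Nat.card_congr e.toEquiv, hT]
  have hpR : IsPGroup p f.range := IsPGroup.of_card hR
  obtain ⟨S, hRS⟩ := hpR.exists_le_sylow
  have hS := S.card_eq_multiplicity
  set n := (Nat.card G).factorization p with hn
  have h1 : p ^ k ∣ p ^ n := by
    rw [← hR, ← hS]
    exact Subgroup.card_dvd_of_le hRS
  have hkn : k ≤ n := (Nat.pow_dvd_pow_iff_le_right hp.one_lt).1 h1
  have hnk : n ≤ k := by
    by_contra hlt
    have hlt := not_le.1 hlt
    apply hG
    exact (pow_dvd_pow p hlt).trans (Nat.ordProj_dvd _ p)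
  have hkn' : k = n := le_antisymm hkn hnk
  have hRS' : f.range = (S : Subgroup G) := by
    apply Subgroup.eq_of_le_of_card_ge hRS
    rw [hR, hS, hkn']
  exact ⟨((Sylow.equiv P S).trans (MulEquiv.subgroupCongr hRS'.symm)).trans e.symm⟩

/-- the even part of `T3` -/
def TA : Subgroup T3 := (Equiv.Perm.sign.comp permHom).ker

theorem mem_TA (t : T3) : t ∈ TA ↔ ev t = true := by
  rw [sign_ev t]
  exact MonoidHom.mem_ker

theorem card_TA : Nat.card TA = 2 ^ 6 := by
  rw [Nat.card_congr (Equiv.subtypeEquivRight (fun t => mem_TA t)), Nat.card_eq_fintype_card, card_ev]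
  norm_num

theorem card_T3' : Nat.card T3 = 2 ^ 7 := by
  rw [Nat.card_eq_fintype_card, card_T3]
  norm_num

/-! ### the embedding into `O⁻₆(2)` -/

/-- the matrix representation of `T3` -/
def matHom : T3 →* Matrix I6 I6 (ZMod 2) where
  toFun := matB
  map_one' := matB_one
  map_mul' t u := mul_of_gens ⊤ matB genT (fun _ => trivial) matB_one (fun t _ k => matB_gen t k)
    wordT (fun u _ => wordT_ok u) t trivial u trivial

/-- the matrix representation of `T3`, into the general linear group -/
def glHom : T3 →* GL I6 (ZMod 2) := matHom.toHomUnits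

theorem glHom_coe (t : T3) : ((glHom t : GL I6 (ZMod 2)) : Matrix I6 I6 (ZMod 2)) = matB t := rfl

theorem mem_closure_genT (t : T3) : t ∈ Subgroup.closure (Set.range genT) := by
  rw [← wordT_ok t]
  refine Subgroup.list_prod_mem _ ?_
  intro x hx
  obtain ⟨k, _, rfl⟩ := List.mem_map.1 hx
  exact Subgroup.subset_closure ⟨k, rfl⟩

theorem glHom_mem (t : T3) : glHom t ∈ Cfsg.isometryGroup (ZMod 2) Q6 := by
  have hle : Subgroup.closure (Set.range genT) ≤ (Cfsg.isometryGroup (ZMod 2) Q6).comap glHom := by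
    rw [Subgroup.closure_le]
    rintro _ ⟨k, rfl⟩
    show glHom (genT k) ∈ Cfsg.isometryGroup (ZMod 2) Q6
    rw [mem_isometryGroup_iff]
    intro u
    exact matB_isom k u
  exact hle (mem_closure_genT t)

/-- the embedding of `T3` into `O⁻₆(2)` -/
def homB : T3 →* Cfsg.isometryGroup (ZMod 2) Q6 := glHom.codRestrict _ glHom_mem

theorem homB_injective : Function.Injective homB := by
  rw [injective_iff_map_eq_one]
  intro t ht
  apply matB_inj
  have h1 : glHom t = 1 := congrArg Subtype.val ht
  have h2 := congrArg (fun g : GL I6 (ZMod 2) => (g : Matrix I6 I6 (ZMod 2))) h1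
  exact h2

/-! ### the embedding of the even part into `PSp₄(3)` -/

/-- the image of an element of `T3` in `PSp₄(3)` -/
def pspOf (t : T3) : Cfsg.PSp 2 (ZMod 3) := QuotientGroup.mk (UFour.toSp (matA t) (matA_isSp t))

theorem mk_negOne : (QuotientGroup.mk UFour.negOne : Cfsg.PSp 2 (ZMod 3)) = 1 :=
  (QuotientGroup.eq_one_iff _).2 UFour.negOne_mem_center

theorem pspOf_gen (t : T3) (ht : ev t = true) (k : Fin 3) :
    pspOf (t * genA k) = pspOf t * pspOf (genA k) := by
  rcases matA_gen t ht k with h | h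
  · have : UFour.toSp (matA (t * genA k)) (matA_isSp _) =
        UFour.toSp (matA t) (matA_isSp t) * UFour.toSp (matA (genA k)) (matA_isSp _) := Subtype.ext h
    show QuotientGroup.mk _ = _
    rw [this]; rfl
  · have : UFour.toSp (matA (t * genA k)) (matA_isSp _) =
        UFour.negOne * (UFour.toSp (matA t) (matA_isSp t) * UFour.toSp (matA (genA k)) (matA_isSp _)) := by
      apply Subtype.ext
      show matA (t * genA k) = (-1) * (matA t * matA (genA k))
      rw [h]; simp
    show QuotientGroup.mk _ = _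
    rw [this, QuotientGroup.mk_mul, mk_negOne, one_mul]; rfl

theorem pspOf_one : pspOf 1 = 1 := by
  have : UFour.toSp (matA 1) (matA_isSp 1) = 1 := Subtype.ext matA_one
  show QuotientGroup.mk _ = _
  rw [this]; rfl

theorem pspOf_mul (t u : T3) (ht : t ∈ TA) (hu : u ∈ TA) : pspOf (t * u) = pspOf t * pspOf u :=
  mul_of_gens TA.toSubmonoid pspOf genA (fun k => (mem_TA _).2 (genA_ev k)) pspOf_one
    (fun t ht k => pspOf_gen t ((mem_TA t).1 ht) k) wordA (fun u hu => wordA_ok u ((mem_TA u).1 hu))
    t ht u hu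

/-- the embedding of the even part of `T3` into `PSp₄(3)` -/
def homA : TA →* Cfsg.PSp 2 (ZMod 3) where
  toFun t := pspOf t.1
  map_one' := pspOf_one
  map_mul' t u := pspOf_mul t.1 u.1 t.2 u.2

theorem homA_injective : Function.Injective homA := by
  rw [injective_iff_map_eq_one]
  intro t ht
  have h1 : UFour.toSp (matA t.1) (matA_isSp t.1) ∈ Subgroup.center UFour.Sp3 :=
    (QuotientGroup.eq_one_iff _).1 ht
  apply Subtype.ext
  apply matA_inj t.1 ((mem_TA t.1).1 t.2)
  rcases UFour.center_cases _ h1 with h | h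
  · left
    exact congrArg Subtype.val h
  · right
    exact congrArg Subtype.val h

/-- the embedding of the even part of `T3` into `A₈` -/
def homA1 : TA →* alternatingGroup (Fin 8) :=
  (permHom.comp TA.subtype).codRestrict _ (fun t => by
    rw [Equiv.Perm.mem_alternatingGroup]
    exact MonoidHom.mem_ker.1 t.2)

theorem homA1_injective : Function.Injective homA1 := by
  intro t u h
  have h1 : permHom t.1 = permHom u.1 := congrArg Subtype.val h
  exact Subtype.ext (permHom_injective h1)

/-! ### orders and the final statement -/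

theorem card_alt8 : Nat.card (alternatingGroup (Fin 8)) = 20160 := by
  rw [nat_card_alternatingGroup, Nat.card_eq_fintype_card, Fintype.card_fin]
  decide

theorem card_perm8 : Nat.card (Equiv.Perm (Fin 8)) = 40320 := by
  rw [Nat.card_perm, Nat.card_eq_fintype_card, Fintype.card_fin]
  decide

theorem quadFormMinus_map {R S : Type*} [Field R] [Field S] (e : R ≃+* S) (m : ℕ) (a b : R)
    (w : (Fin m ⊕ Fin m) ⊕ Fin 2 → R) :
    Cfsg.quadFormMinus m S (e a) (e b) (fun i => e (w i)) = e (Cfsg.quadFormMinus m R a b w) := by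
  simp [Cfsg.quadFormMinus, map_sum, map_mul, map_add, map_pow]

theorem card_ominus {K : Type} [Field K] [Fintype K] (hK : Fintype.card K = 2) (a b : K)
    (hab : ∀ z₁ z₂ : K, z₁ ^ 2 + a * z₁ * z₂ + b * z₂ ^ 2 = 0 → z₁ = 0 ∧ z₂ = 0) :
    Nat.card (Cfsg.isometryGroup K (Cfsg.quadFormMinus 2 K a b)) = 51840 := by
  have h := Cfsg.Agent.S0288.result (F := K) (q := 2) hK 3 (by norm_num) a b hab
  have h' : Nat.card (Cfsg.isometryGroup K (Cfsg.quadFormMinus 2 K a b)) =
      2 * 2 ^ (3 * (3 - 1)) * (2 ^ 3 + 1) * ∏ i ∈ Finset.range (3 - 1), (2 ^ (2 * (i + 1)) - 1) := h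
  rw [h']
  simp only [Finset.prod_range_succ, Finset.prod_range_zero]
  norm_num

/-- the Sylow 2-subgroups of `A₈` and `PSp₄(3)` are isomorphic, and so are those of `S₈` and `O⁻₆(2)` -/
theorem sylow_equivs (F : Type) [Field F] [Fintype F] (hF : Fintype.card F = 3) (K : Type) [Field K]
    [Fintype K] (hK : Fintype.card K = 2) (a b : K)
    (hab : ∀ z₁ z₂ : K, z₁ ^ 2 + a * z₁ * z₂ + b * z₂ ^ 2 = 0 → z₁ = 0 ∧ z₂ = 0)
    (P : Sylow 2 ↥(alternatingGroup (Fin 8))) (Q : Sylow 2 (Cfsg.PSp 2 F))
    (P' : Sylow 2 (Equiv.Perm (Fin 8)))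
    (Q' : Sylow 2 ↥(Cfsg.isometryGroup K (Cfsg.quadFormMinus 2 K a b))) :
    Nonempty (↥(P : Subgroup ↥(alternatingGroup (Fin 8))) ≃* ↥(Q : Subgroup (Cfsg.PSp 2 F))) ∧
      Nonempty (↥(P' : Subgroup (Equiv.Perm (Fin 8))) ≃*
        ↥(Q' : Subgroup ↥(Cfsg.isometryGroup K (Cfsg.quadFormMinus 2 K a b)))) := by
  constructor
  · -- `A₈` and `PSp₄(3)`
    obtain ⟨e1⟩ := sylow_equiv_of_injective homA1 homA1_injective 6 card_TA
      (by rw [card_alt8]; decide) P
    have eF : Cfsg.PSp 2 (ZMod 3) ≃* Cfsg.PSp 2 F :=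
      quotientCenterCongr (SpFour.symplecticMapEquiv (ZMod.ringEquivOfPrime F Nat.prime_three hF))
    have hcard : Nat.card (Cfsg.PSp 2 F) = 25920 := by
      rw [← Nat.card_congr eF.toEquiv, UFour.card_PSp]
    have hfin : Finite (Cfsg.PSp 2 F) := Nat.finite_of_card_ne_zero (by rw [hcard]; norm_num)
    obtain ⟨e2⟩ := sylow_equiv_of_injective (eF.toMonoidHom.comp homA)
      (eF.injective.comp homA_injective) 6 card_TA (by rw [hcard]; decide) Q
    exact ⟨e1.trans e2.symm⟩
  · -- `S₈` and `O⁻₆(2)`
    obtain ⟨e1⟩ := sylow_equiv_of_injective permHom permHom_injective 7 card_T3'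
      (by rw [card_perm8]; decide) P'
    have eK : ZMod 2 ≃+* K := ZMod.ringEquivOfPrime K Nat.prime_two hK
    have h01 : ∀ x : K, x = 0 ∨ x = 1 := by
      intro x
      have hx : ∀ y : ZMod 2, y = 0 ∨ y = 1 := by decide
      rcases hx (eK.symm x) with h | h
      · left
        rw [← eK.apply_symm_apply x, h, map_zero]
      · right
        rw [← eK.apply_symm_apply x, h, map_one]
    have h2 : (1 : K) + 1 = 0 := by
      have : (1 : ZMod 2) + 1 = 0 := by decide
      rw [← map_one eK, ← map_add, this, map_zero]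
    have hb : b = 1 := by
      rcases h01 b with h | h
      · exfalso
        have := (hab 0 1 (by rw [h]; ring)).2
        exact one_ne_zero this
      · exact h
    have ha : a = 1 := by
      rcases h01 a with h | h
      · exfalso
        have := (hab 1 1 (by rw [h, hb]; linear_combination h2)).1
        exact one_ne_zero this
      · exact h
    subst ha hb
    have eO : Cfsg.isometryGroup (ZMod 2) Q6 ≃* Cfsg.isometryGroup K (Cfsg.quadFormMinus 2 K 1 1) :=
      isometryGroupMapEquiv eK Q6 (Cfsg.quadFormMinus 2 K 1 1) (by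
        intro w
        have := quadFormMinus_map eK 2 1 1 w
        rw [map_one] at this
        exact this)
    have hcard := card_ominus hK 1 1 hab
    have hfin : Finite (Cfsg.isometryGroup K (Cfsg.quadFormMinus 2 K 1 1)) :=
      Nat.finite_of_card_ne_zero (by rw [hcard]; norm_num)
    obtain ⟨e2⟩ := sylow_equiv_of_injective (eO.toMonoidHom.comp homB)
      (eO.injective.comp homB_injective) 7 card_T3' (by rw [hcard]; decide) Q'
    exact ⟨e1.trans e2.symm⟩

end Cfsg.Agent.Helper96.SylTree
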