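import Cfsg.Agent.Helper96.SylTreeData

/-! Helper96: kernel-checked identities for the tree group `T3`, part A (the action on eight leaves,
generators and words). -/

set_option autoImplicit false
set_option maxRecDepth 100000

namespace Cfsg.Agent.Helper96.SylTree

open Cfsg

theorem fwd_gen : ∀ t : T3, ∀ k : Fin 3, ∀ i : Fin 8, fwd (t * genT k) i = fwd t (fwd (genT k) i) := by
  decide +kernel

theorem fwd_one : ∀ i : Fin 8, fwd 1 i = i := by decide +kernel

theorem fwd_inj : ∀ t : T3, (∀ i : Fin 8, fwd t i = i) → t = 1 := by decide +kernel

theorem card_T3 : Fintype.card T3 = 128 := by decide +kernel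

theorem card_ev : Fintype.card {t : T3 // ev t = true} = 64 := by decide +kernel

theorem wordT_ok : ∀ u : T3, ((wordT u).map genT).prod = u := by decide +kernel

theorem wordA_ok : ∀ u : T3, ev u = true → ((wordA u).map genA).prod = u := by decide +kernel

theorem genA_ev : ∀ k : Fin 3, ev (genA k) = true := by decide +kernel

end Cfsg.Agent.Helper96.SylTree
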