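import Mathlib
import Cfsg.Prelude.Def_Classical
import Cfsg.Prelude.Def_ClassicalGeometry
import Cfsg.Agent.Helper27.GF4

/-!
Helper96: data for `PSU₄(2) ≅ PSp₄(3)`. The group `SU₄(2)` permutes the 40 non-isotropic points of the Hermitian
space over `GF4` like `Sp₄(3)` permutes the 40 points of the projective space over `ZMod 3`; the bijection
between the two sets of points and the symplectic matrices matching the 45 unitary transvections were found by
computer.
-/

set_option autoImplicit false

namespace Cfsg.Agent.Helper96.UFour

open Cfsg Cfsg.Agent.Helper27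

/-- vectors of the Hermitian space -/
abbrev V4 := Fin 4 → GF4

/-- the index set of the symplectic space -/
abbrev I4 := Fin 2 ⊕ Fin 2

/-- vectors of the symplectic space -/
abbrev V3 := I4 → ZMod 3

/-- the element of `GF4` with number `n` -/
def g4 (n : ℕ) : GF4 :=
  match n % 4 with
  | 0 => GF4.z
  | 1 => GF4.o
  | 2 => GF4.w
  | _ => GF4.w2

/-- the number of an element of `GF4` -/
def c4 : GF4 → ℕ
  | GF4.z => 0
  | GF4.o => 1
  | GF4.w => 2
  | GF4.w2 => 3

/-- the number of a vector over `GF4` -/
def vc4 (p : V4) : ℕ := c4 (p 0) + 4 * c4 (p 1) + 16 * c4 (p 2) + 64 * c4 (p 3)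

/-- the vector over `GF4` with number `n` -/
def vec4Of (n : ℕ) : V4 := ![g4 n, g4 (n / 4), g4 (n / 16), g4 (n / 64)]

/-- the matrix over `GF4` with number `n` -/
def mat4Of (n : ℕ) : Matrix (Fin 4) (Fin 4) GF4 :=
  Matrix.of fun i j => g4 (n / 4 ^ (4 * i.val + j.val))

/-- linear order of the symplectic coordinates -/
def ci : I4 → ℕ
  | Sum.inl i => i.val
  | Sum.inr i => 2 + i.val

/-- the number of a vector over `ZMod 3` -/
def vc3 (p : V3) : ℕ :=
  (p (Sum.inl 0)).val + 3 * (p (Sum.inl 1)).val + 9 * (p (Sum.inr 0)).val + 27 * (p (Sum.inr 1)).val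

/-- the vector over `ZMod 3` with number `n` -/
def vec3Of (n : ℕ) : V3 := fun i => ((n / 3 ^ ci i : ℕ) : ZMod 3)

/-- the matrix over `ZMod 3` with number `n` -/
def mat3Of (n : ℕ) : Matrix I4 I4 (ZMod 3) :=
  Matrix.of fun i j => ((n / 3 ^ (4 * ci i + ci j) : ℕ) : ZMod 3)

/-- the first non-zero coordinate -/
def lead4 (w : V4) : GF4 :=
  if w 0 ≠ 0 then w 0 else if w 1 ≠ 0 then w 1 else if w 2 ≠ 0 then w 2 else if w 3 ≠ 0 then w 3 else 1

/-- normal form of a vector up to scalars -/
def nf4 (w : V4) : V4 := fun i => (lead4 w)⁻¹ * w i

/-- the first non-zero coordinate -/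
def lead3 (w : V3) : ZMod 3 :=
  if w (Sum.inl 0) ≠ 0 then w (Sum.inl 0) else if w (Sum.inl 1) ≠ 0 then w (Sum.inl 1)
  else if w (Sum.inr 0) ≠ 0 then w (Sum.inr 0) else if w (Sum.inr 1) ≠ 0 then w (Sum.inr 1) else 1

/-- normal form of a vector up to scalars (the non-zero scalars are their own inverses) -/
def nf3 (w : V3) : V3 := fun i => lead3 w * w i

/-- the numbers of the 40 non-isotropic points -/
def pt4Codes : Fin 40 → ℕ := ![64, 16, 4, 1, 69, 133, 197, 201, 73, 137, 141, 205, 77, 21, 57, 45, 37, 25, 61, 53, 41, 29, 84, 148, 212, 100, 164, 228, 116, 180, 244, 81, 209, 145, 97, 225, 161, 113, 241, 177]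

/-- the numbers of the 40 points of the symplectic space, in the matching order -/
def pt3Codes : Fin 40 → ℕ := ![27, 9, 36, 63, 3, 30, 57, 12, 39, 66, 21, 48, 75, 1, 28, 55, 10, 37, 64, 19, 46, 73, 4, 31, 58, 13, 40, 67, 22, 49, 76, 7, 34, 61, 16, 43, 70, 25, 52, 79]

/-- the non-isotropic points -/
def pt4 (k : Fin 40) : V4 := vec4Of (pt4Codes k)

/-- the points of the symplectic space -/
def pt3 (k : Fin 40) : V3 := vec3Of (pt3Codes k)

/-- index table of the non-isotropic points (six bits per vector number) -/
def IT4 : ℕ := 15312179278164573586874242083725843110762360203711146283688953190171794885059546793314009344367124313001779880209955443334555527069638068896838980050115344258837000253552613828502376324182509436460972647267727452181743780629251157689913105955604307580989100140584403246906467041017667695199934985194368110290863254454168247020260411563479221063826171097170231862776688586108776161006347511651354946357187203570520293362690719777560439619059904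

/-- index table of the symplectic points (six bits per vector number) -/
def IT3 : ℕ := 1902321139873375092200753747913066888497241091870679732290183157264455363876046521046355103943779268423571281365031976751721229746239657556837184

/-- the index of a non-isotropic normalised vector -/
def idx4 (w : V4) : Fin 40 := Fin.ofNat 40 ((IT4 >>> (6 * vc4 w)) % 64)

/-- the index of a normalised vector -/
def idx3 (w : V3) : Fin 40 := Fin.ofNat 40 ((IT3 >>> (6 * vc3 w)) % 64)

/-- the action of a matrix over `GF4` on the 40 non-isotropic points -/
def act4 (M : Matrix (Fin 4) (Fin 4) GF4) (k : Fin 40) : Fin 40 := idx4 (nf4 (M.mulVec (pt4 k)))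

/-- the action of a matrix over `ZMod 3` on the 40 points -/
def act3 (M : Matrix I4 I4 (ZMod 3)) (k : Fin 40) : Fin 40 := idx3 (nf3 (M.mulVec (pt3 k)))

/-- normalised non-isotropic vectors -/
def Good4 (w : V4) : Prop := nf4 w = w ∧ hermForm 4 GF4 2 w w ≠ 0

instance (w : V4) : Decidable (Good4 w) := by unfold Good4; infer_instance

/-- normalised non-zero vectors -/
def Good3 (w : V3) : Prop := nf3 w = w ∧ w ≠ 0

instance (w : V3) : Decidable (Good3 w) := by unfold Good3; infer_instance

/-- the symplectic condition -/
def IsSp (M : Matrix I4 I4 (ZMod 3)) : Prop :=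
  M * Matrix.J (Fin 2) (ZMod 3) * M.transpose = Matrix.J (Fin 2) (ZMod 3)

instance (M : Matrix I4 I4 (ZMod 3)) : Decidable (IsSp M) := by unfold IsSp; infer_instance

/-- the identity and the 45 unitary transvections, with the matching symplectic matrices -/
def tab : List (ℕ × ℕ) :=
   [(1074791425, 14408200),
    (272630785, 4960200),
    (549454849, 5531007),
    (813696001, 6042765),
    (68173825, 29111806),
    (135315457, 30194371),
    (202407937, 29682613),
    (1074008065, 33540322),
    (1074278401, 34622887),
    (1074536449, 34111129),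
    (17826880, 28934578),
    (34604224, 29505385),
    (51381376, 30017143),
    (1073808400, 38323294),
    (1073873968, 38894101),
    (1073939488, 39405859),
    (1074790660, 28757350),
    (356864340, 572292),
    (717607380, 10138236),
    (1065718164, 5355264),
    (898265460, 749520),
    (441119220, 10827222),
    (801812916, 4961685),
    (634347876, 1260576),
    (982508004, 4960983),
    (525312420, 10314762),
    (1074790924, 29839915),
    (491627100, 34978126),
    (650994396, 39249340),
    (999154332, 29112589),
    (1032229500, 34289140),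
    (373707516, 39583870),
    (734450364, 28935361),
    (768324204, 33541105),
    (915108588, 38324077),
    (457962156, 28758133),
    (1074791176, 29328157),
    (424276824, 34467070),
    (784970712, 29113291),
    (931754904, 39761800),
    (965665656, 33541807),
    (508470264, 28758835),
    (667837368, 38324779),
    (700961640, 34801600),
    (1049072616, 28936063),
    (390550440, 39072814)]

/-- a diagonal element of `SU₄(2)` -/
def dg : Matrix (Fin 4) (Fin 4) GF4 := Matrix.diagonal ![GF4.w, GF4.w2, 1, 1]

end Cfsg.Agent.Helper96.UFour
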