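import Mathlib
import Cfsg.Prelude.Def_Classical
import Cfsg.Agent.Helper96.UFourData

/-!
Helper96: data for the Sylow 2-subgroups of `S₈`, `A₈`, `O⁻₆(2)` and `PSp₄(3)`. The iterated wreath product
`T3 = C₂ ≀ C₂ ≀ C₂` (order 128) acts on 8 leaves; tables (found by computer) give an embedding of `T3` into
`O⁻₆(2)` and an embedding of its even part into `PSp₄(3)`.
-/

set_option autoImplicit false

namespace Cfsg.Agent.Helper96.SylTree

open Cfsg

/-- the wreath product `G ≀ C₂` -/
structure Wr (G : Type) where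
  /-- the component on the first block -/
  l : G
  /-- the component on the second block -/
  r : G
  /-- whether the blocks are swapped -/
  s : Bool
deriving DecidableEq, Fintype

namespace Wr

variable {G : Type} [Group G]

instance : Mul (Wr G) :=
  ⟨fun a b => if a.s then ⟨a.l * b.r, a.r * b.l, xor a.s b.s⟩ else ⟨a.l * b.l, a.r * b.r, xor a.s b.s⟩⟩

instance : One (Wr G) := ⟨⟨1, 1, false⟩⟩

instance : Inv (Wr G) :=
  ⟨fun a => if a.s then ⟨a.r⁻¹, a.l⁻¹, true⟩ else ⟨a.l⁻¹, a.r⁻¹, false⟩⟩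

theorem mul_def (a b : Wr G) :
    a * b = if a.s then ⟨a.l * b.r, a.r * b.l, xor a.s b.s⟩ else ⟨a.l * b.l, a.r * b.r, xor a.s b.s⟩ := rfl

theorem one_def : (1 : Wr G) = ⟨1, 1, false⟩ := rfl

theorem inv_def (a : Wr G) :
    a⁻¹ = if a.s then ⟨a.r⁻¹, a.l⁻¹, true⟩ else ⟨a.l⁻¹, a.r⁻¹, false⟩ := rfl

instance : Group (Wr G) :=
  Group.ofLeftAxioms
    (by
      rintro ⟨a, b, s⟩ ⟨c, d, t⟩ ⟨e, f, u⟩
      cases s <;> cases t <;> cases u <;> simp [mul_def, mul_assoc])
    (by
      rintro ⟨a, b, s⟩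
      simp [mul_def, one_def])
    (by
      rintro ⟨a, b, s⟩
      cases s <;> simp [mul_def, one_def, inv_def])

end Wr

/-- the iterated wreath product `C₂ ≀ C₂ ≀ C₂` -/
abbrev T3 := Wr (Wr (Wr Unit))

/-- the action on two leaves -/
def act1 (t : Wr Unit) (b : Bool) : Bool := xor b t.s

/-- the action on four leaves -/
def act2 (t : Wr (Wr Unit)) (b1 b0 : Bool) : Bool × Bool :=
  (xor b1 t.s, act1 (if xor b1 t.s then t.r else t.l) b0)

/-- the action on eight leaves, in binary -/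
def act3 (t : T3) (b2 b1 b0 : Bool) : Bool × Bool × Bool :=
  (xor b2 t.s, act2 (if xor b2 t.s then t.r else t.l) b1 b0)

/-- the action on eight leaves -/
def fwd (t : T3) (i : Fin 8) : Fin 8 :=
  let p := act3 t (i.val.testBit 2) (i.val.testBit 1) (i.val.testBit 0)
  Fin.ofNat 8 (4 * p.1.toNat + 2 * p.2.1.toNat + p.2.2.toNat)

/-- the parity of the number of leaf swaps: `true` for even elements -/
def ev (t : T3) : Bool := !(xor (xor t.l.l.s t.l.r.s) (xor t.r.l.s t.r.r.s))

/-- the number of an element of `C₂ ≀ C₂` -/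
def code2 (u : Wr (Wr Unit)) : ℕ := u.l.s.toNat + 2 * u.r.s.toNat + 4 * u.s.toNat

/-- the number of an element of `T3` -/
def code3 (t : T3) : ℕ := code2 t.l + 8 * code2 t.r + 64 * t.s.toNat

/-- generators of `T3` -/
def genT : Fin 3 → T3 := ![⟨⟨⟨(), (), true⟩, ⟨(), (), false⟩, false⟩, ⟨⟨(), (), false⟩, ⟨(), (), false⟩, false⟩, false⟩, ⟨⟨⟨(), (), false⟩, ⟨(), (), false⟩, true⟩, ⟨⟨(), (), false⟩, ⟨(), (), false⟩, false⟩, false⟩, ⟨⟨⟨(), (), false⟩, ⟨(), (), false⟩, false⟩, ⟨⟨(), (), false⟩, ⟨(), (), false⟩, false⟩, true⟩]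

/-- generators of the even part of `T3` -/
def genA : Fin 3 → T3 := ![⟨⟨⟨(), (), false⟩, ⟨(), (), true⟩, false⟩, ⟨⟨(), (), false⟩, ⟨(), (), true⟩, false⟩, true⟩, ⟨⟨⟨(), (), false⟩, ⟨(), (), false⟩, true⟩, ⟨⟨(), (), false⟩, ⟨(), (), false⟩, false⟩, false⟩, ⟨⟨⟨(), (), true⟩, ⟨(), (), false⟩, false⟩, ⟨⟨(), (), false⟩, ⟨(), (), true⟩, false⟩, false⟩]

/-- words in the generators `genT` for the elements of `T3`, by number -/
def wordsT : List (List (Fin 3)) :=
   [[],
    [0],
    [1, 0, 1],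
    [0, 1, 0, 1],
    [1],
    [0, 1],
    [1, 0],
    [0, 1, 0],
    [2, 0, 2],
    [0, 2, 0, 2],
    [1, 0, 1, 2, 0, 2],
    [0, 1, 0, 1, 2, 0, 2],
    [1, 2, 0, 2],
    [0, 1, 2, 0, 2],
    [1, 0, 2, 0, 2],
    [0, 1, 0, 2, 0, 2],
    [2, 1, 0, 1, 2],
    [0, 2, 1, 0, 1, 2],
    [1, 0, 1, 2, 1, 0, 1, 2],
    [0, 1, 0, 1, 2, 1, 0, 1, 2],
    [1, 2, 1, 0, 1, 2],
    [0, 1, 2, 1, 0, 1, 2],
    [1, 0, 2, 1, 0, 1, 2],
    [0, 1, 0, 2, 1, 0, 1, 2],
    [2, 0, 1, 0, 1, 2],
    [0, 2, 0, 1, 0, 1, 2],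
    [1, 0, 1, 2, 0, 1, 0, 1, 2],
    [0, 1, 0, 1, 2, 0, 1, 0, 1, 2],
    [1, 2, 0, 1, 0, 1, 2],
    [0, 1, 2, 0, 1, 0, 1, 2],
    [1, 0, 2, 0, 1, 0, 1, 2],
    [0, 1, 0, 2, 0, 1, 0, 1, 2],
    [2, 1, 2],
    [0, 2, 1, 2],
    [1, 0, 1, 2, 1, 2],
    [0, 1, 0, 1, 2, 1, 2],
    [1, 2, 1, 2],
    [0, 1, 2, 1, 2],
    [1, 0, 2, 1, 2],
    [0, 1, 0, 2, 1, 2],
    [2, 0, 1, 2],
    [0, 2, 0, 1, 2],
    [1, 0, 1, 2, 0, 1, 2],
    [0, 1, 0, 1, 2, 0, 1, 2],
    [1, 2, 0, 1, 2],
    [0, 1, 2, 0, 1, 2],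
    [1, 0, 2, 0, 1, 2],
    [0, 1, 0, 2, 0, 1, 2],
    [2, 1, 0, 2],
    [0, 2, 1, 0, 2],
    [1, 0, 1, 2, 1, 0, 2],
    [0, 1, 0, 1, 2, 1, 0, 2],
    [1, 2, 1, 0, 2],
    [0, 1, 2, 1, 0, 2],
    [1, 0, 2, 1, 0, 2],
    [0, 1, 0, 2, 1, 0, 2],
    [2, 0, 1, 0, 2],
    [0, 2, 0, 1, 0, 2],
    [1, 0, 1, 2, 0, 1, 0, 2],
    [0, 1, 0, 1, 2, 0, 1, 0, 2],
    [1, 2, 0, 1, 0, 2],
    [0, 1, 2, 0, 1, 0, 2],
    [1, 0, 2, 0, 1, 0, 2],
    [0, 1, 0, 2, 0, 1, 0, 2],
    [2],
    [0, 2],
    [1, 0, 1, 2],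
    [0, 1, 0, 1, 2],
    [1, 2],
    [0, 1, 2],
    [1, 0, 2],
    [0, 1, 0, 2],
    [2, 0],
    [0, 2, 0],
    [1, 0, 1, 2, 0],
    [0, 1, 0, 1, 2, 0],
    [1, 2, 0],
    [0, 1, 2, 0],
    [1, 0, 2, 0],
    [0, 1, 0, 2, 0],
    [2, 1, 0, 1],
    [0, 2, 1, 0, 1],
    [1, 0, 1, 2, 1, 0, 1],
    [0, 1, 0, 1, 2, 1, 0, 1],
    [1, 2, 1, 0, 1],
    [0, 1, 2, 1, 0, 1],
    [1, 0, 2, 1, 0, 1],
    [0, 1, 0, 2, 1, 0, 1],
    [2, 0, 1, 0, 1],
    [0, 2, 0, 1, 0, 1],
    [1, 0, 1, 2, 0, 1, 0, 1],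
    [0, 1, 0, 1, 2, 0, 1, 0, 1],
    [1, 2, 0, 1, 0, 1],
    [0, 1, 2, 0, 1, 0, 1],
    [1, 0, 2, 0, 1, 0, 1],
    [0, 1, 0, 2, 0, 1, 0, 1],
    [2, 1],
    [0, 2, 1],
    [1, 0, 1, 2, 1],
    [0, 1, 0, 1, 2, 1],
    [1, 2, 1],
    [0, 1, 2, 1],
    [1, 0, 2, 1],
    [0, 1, 0, 2, 1],
    [2, 0, 1],
    [0, 2, 0, 1],
    [1, 0, 1, 2, 0, 1],
    [0, 1, 0, 1, 2, 0, 1],
    [1, 2, 0, 1],
    [0, 1, 2, 0, 1],
    [1, 0, 2, 0, 1],
    [0, 1, 0, 2, 0, 1],
    [2, 1, 0],
    [0, 2, 1, 0],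
    [1, 0, 1, 2, 1, 0],
    [0, 1, 0, 1, 2, 1, 0],
    [1, 2, 1, 0],
    [0, 1, 2, 1, 0],
    [1, 0, 2, 1, 0],
    [0, 1, 0, 2, 1, 0],
    [2, 0, 1, 0],
    [0, 2, 0, 1, 0],
    [1, 0, 1, 2, 0, 1, 0],
    [0, 1, 0, 1, 2, 0, 1, 0],
    [1, 2, 0, 1, 0],
    [0, 1, 2, 0, 1, 0],
    [1, 0, 2, 0, 1, 0],
    [0, 1, 0, 2, 0, 1, 0]]

/-- words in the generators `genA` for the even elements of `T3`, by number -/
def wordsA : List (List (Fin 3)) :=
   [[],
    [],
    [],
    [1, 2, 1, 2],
    [1],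
    [],
    [],
    [2, 1, 2],
    [],
    [1, 0, 2, 0, 1],
    [0, 2, 0],
    [],
    [],
    [1, 0, 2, 0],
    [0, 2, 0, 1],
    [],
    [],
    [2],
    [1, 2, 1],
    [],
    [],
    [2, 1],
    [1, 2],
    [],
    [0, 1, 2, 1, 2, 0],
    [],
    [],
    [0, 2, 0, 2],
    [0, 2, 0, 1, 2],
    [],
    [],
    [0, 2, 0, 2, 1],
    [0, 2, 1, 2, 0],
    [],
    [],
    [0, 1, 2, 0, 2],
    [0, 1, 2, 0, 1, 2],
    [],
    [],
    [0, 1, 2, 0, 2, 1],
    [],
    [2, 0, 1, 0],
    [0, 1, 2, 0],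
    [],
    [],
    [1, 0, 1, 2, 0],
    [0, 1, 2, 0, 1],
    [],
    [],
    [0, 1, 0, 2],
    [0, 2, 1, 0],
    [],
    [],
    [0, 1, 0, 2, 1],
    [0, 1, 0, 1, 2],
    [],
    [0, 1, 0],
    [],
    [],
    [0, 2, 1, 0, 2],
    [0, 1, 0, 1],
    [],
    [],
    [0, 1, 0, 2, 1, 2],
    [0, 1, 2, 1],
    [],
    [],
    [2, 0],
    [2, 1, 0],
    [],
    [],
    [1, 2, 0],
    [],
    [2, 0, 2],
    [0, 1, 2, 1, 2],
    [],
    [],
    [2, 1, 0, 2],
    [1, 2, 0, 2],
    [],
    [],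
    [1, 2, 1, 2, 0],
    [0],
    [],
    [],
    [1, 0],
    [2, 1, 2, 0],
    [],
    [0, 2],
    [],
    [],
    [0, 1, 0, 2, 0, 1],
    [1, 0, 2],
    [],
    [],
    [0, 2, 0, 1, 0],
    [0, 1, 2],
    [],
    [],
    [2, 0, 1],
    [1, 0, 1, 2],
    [],
    [],
    [1, 2, 0, 1],
    [],
    [2, 0, 2, 1],
    [0, 2, 1, 2],
    [],
    [],
    [1, 0, 2, 1, 2],
    [1, 2, 0, 2, 1],
    [],
    [],
    [2, 0, 1, 2],
    [0, 1],
    [],
    [],
    [1, 0, 1],
    [1, 2, 0, 1, 2],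
    [],
    [0, 2, 1],
    [],
    [],
    [0, 1, 0, 2, 0],
    [1, 0, 2, 1],
    [],
    [],
    [0, 1, 0, 1, 2, 0]]

/-- the word of an element -/
def wordT (t : T3) : List (Fin 3) := wordsT.getD (code3 t) []

/-- the word of an even element -/
def wordA (t : T3) : List (Fin 3) := wordsA.getD (code3 t) []

/-- the index set of the orthogonal space -/
abbrev I6 := (Fin 2 ⊕ Fin 2) ⊕ Fin 2

/-- linear order of the coordinates -/
def c6 : I6 → ℕ
  | Sum.inl (Sum.inl i) => i.val
  | Sum.inl (Sum.inr i) => 2 + i.val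
  | Sum.inr i => 4 + i.val

/-- table of the orthogonal matrices (36 bits per element) -/
def MT : ℕ := 39790759848923982771715681921727431474993349853226515286783347224618464080850779401438768473398356262577512970904047365598367764431959858737003781377814630034748489400777759905446893102478158071360633363399806880354107406150550200581408830474856696106496077240562698283666880559348676785836244282870925645765526527294103935137279072033146276421738589023253723448254918175039551311343495853289881014506139483533541447032227968528959981104881712829754467938507414900516878666403881647914018822914168830347537412665077221068645938934479801142010241382268379876744207350417969552632641866308297031630715421706552074825393375203244711554162786484256155938973702793146961816305053511107699138297758614569307258663585355296358281368853649264280948019978036268914815790088259152599871448263007004740665354318694222419172400216320633105188921771913589201006413905248098891535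88697083682114858809451831170397956619877671199432703327975444410244895561873363077050314252421629751683915032487819256190470571976017398629580003317450815186110289869317217002913303334457388768129834825799811540629060177051076254414388881319326260627012646573023959937338524624681786085486203876772730613976160738268054190049295150898787435516365085876529897874399109700781452378693019102526915787135056585857067733872389104985791063476091238189503686230156215892513896326656523683338686869679965906945886039120738795649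

/-- table of the symplectic matrices (26 bits per element, numbers in base 3) -/
def AT : ℕ := 414335948932851217234724714911264483549149452109778015725648410350966778556707888191088353281346629066301762978789343982065167060200167607692524662612157901876863251016018742170788254970595108173818380068289605552525336492909194350284628508351838522366401637993442092922650956880557535177446648836962716250359538664444831789686138515312628045308275919933081208166318086689240836866709521748291085934213921460363992556497710951467996553677918176039594534543552588607243357967343526631430558897128462736467167981123502996644982030745468499042034539073735976354536551523206148565091897250807156693931563500505433093688747530685830126161599261645778530823602599596609531344042913396177243189974241477897951294340825421621782393064893219858915259299763873296437122445281638914189973801171868085084898142073134239248157146492711332909083088659345032050061235194994172806921544289319081009144533857787993866749545626743628699086628207247475652891628805349235552781506127616938722524072937188807861155003095560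

/-- the orthogonal matrix attached to an element of `T3` -/
def matB (t : T3) : Matrix I6 I6 (ZMod 2) :=
  Matrix.of fun i j => if ((MT >>> (36 * code3 t)) % 2 ^ 36).testBit (6 * c6 i + c6 j) then 1 else 0

/-- the symplectic matrix attached to an (even) element of `T3` -/
def matA (t : T3) : Matrix UFour.I4 UFour.I4 (ZMod 3) :=
  UFour.mat3Of ((AT >>> (26 * code3 t)) % 2 ^ 26)

/-- the quadratic form of minus type over `ZMod 2` -/
abbrev Q6 : (I6 → ZMod 2) → ZMod 2 := Cfsg.quadFormMinus 2 (ZMod 2) 1 1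

end Cfsg.Agent.Helper96.SylTree
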