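import Cfsg.Agent.Helper96.SylTreeCheckA

/-!
Helper96: the tree group `T3 = C₂ ≀ C₂ ≀ C₂` as a permutation group on eight leaves (`SylTree.permHom`), and a
tool to prove multiplicativity of a map on `T3` (or on its even part) from the generators.
-/

set_option autoImplicit false

namespace Cfsg.Agent.Helper96.SylTree

open Cfsg

/-- a map on `T3` is multiplicative on a submonoid as soon as it is so for right multiplication by
generators, when every element of the submonoid is a word in these generators -/
theorem mul_of_gens {M : Type*} [Monoid M] (S : Submonoid T3) (f : T3 → M) (gens : Fin 3 → T3)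
    (hgS : ∀ k, gens k ∈ S) (h1 : f 1 = 1)
    (hg : ∀ t ∈ S, ∀ k, f (t * gens k) = f t * f (gens k))
    (word : T3 → List (Fin 3)) (hw : ∀ u ∈ S, ((word u).map gens).prod = u) :
    ∀ t ∈ S, ∀ u ∈ S, f (t * u) = f t * f u := by
  have key : ∀ l : List (Fin 3), ∀ t ∈ S, f (t * (l.map gens).prod) = f t * f ((l.map gens).prod) := by
    intro l
    induction l with
    | nil =>
      intro t _
      rw [List.map_nil, List.prod_nil, mul_one, h1, mul_one]
    | cons k l ih =>
      intro t ht
      rw [List.map_cons, List.prod_cons, ← mul_assoc, ih _ (S.mul_mem ht (hgS k)), hg t ht k,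
        ih _ (hgS k), mul_assoc]
  intro t ht u hu
  rw [← hw u hu]
  exact key _ t ht

/-- the action on the leaves as an endomorphism -/
def fwdEnd (t : T3) : Function.End (Fin 8) := fwd t

theorem fwd_mul (t u : T3) (i : Fin 8) : fwd (t * u) i = fwd t (fwd u i) := by
  have h := mul_of_gens (M := Function.End (Fin 8)) ⊤ fwdEnd genT (fun _ => trivial)
    (by funext i; exact fwd_one i)
    (by
      intro t _ k
      funext i
      exact fwd_gen t k i)
    wordT (fun u _ => wordT_ok u) t trivial u trivial
  exact congrFun h i

/-- the permutation of the eight leaves attached to an element of `T3` -/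
def permOf (t : T3) : Equiv.Perm (Fin 8) where
  toFun := fwd t
  invFun := fwd t⁻¹
  left_inv i := by rw [← fwd_mul, inv_mul_cancel, fwd_one]
  right_inv i := by rw [← fwd_mul, mul_inv_cancel, fwd_one]

/-- the permutation representation of `T3` on the eight leaves -/
def permHom : T3 →* Equiv.Perm (Fin 8) where
  toFun := permOf
  map_one' := by
    ext i
    show ((fwd 1 i : Fin 8) : ℕ) = _
    rw [fwd_one]; rfl
  map_mul' t u := by
    ext i
    show ((fwd (t * u) i : Fin 8) : ℕ) = _
    rw [fwd_mul]; rfl

theorem permHom_injective : Function.Injective permHom := by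
  rw [injective_iff_map_eq_one]
  intro t ht
  apply fwd_inj
  intro i
  have := congrArg (fun σ : Equiv.Perm (Fin 8) => σ i) ht
  exact this

end Cfsg.Agent.Helper96.SylTree
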