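import Mathlib
import Cfsg.Agent.Helper96.AutSym

set_option autoImplicit false

namespace Cfsg.Agent.Helper96

open Equiv Equiv.Perm

section typeII

variable {α β γ : Type*} [DecidableEq α] [DecidableEq β] [DecidableEq γ]
  [Fintype α] [Fintype β] [Fintype γ]

/-- an isomorphism `Perm α ≃* Perm β` is *exotic* if it maps some swap to a non-swap -/
def IsExotic (φ : Perm α ≃* Perm β) : Prop := ∃ σ : Perm α, σ.IsSwap ∧ ¬ (φ σ).IsSwap

theorem IsExotic.cycleType_map {φ : Perm α ≃* Perm β} (hφ : IsExotic φ)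
    (hcard : Fintype.card α = Fintype.card β) {σ : Perm α} (hσ : σ.IsSwap) :
    (φ σ).cycleType = Multiset.replicate 3 2 := by
  obtain ⟨σ0, hσ0, hn⟩ := hφ
  rcases cycleType_map_swap φ hcard hσ0 with h | ⟨_, h⟩
  · exact absurd h hn
  · have hc : IsConj σ0 σ := by
      rw [isConj_iff_cycleType_eq, IsSwap.cycleType_eq hσ0, IsSwap.cycleType_eq hσ]
    have hc' : IsConj (φ σ0) (φ σ) := φ.toMonoidHom.map_isConj hc
    rw [isConj_iff_cycleType_eq] at hc'
    rw [← hc', h]

theorem IsExotic.isSwap_symm {φ : Perm α ≃* Perm β} (hφ : IsExotic φ)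
    (hcard : Fintype.card α = Fintype.card β) {τ : Perm β}
    (hτ : τ.cycleType = Multiset.replicate 3 2) : (φ.symm τ).IsSwap := by
  obtain ⟨σ0, hσ0, hn⟩ := id hφ
  have h0 := hφ.cycleType_map hcard hσ0
  have hc : IsConj (φ σ0) τ := by rw [isConj_iff_cycleType_eq, h0, hτ]
  obtain ⟨g', hg'⟩ := isConj_iff.mp hc
  obtain ⟨g, rfl⟩ := φ.surjective g'
  have h1 : φ.symm τ = g * σ0 * g⁻¹ := by
    rw [← hg', ← map_inv, ← map_mul, ← map_mul, MulEquiv.symm_apply_apply]
  rw [h1]
  apply isSwap_of_cycleType_eq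
  rw [cycleType_conj, IsSwap.cycleType_eq hσ0]

theorem IsExotic.not_isSwap_symm {φ : Perm α ≃* Perm β} (hφ : IsExotic φ)
    (hcard : Fintype.card α = Fintype.card β) {τ : Perm β} (hτ : τ.IsSwap) :
    ¬ (φ.symm τ).IsSwap := by
  intro h
  have h1 := hφ.cycleType_map hcard h
  rw [MulEquiv.apply_symm_apply, IsSwap.cycleType_eq hτ] at h1
  have := congrArg Multiset.card h1
  simp at this

theorem IsExotic.symm {φ : Perm α ≃* Perm β} (hφ : IsExotic φ)
    (hcard : Fintype.card α = Fintype.card β) (h2 : 2 ≤ Fintype.card β) : IsExotic φ.symm := by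
  obtain ⟨x, y, hxy⟩ := Fintype.exists_pair_of_one_lt_card (α := β) (by omega)
  exact ⟨swap x y, ⟨x, y, hxy, rfl⟩, hφ.not_isSwap_symm hcard ⟨x, y, hxy, rfl⟩⟩

/-- the composite of two exotic isomorphisms preserves swaps -/
theorem IsExotic.isSwap_comp {φ : Perm α ≃* Perm β} {ψ : Perm β ≃* Perm γ} (hφ : IsExotic φ)
    (hψ : IsExotic ψ) (hcard : Fintype.card α = Fintype.card β)
    (hcard' : Fintype.card β = Fintype.card γ) (h2 : 2 ≤ Fintype.card γ)
    {σ : Perm α} (hσ : σ.IsSwap) : (ψ (φ σ)).IsSwap := by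
  have h1 := hφ.cycleType_map hcard hσ
  have h2 := (hψ.symm hcard' h2).isSwap_symm hcard'.symm h1
  simpa using h2

end typeII

section conj

variable {α : Type*} [DecidableEq α] [Fintype α]

/-- the coset action as an isomorphism -/
noncomputable def cosetEquiv (h5 : 5 ≤ Fintype.card α) (H : Subgroup (Perm α))
    (hH : H.index = Fintype.card α) : Perm α ≃* Perm (Perm α ⧸ H) :=
  MulEquiv.ofBijective _ (toPermHom_quotient_bijective h5 H hH)

theorem cosetEquiv_apply (h5 : 5 ≤ Fintype.card α) (H : Subgroup (Perm α))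
    (hH : H.index = Fintype.card α) (g : Perm α) (y : Perm α ⧸ H) :
    cosetEquiv h5 H hH g y = g • y := rfl

theorem isExotic_cosetEquiv (h5 : 5 ≤ Fintype.card α) (H : Subgroup (Perm α))
    (hH : H.index = Fintype.card α) [Fintype (Perm α ⧸ H)] [DecidableEq (Perm α ⧸ H)]
    (hns : ∀ a : α, H ≠ MulAction.stabilizer (Perm α) a) : IsExotic (cosetEquiv h5 H hH) := by
  by_contra hne
  unfold IsExotic at hne
  push Not at hne
  obtain ⟨x, hx⟩ := exists_eq_stabilizer_of_isSwap h5 H hH (fun σ hσ => hne σ hσ)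
  exact hns x hx

/-- two subgroups of index 6 of `Perm α`, `card α = 6`, which are not point stabilizers are
conjugate -/
theorem exists_conj_of_not_stabilizer (h6 : Fintype.card α = 6) (H0 H : Subgroup (Perm α))
    (hH0 : H0.index = 6) (hH : H.index = 6)
    (hns0 : ∀ a : α, H0 ≠ MulAction.stabilizer (Perm α) a)
    (hns : ∀ a : α, H ≠ MulAction.stabilizer (Perm α) a) :
    ∃ g : Perm α, H0 = H.map (MulAut.conj g).toMonoidHom := by
  classical
  haveI : Fintype (Perm α ⧸ H0) := Fintype.ofFinite _
  haveI : Fintype (Perm α ⧸ H) := Fintype.ofFinite _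
  have h5 : 5 ≤ Fintype.card α := by omega
  have hH0' : H0.index = Fintype.card α := by omega
  have hH' : H.index = Fintype.card α := by omega
  have hc0 : Fintype.card α = Fintype.card (Perm α ⧸ H0) := by
    rw [← hH0', Subgroup.index_eq_card, Nat.card_eq_fintype_card]
  have hc : Fintype.card α = Fintype.card (Perm α ⧸ H) := by
    rw [← hH', Subgroup.index_eq_card, Nat.card_eq_fintype_card]
  have e0 := isExotic_cosetEquiv h5 H0 hH0' hns0
  have e1 := isExotic_cosetEquiv h5 H hH' hns
  have e0' := e0.symm hc0 (by omega)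
  obtain ⟨e, he⟩ := exists_equiv_of_swap_preserving
    ((cosetEquiv h5 H0 hH0').symm.trans (cosetEquiv h5 H hH')).toMonoidHom
    ((cosetEquiv h5 H0 hH0').symm.trans (cosetEquiv h5 H hH')).injective
    (fun σ hσ => e0'.isSwap_comp e1 hc0.symm hc (by omega) hσ) (by omega) (hc0.symm.trans hc)
  have he' : ∀ g, cosetEquiv h5 H hH' g = e.permCongr (cosetEquiv h5 H0 hH0' g) := by
    intro g
    have := he (cosetEquiv h5 H0 hH0' g)
    simpa using this
  obtain ⟨h, hh⟩ := QuotientGroup.mk_surjective (e ((1 : Perm α) : Perm α ⧸ H0))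
  refine ⟨h, ?_⟩
  have hmap : H.map (MulAut.conj h).toMonoidHom =
      MulAction.stabilizer (Perm α) (h • ((1 : Perm α) : Perm α ⧸ H)) := by
    rw [MulAction.stabilizer_smul_eq_stabilizer_map_conj, MulAction.stabilizer_quotient]
  have hy : h • ((1 : Perm α) : Perm α ⧸ H) = e ((1 : Perm α) : Perm α ⧸ H0) := by
    rw [← hh, MulAction.Quotient.smul_mk, smul_eq_mul, mul_one]
  rw [hmap, hy]
  ext g
  rw [MulAction.mem_stabilizer_iff]
  conv_lhs => rw [← MulAction.stabilizer_quotient H0, MulAction.mem_stabilizer_iff]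
  rw [← cosetEquiv_apply h5 H hH', he', Equiv.permCongr_apply, Equiv.symm_apply_apply,
    e.apply_eq_iff_eq, cosetEquiv_apply]

end conj

section transport

variable {α β : Type*}

theorem map_permCongrHom_stabilizer (b : α ≃ β) (a : α) :
    (MulAction.stabilizer (Perm α) a).map (b.permCongrHom : Perm α ≃* Perm β).toMonoidHom =
      MulAction.stabilizer (Perm β) (b a) := by
  ext τ
  rw [Subgroup.mem_map_equiv, MulAction.mem_stabilizer_iff, MulAction.mem_stabilizer_iff,
    Equiv.permCongrHom_symm]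
  change b.symm (τ (b.symm.symm a)) = a ↔ τ (b a) = b a
  rw [Equiv.symm_symm, Equiv.symm_apply_eq]

theorem exists_exotic_of_equiv {Y α : Type*} (b : Y ≃ α) (K : Subgroup (Perm Y))
    (hK : K.index = 6) (hns : ∀ y : Y, K ≠ MulAction.stabilizer (Perm Y) y) :
    ∃ H0 : Subgroup (Perm α), H0.index = 6 ∧
      ∀ a : α, H0 ≠ MulAction.stabilizer (Perm α) a := by
  refine ⟨K.map (b.permCongrHom : Perm Y ≃* Perm α).toMonoidHom, ?_, ?_⟩
  · rw [← hK]
    exact Subgroup.index_map_equiv K (b.permCongrHom : Perm Y ≃* Perm α)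
  · intro a ha
    apply hns (b.symm a)
    apply Subgroup.map_injective (f := (b.permCongrHom : Perm Y ≃* Perm α).toMonoidHom)
      (b.permCongrHom : Perm Y ≃* Perm α).injective
    have := map_permCongrHom_stabilizer b (b.symm a)
    rw [Equiv.apply_symm_apply] at this
    exact ha.trans this.symm

end transport

section exotic

theorem card_sylow_five : Nat.card (Sylow 5 (Perm (Fin 5))) = 6 := by
  haveI : Fact (Nat.Prime 5) := ⟨by norm_num⟩
  have hG : Nat.card (Perm (Fin 5)) = 120 := by
    rw [Nat.card_eq_fintype_card, Fintype.card_perm]; rfl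
  let P : Sylow 5 (Perm (Fin 5)) := default
  have h1 : Nat.card (Sylow 5 (Perm (Fin 5))) ∣ 120 := by
    rw [Sylow.card_eq_index_normalizer P, ← hG]
    exact Subgroup.index_dvd_card _
  have h2 : Nat.card (Sylow 5 (Perm (Fin 5))) % 5 = 1 := card_sylow_modEq_one 5 (Perm (Fin 5))
  have h3 : ∀ d ∈ Nat.divisors 120, d % 5 = 1 → d = 1 ∨ d = 6 := by decide
  rcases h3 _ (Nat.mem_divisors.mpr ⟨h1, by norm_num⟩) h2 with h | h
  · exfalso
    haveI : Subsingleton (Sylow 5 (Perm (Fin 5))) :=
      (Nat.card_eq_one_iff_unique.mp h).1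
    haveI hn : (P : Subgroup (Perm (Fin 5))).Normal := Sylow.normal_of_subsingleton P
    have hne : (P : Subgroup (Perm (Fin 5))) ≠ ⊥ :=
      P.ne_bot_of_dvd_card (by rw [hG]; norm_num)
    have hle : alternatingGroup (Fin 5) ≤ (P : Subgroup (Perm (Fin 5))) :=
      alternatingGroup_le_of_normal (by simp) ((Subgroup.nontrivial_iff_ne_bot _).mpr hne)
    have hd := Subgroup.card_dvd_of_le hle
    obtain ⟨k, hk⟩ := (IsPGroup.iff_card.mp P.isPGroup')
    rw [hk] at hd
    have h60 : 2 * Nat.card (alternatingGroup (Fin 5)) = 120 := by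
      rw [two_mul_nat_card_alternatingGroup, hG]
    have h2d : 2 ∣ 5 ^ k := Dvd.dvd.trans ⟨30, by omega⟩ hd
    have := Nat.Prime.dvd_of_dvd_pow Nat.prime_two h2d
    omega
  · exact h

/-- `Perm α`, `card α = 6`, has a subgroup of index 6 which is not a point stabilizer -/
theorem exists_exotic_subgroup {α : Type*} [DecidableEq α] [Fintype α]
    (h6 : Fintype.card α = 6) :
    ∃ H0 : Subgroup (Perm α), H0.index = 6 ∧
      ∀ a : α, H0 ≠ MulAction.stabilizer (Perm α) a := by
  classical
  haveI : Fact (Nat.Prime 5) := ⟨by norm_num⟩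
  haveI : Fintype (Sylow 5 (Perm (Fin 5))) := Fintype.ofFinite _
  have hYc : Fintype.card (Sylow 5 (Perm (Fin 5))) = 6 := by
    rw [← Nat.card_eq_fintype_card]; exact card_sylow_five
  let ψ : Perm (Fin 5) →* Perm (Sylow 5 (Perm (Fin 5))) :=
    MulAction.toPermHom (Perm (Fin 5)) (Sylow 5 (Perm (Fin 5)))
  have hinj : Function.Injective ψ := by
    rw [← MonoidHom.ker_eq_bot_iff, eq_bot_iff]
    let P : Sylow 5 (Perm (Fin 5)) := default
    have hidx : (MulAction.stabilizer (Perm (Fin 5)) P).index = 6 := by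
      rw [MulAction.index_stabilizer_of_transitive]; exact card_sylow_five
    have hcore := normalCore_eq_bot_of_index (α := Fin 5) (by simp)
      (MulAction.stabilizer (Perm (Fin 5)) P) (by omega)
    rw [← hcore, Subgroup.normal_le_normalCore]
    intro g hg
    rw [MulAction.mem_stabilizer_iff]
    have h1 : ψ g = 1 := hg
    calc g • P = ψ g P := rfl
      _ = P := by rw [h1]; rfl
  have hKcard : Nat.card ψ.range = 120 := by
    rw [← Nat.card_congr (MonoidHom.ofInjective hinj).toEquiv, Nat.card_eq_fintype_card,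
      Fintype.card_perm]
    rfl
  have hKidx : ψ.range.index = 6 := by
    have h := ψ.range.card_mul_index
    rw [hKcard, Nat.card_eq_fintype_card, Fintype.card_perm, hYc] at h
    have h720 : (6 : ℕ).factorial = 720 := rfl
    omega
  have hKns : ∀ y : Sylow 5 (Perm (Fin 5)),
      ψ.range ≠ MulAction.stabilizer (Perm (Sylow 5 (Perm (Fin 5)))) y := by
    intro y hK
    obtain ⟨y', hy'⟩ : ∃ y' : Sylow 5 (Perm (Fin 5)), y' ≠ y :=
      Fintype.exists_ne_of_one_lt_card (by omega) y
    obtain ⟨g, hg⟩ := MulAction.exists_smul_eq (Perm (Fin 5)) y y'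
    have h1 : ψ g ∈ ψ.range := ⟨g, rfl⟩
    rw [hK, MulAction.mem_stabilizer_iff] at h1
    apply hy'
    rw [← hg]
    exact h1
  exact exists_exotic_of_equiv (Fintype.equivOfCardEq (hYc.trans h6.symm)) ψ.range hKidx hKns

end exotic

section stabilizerIso

/-- the stabilizer of a point `x` in `Perm α` is `Perm {y // y ≠ x}` -/
noncomputable def stabilizerMulEquiv {α : Type*} [DecidableEq α] (x : α) :
    MulAction.stabilizer (Perm α) x ≃* Perm {y : α // y ≠ x} where
  toFun g := (g : Perm α).subtypePerm (fun y => by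
    have hg : (g : Perm α) x = x := g.2
    constructor
    · intro h hy; apply h; rw [hy, hg]
    · intro h hy; apply h; apply (g : Perm α).injective; rw [hy, hg])
  invFun f := ⟨ofSubtype f, by
    rw [MulAction.mem_stabilizer_iff]
    exact ofSubtype_apply_of_not_mem f (by simp)⟩
  left_inv g := by
    apply Subtype.ext
    apply ofSubtype_subtypePerm
    intro y hy hyx
    apply hy
    rw [hyx]
    exact g.2
  right_inv f := subtypePerm_ofSubtype f
  map_mul' g h := by
    ext y
    rfl

theorem nonempty_stabilizer_mulEquiv {α : Type*} [DecidableEq α] [Fintype α] (x : α) (n : ℕ)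
    (hn : Fintype.card α = n + 1) :
    Nonempty (MulAction.stabilizer (Perm α) x ≃* Perm (Fin n)) := by
  have hc : Fintype.card {y : α // y ≠ x} = n := by
    have h1 := Fintype.card_subtype_compl (fun y : α => y = x)
    rw [Fintype.card_subtype_eq, hn] at h1
    simpa using h1
  exact ⟨(stabilizerMulEquiv x).trans (Fintype.equivFinOfCardEq hc).permCongrHom⟩

end stabilizerIso

section count

variable {α : Type*} [DecidableEq α] [Fintype α]

theorem stabilizer_injective_of_surjective {G Y : Type*} [Group G] [MulAction G Y]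
    [DecidableEq Y] [Fintype Y] (hs : Function.Surjective (MulAction.toPermHom G Y))
    (h3 : 3 ≤ Fintype.card Y) :
    Function.Injective (fun y : Y => MulAction.stabilizer G y) := by
  intro y y' h
  by_contra hne
  obtain ⟨p, q, hp, hq, hpq⟩ := exists_two_ne h3 y
  obtain ⟨y'', h1, h2⟩ : ∃ y'' : Y, y ≠ y'' ∧ y' ≠ y'' := by
    by_cases hyp : y' = p
    · exact ⟨q, hq, fun h => hpq (hyp.symm.trans h)⟩
    · exact ⟨p, hp, hyp⟩
  obtain ⟨g, hg⟩ := hs (swap y' y'')
  have hgy : g • y = y := by
    change MulAction.toPermHom G Y g y = y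
    rw [hg]
    exact swap_apply_of_ne_of_ne hne h1
  have hgy' : g • y' = y'' := by
    change MulAction.toPermHom G Y g y' = y''
    rw [hg, swap_apply_left]
  have hmem : g ∈ MulAction.stabilizer G y := hgy
  have h' : MulAction.stabilizer G y = MulAction.stabilizer G y' := h
  rw [h', MulAction.mem_stabilizer_iff] at hmem
  exact h2 (hmem.symm.trans hgy')

theorem toPermHom_perm_surjective : Function.Surjective (MulAction.toPermHom (Perm α) α) := by
  intro σ
  exact ⟨σ, by ext x; rfl⟩

/-- every subgroup of index `6` of `Perm α`, `card α = 6`, is isomorphic to `Perm (Fin 5)` -/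
theorem nonempty_mulEquiv_of_index_six (h6 : Fintype.card α = 6) (H : Subgroup (Perm α))
    (hH : H.index = 6) : Nonempty (H ≃* Perm (Fin 5)) := by
  classical
  haveI : Fintype (Perm α ⧸ H) := Fintype.ofFinite _
  have h5 : 5 ≤ Fintype.card α := by omega
  have hH' : H.index = Fintype.card α := by omega
  have hc : Fintype.card (Perm α ⧸ H) = 5 + 1 := by
    rw [← Nat.card_eq_fintype_card, ← Subgroup.index_eq_card, hH]
  have hmap : H.map (cosetEquiv h5 H hH').toMonoidHom =
      MulAction.stabilizer (Perm (Perm α ⧸ H)) ((1 : Perm α) : Perm α ⧸ H) := by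
    have key : ∀ g : Perm α, g ∈ H ↔ g • ((1 : Perm α) : Perm α ⧸ H) = ((1 : Perm α) : Perm α ⧸ H) := by
      intro g
      conv_lhs => rw [← MulAction.stabilizer_quotient H, MulAction.mem_stabilizer_iff]
    ext τ
    rw [Subgroup.mem_map_equiv, MulAction.mem_stabilizer_iff, key,
      ← cosetEquiv_apply h5 H hH', MulEquiv.apply_symm_apply]
    rfl
  obtain ⟨e⟩ := nonempty_stabilizer_mulEquiv ((1 : Perm α) : Perm α ⧸ H) 5 hc
  exact ⟨((cosetEquiv h5 H hH').subgroupMap H).trans ((MulEquiv.subgroupCongr hmap).trans e)⟩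

/-- `Perm α`, `card α = 6`, has exactly `12` subgroups of index `6` -/
theorem card_subgroups_index_six (h6 : Fintype.card α = 6) :
    Nat.card {H : Subgroup (Perm α) // H.index = 6} = 12 := by
  classical
  obtain ⟨H0, hH0, hns0⟩ := exists_exotic_subgroup h6
  haveI : Fintype (Perm α ⧸ H0) := Fintype.ofFinite _
  have h5 : 5 ≤ Fintype.card α := by omega
  have hH0' : H0.index = Fintype.card α := by omega
  have hc0 : Fintype.card (Perm α ⧸ H0) = 6 := by
    rw [← Nat.card_eq_fintype_card, ← Subgroup.index_eq_card, hH0]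
  have hidx : ∀ y : Perm α ⧸ H0, (MulAction.stabilizer (Perm α) y).index = 6 := by
    intro y
    rw [MulAction.index_stabilizer_of_transitive, ← Subgroup.index_eq_card, hH0]
  let f : α ⊕ (Perm α ⧸ H0) → {H : Subgroup (Perm α) // H.index = 6} := fun s =>
    match s with
    | Sum.inl a => ⟨MulAction.stabilizer (Perm α) a, by rw [index_stabilizer_perm, h6]⟩
    | Sum.inr y => ⟨MulAction.stabilizer (Perm α) y, hidx y⟩
  have hcross : ∀ (a : α) (y : Perm α ⧸ H0),
      MulAction.stabilizer (Perm α) a ≠ MulAction.stabilizer (Perm α) y := by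
    intro a y h
    obtain ⟨g, hg⟩ := MulAction.exists_smul_eq (Perm α) y ((1 : Perm α) : Perm α ⧸ H0)
    apply hns0 (g • a)
    calc H0 = MulAction.stabilizer (Perm α) ((1 : Perm α) : Perm α ⧸ H0) :=
          (MulAction.stabilizer_quotient H0).symm
      _ = MulAction.stabilizer (Perm α) (g • y) := by rw [hg]
      _ = (MulAction.stabilizer (Perm α) y).map (MulAut.conj g).toMonoidHom :=
          MulAction.stabilizer_smul_eq_stabilizer_map_conj g y
      _ = (MulAction.stabilizer (Perm α) a).map (MulAut.conj g).toMonoidHom := by rw [h]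
      _ = MulAction.stabilizer (Perm α) (g • a) :=
          (MulAction.stabilizer_smul_eq_stabilizer_map_conj g a).symm
  have hfinj : Function.Injective f := by
    rintro (a | y) (b | z) h
    · have h' : MulAction.stabilizer (Perm α) a = MulAction.stabilizer (Perm α) b :=
        congrArg Subtype.val h
      rw [stabilizer_injective_of_surjective toPermHom_perm_surjective (by omega) h']
    · exact absurd (congrArg Subtype.val h) (hcross a z)
    · exact absurd (congrArg Subtype.val h).symm (hcross b y)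
    · have h' : MulAction.stabilizer (Perm α) y = MulAction.stabilizer (Perm α) z :=
        congrArg Subtype.val h
      rw [stabilizer_injective_of_surjective (toPermHom_quotient_bijective h5 H0 hH0').2
        (by omega) h']
  have hfsurj : Function.Surjective f := by
    rintro ⟨H, hH⟩
    by_cases hs : ∃ a : α, H = MulAction.stabilizer (Perm α) a
    · obtain ⟨a, rfl⟩ := hs
      exact ⟨Sum.inl a, rfl⟩
    · push Not at hs
      obtain ⟨g, hg⟩ := exists_conj_of_not_stabilizer h6 H H0 hH hH0 hs hns0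
      refine ⟨Sum.inr (g • ((1 : Perm α) : Perm α ⧸ H0)), Subtype.ext ?_⟩
      change MulAction.stabilizer (Perm α) (g • ((1 : Perm α) : Perm α ⧸ H0)) = H
      rw [MulAction.stabilizer_smul_eq_stabilizer_map_conj, MulAction.stabilizer_quotient, hg]
  rw [← Nat.card_congr (Equiv.ofBijective f ⟨hfinj, hfsurj⟩), Nat.card_sum,
    Nat.card_eq_fintype_card, Nat.card_eq_fintype_card, h6, hc0]

end count

end Cfsg.Agent.Helper96
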